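import Cfsg.Agent.OddHalf.SpTwoN.LBEx
import Cfsg.Agent.OddHalf.SpTwo.LongOut
import Cfsg.Agent.OddHalf.SpTwoN.Words
import Cfsg.Agent.StdSpSix.QLevel

-- merged: Cfsg.Agent.OddHalf.SpTwoN.PatM
section

/-!
# Pattern `{m}`: only the products of two commuting transvections are moved

There is no `n` normalising `Z = {1, b_p, a_{p,w}, m = b_p a_{p,w}}` with `t ^ n = t m`.
-/

set_option autoImplicit false

namespace Cfsg.Agent.OddHalf.SpTwoN.PatM

open Cfsg.Agent.StandardComponent.SpTwo Cfsg.Agent.OddHalf.SpTwoN.LBAlg Cfsg.Agent.OddHalf.SpTwoN.LBDef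
open Cfsg.Agent.OddHalf.SpTwoN.LBEx

section Alg

variable {X V : Type*} [Group X] [AddCommGroup V] [Module (ZMod 2) V] (D : SpData X V)

/-- stabiliser of `p` and of `w` modulo `p` -/
def St (p w : V) (g : X) : Prop := D.ρ g p = p ∧ ∃ e : ZMod 2, D.ρ g w = w + e • p

theorem St.mul {p w : V} {g h : X} (hg : St D p w g) (hh : St D p w h) : St D p w (g * h) := by
  obtain ⟨h1, e1, h2⟩ := hg
  obtain ⟨h3, e2, h4⟩ := hh
  refine ⟨by rw [D.ρ_mul, h3, h1], e1 + e2, ?_⟩
  rw [D.ρ_mul, h4, map_add, h2, map_smul, h1, add_smul, add_assoc]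

theorem St.one {p w : V} : St D p w (1 : X) := ⟨D.ρ_one p, 0, by rw [D.ρ_one, zero_smul, add_zero]⟩

/-- an involution all of whose conjugates commute centralises `L^⊥ / p` -/
theorem fix_of_comm [Finite V] {p w : V} (hp : p ≠ 0) (hw : w ≠ 0) (hpw : w ≠ p) (hB : D.B p w = 0) {l : X}
    (hl2 : l * l = 1) (hl : St D p w l)
    (hc : ∀ g h : X, St D p w g → St D p w h → Commute (g * l * g⁻¹) (h * l * h⁻¹))
    {y : V} (hy1 : D.B p y = 0) (hy2 : D.B w y = 0) : ∃ c : ZMod 2, D.ρ l y = y + c • p := by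
  by_contra hcon
  push Not at hcon
  obtain ⟨hlp, e, hlw⟩ := hl
  have hBw : D.B w p = 0 := (D.symm w p).trans hB
  have hli : l⁻¹ = l := inv_eq_of_mul_eq_one_right hl2
  -- `y ∉ L`
  have hyL : y ∉ Submodule.span (ZMod 2) ({p, w} : Set V) := by
    rw [mem_pair]
    rintro (rfl | rfl | rfl | rfl)
    · exact hcon 0 (by rw [map_zero, zero_smul, add_zero])
    · exact hcon 0 (by rw [hlp, zero_smul, add_zero])
    · exact hcon e hlw
    · apply hcon e
      rw [map_add, hlp, hlw]; abel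
  have hyp : D.B y p = 0 := (D.symm y p).trans hy1
  have hyw : D.B y w = 0 := (D.symm y w).trans hy2
  have hly1 : D.B p (D.ρ l y) = 0 := by
    nth_rw 1 [← hlp]
    rw [D.inv, hy1]
  have hly2 : D.B w (D.ρ l y) = 0 := by
    have h1 : w = D.ρ l w + e • p := by
      rw [hlw, add_assoc, aa, add_zero]
    nth_rw 1 [h1]
    rw [map_add, LinearMap.add_apply, D.inv, hy2, map_smul, LinearMap.smul_apply, hly1, smul_zero, add_zero]
  have hty : St D p w (D.τ y) := by
    refine ⟨by rw [D.hτ, hy1, zero_smul, add_zero], 0, ?_⟩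
    rw [D.hτ, hy2, zero_smul, zero_smul]
  have h4 : D.τ y * l * (D.τ y)⁻¹ = D.τ y * D.τ (D.ρ l y) * l := by
    rw [D.τ_inv, ← D.conj_τ]; group
  have he : D.τ y * l * (D.τ y)⁻¹ * l = D.τ y * D.τ (D.ρ l y) := by
    rw [h4, mul_assoc, hl2, mul_one]
  -- `y ⊥ l y`
  have h2 : D.B y (D.ρ l y) = 0 := by
    have h3 := hc 1 (D.τ y) (St.one D) hty
    rw [one_mul, inv_one, mul_one, h4] at h3
    have h5 : Commute l (D.τ y * D.τ (D.ρ l y)) := by
      have := h3.mul_right (Commute.refl l).inv_right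
      rwa [mul_inv_cancel_right] at this
    have h6 : l * (D.τ y * D.τ (D.ρ l y)) * l⁻¹ = D.τ (D.ρ l y) * D.τ y := by
      have e : l * (D.τ y * D.τ (D.ρ l y)) * l⁻¹ = (l * D.τ y * l⁻¹) * (l * D.τ (D.ρ l y) * l⁻¹) := by group
      rw [e, D.conj_τ, D.conj_τ, ← D.ρ_mul, hl2, D.ρ_one]
    rw [h5.eq, mul_inv_cancel_right] at h6
    exact (τ_commute_iff D).1 h6
  -- the conjugates of `e_y` commute
  have hee : ∀ g h : X, St D p w g → St D p w h →
      Commute (g * (D.τ y * D.τ (D.ρ l y)) * g⁻¹) (h * (D.τ y * D.τ (D.ρ l y)) * h⁻¹) := by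
    intro g h hg hh
    rw [← he]
    have e1 : ∀ g : X, g * (D.τ y * l * (D.τ y)⁻¹ * l) * g⁻¹ =
      (g * D.τ y) * l * (g * D.τ y)⁻¹ * (g * l * g⁻¹) := by intro g; group
    rw [e1, e1]
    exact ((hc _ _ (hg.mul D hty) (hh.mul D hty)).mul_right (hc _ _ (hg.mul D hty) hh)).mul_left
      ((hc _ _ hg (hh.mul D hty)).mul_right (hc _ _ hg hh))
  have hconj : ∀ g x z : X, g * (x * z) * g⁻¹ = (g * x * g⁻¹) * (g * z * g⁻¹) := by
    intro g x z; group
  by_cases hyl : y + D.ρ l y ∈ Submodule.span (ZMod 2) ({p, w} : Set V)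
  · -- case B
    obtain ⟨w1, hw1, hw1p, hw1y⟩ : ∃ w1, (w1 = w ∨ w1 = w + p) ∧ D.ρ l y = y + w1 ∧ w1 ≠ p := by
      rw [mem_pair] at hyl
      rcases hyl with h | h | h | h
      · exact absurd (by rw [zero_smul, add_zero]; exact (eq_of_add _ _ h).symm) (hcon 0)
      · refine absurd ?_ (hcon 1)
        rw [one_smul, ← h, aac]
      · refine ⟨w, Or.inl rfl, ?_, hpw⟩
        rw [← h, aac]
      · refine ⟨w + p, Or.inr rfl, ?_, ?_⟩
        · rw [add_comm w p, ← h, aac]
        · intro h'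
          exact hw (by simpa using h')
    have a1 : D.B w1 p = 0 := by rcases hw1 with rfl | rfl <;> simp [hBw, D.alt]
    have a1' : D.B p w1 = 0 := (D.symm p w1).trans a1
    have a2 : D.B w1 y = 0 := by
      rcases hw1 with rfl | rfl <;> simp only [map_add, LinearMap.add_apply, hy1, hy2, add_zero]
    have a2' : D.B y w1 = 0 := (D.symm y w1).trans a2
    have hw10 : w1 ≠ 0 := by
      rcases hw1 with rfl | rfl
      · exact hw
      · intro h; exact hpw (eq_of_add _ _ h)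
    obtain ⟨z, hz, hzy⟩ := exists_sep_sub D hyL
    have hzp : D.B p z = 0 := hz p (Submodule.subset_span (by simp))
    have hzw : D.B w z = 0 := hz w (Submodule.subset_span (by simp))
    have hzw1 : D.B w1 z = 0 := by rcases hw1 with rfl | rfl <;> simp [hzp, hzw]
    obtain ⟨f, hf1, hf2⟩ := D.exists_sep hw hpw
    rw [D.symm] at hf1 hf2
    have hfw1 : D.B w1 f = 1 := by rcases hw1 with rfl | rfl <;> simp [hf1, hf2]
    have hsz : St D p w (D.τ z) := by
      refine ⟨by rw [D.hτ, hzp, zero_smul, add_zero], 0, ?_⟩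
      rw [D.hτ, hzw, zero_smul, zero_smul]
    have hsf : St D p w (A D p f) := by
      refine ⟨?_, 1, ?_⟩
      · rw [A_apply D hf2, D.alt, hf2, zero_smul, zero_smul, add_zero, add_zero]
      · rw [A_apply D hf2, hBw, hf1, zero_smul, add_zero]
    have hey : D.τ y * D.τ (D.ρ l y) = D.τ w1 * A D w1 y := by
      rw [hw1p, τ_add D w1 y, ← mul_assoc, ← mul_assoc, D.τ_sq, one_mul]
    have hcm := hee (D.τ z) (A D p f) hsz hsf
    rw [hey, hconj, hconj, D.conj_τ, D.conj_τ, conj_A, conj_A] at hcm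
    have r1 : D.ρ (D.τ z) w1 = w1 := by rw [D.hτ, hzw1, zero_smul, add_zero]
    have r2 : D.ρ (D.τ z) y = y + z := by rw [D.hτ, hzy, one_smul]
    have r3 : D.ρ (A D p f) w1 = w1 + p := by
      rw [A_apply D hf2, a1, hfw1, zero_smul, one_smul, add_zero]
    have r4 : D.ρ (A D p f) y = y + D.B y f • p := by
      rw [A_apply D hf2, hyp, zero_smul, add_zero]
    rw [r1, r2, r3, r4] at hcm
    set c := D.B y f with hcdef
    -- conjugate the first by the second
    have o1 : D.B (w1 + p) (y + c • p) = 0 := by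
      simp only [map_add, LinearMap.add_apply, map_smul, a2, hy1, a1, D.alt, smul_zero, add_zero]
    have r5 : D.ρ (D.τ (w1 + p) * A D (w1 + p) (y + c • p)) w1 = w1 := by
      rw [D.ρ_mul, A_apply D o1, D.hτ]
      simp only [map_add, LinearMap.add_apply, map_smul, LinearMap.smul_apply, D.alt, a1, a1', a2, a2', hy1, hyp,
        smul_zero, add_zero, zero_smul]
    have r6 : D.ρ (D.τ (w1 + p) * A D (w1 + p) (y + c • p)) (y + z) = y + z + (w1 + p) := by
      have b1 : D.B (y + z) (w1 + p) = 0 := by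
        simp only [map_add, LinearMap.add_apply, a2', hyp, D.symm z w1, hzw1, D.symm z p, hzp, add_zero]
      have b2 : D.B (y + z) (y + c • p) = 1 := by
        simp only [map_add, LinearMap.add_apply, map_smul, D.alt, hyp, D.symm z y, hzy, D.symm z p, hzp, smul_zero,
          add_zero, zero_add]
      rw [D.ρ_mul, A_apply D o1, b1, b2, zero_smul, add_zero, one_smul, D.hτ]
      have b3 : D.B (y + z + (w1 + p)) (w1 + p) = 0 := by
        rw [D.B.map_add, LinearMap.add_apply, b1, D.alt, add_zero]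
      rw [b3, zero_smul, add_zero]
    set E2 := D.τ (w1 + p) * A D (w1 + p) (y + c • p) with hE2
    have h7 : E2 * (D.τ w1 * A D w1 (y + z)) * E2⁻¹ = D.τ w1 * A D w1 (y + z + (w1 + p)) := by
      rw [hconj, D.conj_τ, conj_A, r5, r6]
    rw [← hcm.eq, mul_inv_cancel_right] at h7
    obtain ⟨e', he'⟩ := Q_inj D (v := w1) (c := 1) (c' := 1) hw10
      (u := y + z) (u' := y + z + (w1 + p)) (by rw [map_add, a2, hzw1, add_zero])
      (by simp only [map_add, a2, hzw1, D.alt, a1, add_zero]) (by rw [one_smul]; exact h7)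
    have h8 := add_left_cancel he'
    rcases z2 e' with h9 | h9 <;> rw [h9] at h8
    · rw [zero_smul] at h8
      exact hw1y (eq_of_add _ _ h8)
    · rw [one_smul] at h8
      exact hp (by simpa using h8)
  · -- case A
    have hyK : y ∉ Submodule.span (ZMod 2) ({p, w} : Set V) ⊔ Submodule.span (ZMod 2) {D.ρ l y} := by
      rw [Submodule.mem_sup]
      rintro ⟨x, hx, x', hx', h⟩
      rw [Submodule.mem_span_singleton] at hx'
      obtain ⟨c, rfl⟩ := hx'
      rcases z2 c with hc0 | hc0 <;> rw [hc0] at h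
      · rw [zero_smul, add_zero] at h
        exact hyL (h ▸ hx)
      · rw [one_smul] at h
        apply hyl
        have h' : y + D.ρ l y = x := by
          calc y + D.ρ l y = (x + D.ρ l y) + D.ρ l y := by rw [h]
            _ = x := aab _ _
        rw [h']
        exact hx
    obtain ⟨z, hz, hzy⟩ := exists_sep_sub D hyK
    have hzp : D.B p z = 0 := hz p (Submodule.mem_sup_left (Submodule.subset_span (by simp)))
    have hzw : D.B w z = 0 := hz w (Submodule.mem_sup_left (Submodule.subset_span (by simp)))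
    have hzl : D.B (D.ρ l y) z = 0 := hz _ (Submodule.mem_sup_right (Submodule.mem_span_singleton_self _))
    have hsz : St D p w (D.τ z) := by
      refine ⟨by rw [D.hτ, hzp, zero_smul, add_zero], 0, ?_⟩
      rw [D.hτ, hzw, zero_smul, zero_smul]
    have hcm := hee 1 (D.τ z) (St.one D) hsz
    rw [one_mul, inv_one, mul_one, hconj, D.conj_τ, D.conj_τ, D.hτ, D.hτ, hzy, hzl, one_smul, zero_smul,
      add_zero] at hcm
    have hc1 : Commute (D.τ (D.ρ l y)) (D.τ y) := (τ_commute_iff D).2 ((D.symm _ _).trans h2)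
    have hc2 : Commute (D.τ (D.ρ l y)) (D.τ (y + z)) := by
      rw [τ_commute_iff, map_add, D.symm _ y, h2, hzl, add_zero]
    have hc3 : Commute (D.τ y) (D.τ (y + z) * D.τ (D.ρ l y)) := by
      have := hcm.mul_left (hc2.mul_right (Commute.refl _)).inv_left
      rwa [mul_inv_cancel_right] at this
    have hc4 : Commute (D.τ y) (D.τ (y + z)) := by
      have := hc3.mul_right hc1.symm.inv_right
      rwa [mul_inv_cancel_right] at this
    rw [τ_commute_iff, map_add, D.alt, hzy] at hc4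
    exact absurd hc4 (by decide)

end Alg

section Main

variable {G V : Type*} [Group G] [AddCommGroup V] [Module (ZMod 2) V]

/-- `n` normalises `Z = {1, b_p, a_{p,w}, b_p a_{p,w}}` and moves `t` to `t b_p a_{p,w}` -/
structure MvM (C : Ctx G V) (p w : V) (n : G) : Prop where
  hp : p ≠ 0
  hw : w ≠ 0
  hpw : w ≠ p
  hB : C.S.B p w = 0
  ht : n * C.t * n⁻¹ = C.t * (C.b p * a C p w)
  hm : n * (C.b p * a C p w) * n⁻¹ = C.b p * a C p w
  hb : n * C.b p * n⁻¹ = C.b p ∨ n * C.b p * n⁻¹ = a C p w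

variable {C : Ctx G V} {p w : V} {n : G}

/-- the centraliser of `t` and `Z` -/
def N1 (C : Ctx G V) (p w : V) (x : G) : Prop := Commute x C.t ∧ Commute x (C.b p) ∧ Commute x (a C p w)

namespace MvM

theorem N1_cases (M : MvM C p w n) {x : G} (h : N1 C p w x) :
    ∃ l : C.L, St C.S p w l ∧ (x = l ∨ x = C.t * l) := by
  obtain ⟨h1, h2, h3⟩ := h
  obtain ⟨l, hl, hx, ha⟩ := n1_conj_a h1 h2
  refine ⟨l, ⟨hl, ?_⟩, hx⟩
  have h4 := ha w
  rw [h3.eq, mul_inv_cancel_right] at h4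
  have hlw : C.S.B p (C.S.ρ l w) = 0 := by
    nth_rw 1 [← hl]
    rw [C.S.inv, M.hB]
  exact LBEx.Q_inj C.S (c := 0) (c' := 0) M.hp M.hB hlw (by
    rw [zero_smul, C.S.τ_zero, one_mul, one_mul]
    exact Subtype.ext h4)

theorem N1_of_St {l : C.L} (M : MvM C p w n) (h : St C.S p w l) : N1 C p w l := by
  obtain ⟨h1, e, h2⟩ := h
  have h3 := C.b_conj l p
  rw [h1, mul_inv_eq_iff_eq_mul] at h3
  have h4 := l_conj_a C l p w
  have h5 : a C p (w + e • p) = a C p w := by
    rcases z2 e with h | h <;> rw [h]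
    · rw [zero_smul, add_zero]
    · rw [one_smul, a_add_self C M.hB]
  rw [h1, h2, h5, mul_inv_eq_iff_eq_mul] at h4
  exact ⟨C.commute_of_mem l.2, h3, h4⟩

theorem hba (M : MvM C p w n) : n * a C p w * n⁻¹ = C.b p ∨ n * a C p w * n⁻¹ = a C p w := by
  have h1 : n * a C p w * n⁻¹ = (n * C.b p * n⁻¹)⁻¹ * (n * (C.b p * a C p w) * n⁻¹) := by group
  rw [h1, M.hm]
  rcases M.hb with h | h <;> rw [h]
  · right
    rw [inv_mul_cancel_left]
  · left
    rw [a_inv C M.hB, (b_a_comm C M.hB).eq, ← mul_assoc, a_sq C M.hB, one_mul]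

theorem htm (M : MvM C p w n) : n * (C.t * (C.b p * a C p w)) * n⁻¹ = C.t := by
  have e : n * (C.t * (C.b p * a C p w)) * n⁻¹ = (n * C.t * n⁻¹) * (n * (C.b p * a C p w) * n⁻¹) := by group
  have h1 : C.b p * a C p w * (C.b p * a C p w) = 1 := by
    calc C.b p * a C p w * (C.b p * a C p w) = C.b p * (a C p w * C.b p) * a C p w := by group
      _ = C.b p * C.b p * (a C p w * a C p w) := by rw [← (b_a_comm C M.hB).eq]; group
      _ = 1 := by rw [C.b_sq, a_sq C M.hB, one_mul]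
  rw [e, M.ht, M.hm, mul_assoc, h1, mul_one]

theorem inv (M : MvM C p w n) : MvM C p w n⁻¹ where
  hp := M.hp
  hw := M.hw
  hpw := M.hpw
  hB := M.hB
  ht := by
    have h := M.htm
    calc n⁻¹ * C.t * n⁻¹⁻¹ = n⁻¹ * (n * (C.t * (C.b p * a C p w)) * n⁻¹) * n⁻¹⁻¹ := by rw [h]
      _ = _ := by group
  hm := by
    have h := M.hm
    calc n⁻¹ * (C.b p * a C p w) * n⁻¹⁻¹ = n⁻¹ * (n * (C.b p * a C p w) * n⁻¹) * n⁻¹⁻¹ := by rw [h]
      _ = _ := by group
  hb := by
    rcases M.hb with h | h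
    · left
      calc n⁻¹ * C.b p * n⁻¹⁻¹ = n⁻¹ * (n * C.b p * n⁻¹) * n⁻¹⁻¹ := by rw [h]
        _ = _ := by group
    · right
      rcases M.hba with h1 | h1
      · calc n⁻¹ * C.b p * n⁻¹⁻¹ = n⁻¹ * (n * a C p w * n⁻¹) * n⁻¹⁻¹ := by rw [h1]
          _ = _ := by group
      · exfalso
        have h2 : C.b p = a C p w := by
          have := h.trans h1.symm
          exact mul_left_cancel (mul_right_cancel this)
        have h3 : LBAlg.A C.S p w = C.S.τ p := Subtype.ext h2.symm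
        obtain ⟨e, he⟩ := LBEx.Q_inj C.S (c := 1) (c' := 0) (u := 0) (u' := w) M.hp (map_zero _) M.hB (by
          rw [one_smul, zero_smul, A_zero, mul_one, C.S.τ_zero, one_mul, h3])
        rcases z2 e with h4 | h4 <;> rw [h4] at he
        · exact M.hw (by simpa using he)
        · exact M.hpw (by simpa using he)

theorem n1 (M : MvM C p w n) {x : G} (h : N1 C p w x) : N1 C p w (n * x * n⁻¹) := by
  obtain ⟨h1, h2, h3⟩ := h
  have h4 := comm_conj n (h1.mul_right (h2.mul_right h3))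
  rw [M.htm] at h4
  have h5 := comm_conj n h2
  have h6 := comm_conj n h3
  refine ⟨h4, ?_, ?_⟩
  · rcases M.hb with h | h
    · rw [h] at h5; exact h5
    · rcases M.hba with h' | h'
      · rw [h'] at h6; exact h6
      · -- `b_p = a`
        rw [← h', ← h] at h6
        have h7 := comm_conj n (h2.mul_right h3)
        rw [M.hm] at h7
        rw [h] at h5
        have := h7.mul_right h5.inv_right
        rwa [mul_inv_cancel_right] at this
  · rcases M.hba with h | h
    · rcases M.hb with h' | h'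
      · have h7 := comm_conj n (h2.mul_right h3)
        rw [M.hm] at h7
        rw [h'] at h5
        have := h5.inv_right.mul_right h7
        rwa [inv_mul_cancel_left] at this
      · rw [h'] at h5; exact h5
    · rw [h] at h6; exact h6

end MvM

/-- involutions of `N1` all of whose conjugates commute -/
structure CC (C : Ctx G V) (p w : V) (x : G) : Prop where
  n1 : N1 C p w x
  sq : x * x = 1
  comm : ∀ g h, N1 C p w g → N1 C p w h → Commute (g * x * g⁻¹) (h * x * h⁻¹)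

theorem N1.mul {x y : G} (hx : N1 C p w x) (hy : N1 C p w y) : N1 C p w (x * y) :=
  ⟨hx.1.mul_left hy.1, hx.2.1.mul_left hy.2.1, hx.2.2.mul_left hy.2.2⟩

theorem MvM.cc (M : MvM C p w n) {x : G} (h : CC C p w x) : CC C p w (n * x * n⁻¹) := by
  refine ⟨M.n1 h.n1, ?_, ?_⟩
  · calc n * x * n⁻¹ * (n * x * n⁻¹) = n * (x * x) * n⁻¹ := by group
      _ = 1 := by rw [h.sq]; group
  · intro g k hg hk
    have e : ∀ g, g * (n * x * n⁻¹) * g⁻¹ = n * ((n⁻¹ * g * n) * x * (n⁻¹ * g * n)⁻¹) * n⁻¹ := by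
      intro g; group
    have hg' := M.inv.n1 hg
    have hk' := M.inv.n1 hk
    rw [inv_inv] at hg' hk'
    rw [e, e]
    exact comm_conj n (h.comm _ _ hg' hk')

/-- elements of `CC` centralise `a_{p,y}`, `y ∈ L^⊥` -/
theorem CC.comm_a [Finite V] (M : MvM C p w n) {x : G} (h : CC C p w x) {y : V} (hy1 : C.S.B p y = 0)
    (hy2 : C.S.B w y = 0) : Commute x (a C p y) := by
  obtain ⟨l, hl, hx⟩ := M.N1_cases h.n1
  have hlt := (C.commute_of_mem l.2).eq
  have hl2 : l * l = 1 := by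
    apply Subtype.ext
    change (l : G) * l = 1
    have hsq := h.sq
    rcases hx with h | h
    · rw [← h]; exact hsq
    · rw [h] at hsq
      calc (l : G) * l = C.t * C.t * ((l : G) * l) := by rw [C.tt, one_mul]
        _ = C.t * (C.t * l) * l := by group
        _ = C.t * ((l : G) * C.t) * l := by rw [hlt]
        _ = C.t * l * (C.t * l) := by group
        _ = 1 := hsq
  have key : ∀ g : C.L, St C.S p w g →
      (g : G) * l * (g : G)⁻¹ = g * x * (g : G)⁻¹ ∨ (g : G) * l * (g : G)⁻¹ = C.t * (g * x * (g : G)⁻¹) := by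
    intro g hg
    rcases hx with h | h
    · left; rw [h]
    · right
      have hgt := (C.commute_of_mem g.2).eq
      rw [h]
      calc (g : G) * l * (g : G)⁻¹ = C.t * C.t * ((g : G) * l * (g : G)⁻¹) := by rw [C.tt, one_mul]
        _ = C.t * (C.t * g) * l * (g : G)⁻¹ := by group
        _ = C.t * ((g : G) * C.t) * l * (g : G)⁻¹ := by rw [hgt]
        _ = _ := by group
  have hc : ∀ g k : C.L, St C.S p w g → St C.S p w k → Commute (g * l * g⁻¹) (k * l * k⁻¹) := by
    intro g k hg hk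
    have h5 := h.comm _ _ (M.N1_of_St hg) (M.N1_of_St hk)
    have h6 : ∀ g : C.L, Commute ((g : G) * x * (g : G)⁻¹) C.t := by
      intro g
      have hgt := C.commute_of_mem g.2
      exact (hgt.mul_left h.n1.1).mul_left hgt.inv_left
    have h8 : Commute ((g * l * g⁻¹ : C.L) : G) ((k * l * k⁻¹ : C.L) : G) := by
      change Commute ((g : G) * l * (g : G)⁻¹) ((k : G) * l * (k : G)⁻¹)
      rcases key g hg with h3 | h3 <;> rcases key k hk with h4 | h4 <;> rw [h3, h4]
      · exact h5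
      · exact (h6 g).mul_right h5
      · exact (h6 k).symm.mul_left h5
      · exact ((Commute.refl _).mul_right (h6 k).symm).mul_left ((h6 g).mul_right h5)
    exact Subtype.ext h8
  obtain ⟨c, hc'⟩ := fix_of_comm C.S M.hp M.hw M.hpw M.hB hl2 hl hc hy1 hy2
  have h7 := l_conj_a C l p y
  have h8 : a C p (y + c • p) = a C p y := by
    rcases z2 c with h | h <;> rw [h]
    · rw [zero_smul, add_zero]
    · rw [one_smul, a_add_self C hy1]
  rw [hl.1, hc', h8, mul_inv_eq_iff_eq_mul] at h7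
  have h9 : Commute (l : G) (a C p y) := h7
  rcases hx with rfl | rfl
  · exact h9
  · exact ((a_comm_t C p y).symm).mul_left h9

theorem cc_a (M : MvM C p w n) {y : V} (hy : C.S.B p y = 0) : CC C p w (a C p y) := by
  refine ⟨⟨a_comm_t C p y, (b_a_comm C hy).symm, a_comm C hy M.hB⟩, a_sq C hy, ?_⟩
  intro g k hg hk
  obtain ⟨l, hl, -, h1⟩ := n1_conj_a hg.1 hg.2.1
  obtain ⟨m, hm, -, h2⟩ := n1_conj_a hk.1 hk.2.1
  rw [h1, h2]
  apply a_comm C
  · nth_rw 1 [← hl]
    rw [C.S.inv, hy]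
  · nth_rw 1 [← hm]
    rw [C.S.inv, hy]

theorem cc_b (M : MvM C p w n) : CC C p w (C.b w) := by
  have hBw : C.S.B w p = 0 := (C.S.symm w p).trans M.hB
  refine ⟨⟨b_comm_t C w, (C.b_commute_iff).2 hBw, ?_⟩, C.b_sq w, ?_⟩
  · rw [a_symm C M.hB]
    exact b_a_comm C hBw
  · intro g k hg hk
    have key : ∀ g, N1 C p w g → ∃ e : ZMod 2, g * C.b w * g⁻¹ = C.b (w + e • p) := by
      intro g hg
      obtain ⟨l, ⟨-, e, he⟩, hx⟩ := M.N1_cases hg
      refine ⟨e, ?_⟩
      rw [← he, ← C.b_conj]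
      rcases hx with rfl | rfl
      · rfl
      · have h3 := (C.commute_of_mem l.2).eq
        have h4 := (b_comm_t C w).eq
        calc C.t * (l : G) * C.b w * (C.t * (l : G))⁻¹ = (C.t * l) * C.b w * (l : G)⁻¹ * C.t⁻¹ := by group
          _ = (l * C.t) * C.b w * (l : G)⁻¹ * C.t⁻¹ := by rw [h3]
          _ = l * (C.t * C.b w) * (l : G)⁻¹ * C.t⁻¹ := by group
          _ = l * (C.b w * C.t) * (l : G)⁻¹ * C.t⁻¹ := by rw [h4]
          _ = l * C.b w * (C.t * (l : G)⁻¹) * C.t⁻¹ := by group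
          _ = l * C.b w * ((l : G)⁻¹ * C.t) * C.t⁻¹ := by rw [((C.commute_of_mem l.2).inv_left).eq]
          _ = _ := by group
    obtain ⟨e, he⟩ := key g hg
    obtain ⟨f, hf⟩ := key k hk
    rw [he, hf, C.b_commute_iff]
    simp only [map_add, LinearMap.add_apply, map_smul, LinearMap.smul_apply, C.S.alt, hBw, M.hB, smul_zero, add_zero]

/-- the elements of `CC` centralising `CC` -/
theorem mem_A (M : MvM C p w n) {x : G} (h : CC C p w x) (hx : ∀ y, CC C p w y → Commute x y) :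
    ∃ (u : V) (c : ZMod 2), C.S.B p u = 0 ∧ C.S.B w u = 0 ∧
      (x = C.b (c • p) * a C p u ∨ x = C.t * (C.b (c • p) * a C p u)) := by
  obtain ⟨l, hl, hxl⟩ := M.N1_cases h.n1
  have h1 : ∀ y, CC C p w y → Commute (l : G) y := by
    intro y hy
    have h2 := hx y hy
    rcases hxl with h3 | h3
    · rwa [h3] at h2
    · rw [h3] at h2
      have := (hy.n1.1.symm.inv_left).mul_left h2
      rwa [inv_mul_cancel_left] at this
  obtain ⟨u, c, hu, hlu⟩ := cent_Q C.S M.hp hl.1 (by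
    intro y hy
    have h2 := h1 _ (cc_a M hy)
    have h3 := l_conj_a C l p y
    rw [h2.eq, mul_inv_cancel_right, hl.1] at h3
    have hly : C.S.B p (C.S.ρ l y) = 0 := by
      nth_rw 1 [← hl.1]
      rw [C.S.inv, hy]
    exact LBEx.Q_inj C.S (c := 0) (c' := 0) M.hp hy hly (by
      rw [zero_smul, C.S.τ_zero, one_mul, one_mul]
      exact Subtype.ext h3))
  refine ⟨u, c, hu, ?_, ?_⟩
  · have h2 := h1 _ (cc_b M)
    have h3 : Commute (C.b w) (C.b (c • p)) := by
      rw [C.b_commute_iff, map_smul, C.S.symm w p, M.hB, smul_zero]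
    have h4 : Commute (C.b w) (a C p u) := by
      rw [hlu] at h2
      have h5 : Commute (C.b w) (C.b (c • p) * a C p u) := h2.symm
      have := h3.inv_right.mul_right h5
      rwa [inv_mul_cancel_left] at this
    have h5 := b_conj_a C (v := p) (u := u) M.hB
    rw [h4.eq, mul_inv_cancel_right] at h5
    rcases z2 (C.S.B w u) with h6 | h6
    · exact h6
    · exfalso
      rw [C.S.symm u w, h6, one_smul] at h5
      obtain ⟨e, he⟩ := LBEx.Q_inj C.S (c := 0) (c' := 0) (u := u) (u' := u + w) M.hp hu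
        (by rw [map_add, hu, M.hB, add_zero]) (by
          rw [zero_smul, C.S.τ_zero, one_mul, one_mul]
          exact Subtype.ext h5)
      have h7 := add_left_cancel he
      rcases z2 e with h8 | h8 <;> rw [h8] at h7
      · exact M.hw (by simpa using h7)
      · exact M.hpw (by simpa using h7)
  · rw [hlu] at hxl
    exact hxl

/-- the image of `a_{p,u}`, `u ∈ L^⊥ - L` -/
theorem exists_image [Finite V] (M : MvM C p w n) {u : V} (hu1 : C.S.B p u = 0) (hu2 : C.S.B w u = 0)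
    (huL : u ∉ Submodule.span (ZMod 2) ({p, w} : Set V)) :
    ∃ (u' : V) (c : ZMod 2), C.S.B p u' = 0 ∧ C.S.B w u' = 0 ∧ n * a C p u * n⁻¹ = C.b (c • p) * a C p u' := by
  have h1 := M.cc (cc_a M hu1)
  obtain ⟨u', c, h2, h3, h4⟩ := mem_A M h1 (by
    intro y hy
    have h5 := M.inv.cc hy
    have h6 := comm_conj n (h5.comm_a M hu1 hu2)
    have e : n * (n⁻¹ * y * n⁻¹⁻¹) * n⁻¹ = y := by group
    rw [e] at h6
    exact h6.symm)
  refine ⟨u', c, h2, h3, ?_⟩
  rcases h4 with h4 | h4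
  · exact h4
  exfalso
  obtain ⟨z, hz, hzu⟩ := exists_sep_sub C.S huL
  have hzp : C.S.B p z = 0 := hz p (Submodule.subset_span (by simp))
  have hzw : C.S.B w z = 0 := hz w (Submodule.subset_span (by simp))
  have h5 := Mv.comm_eq (C := C) (v := p) (w := u) (u := z) hu1 hzp ((C.S.symm z u).trans hzu)
  have hub : N1 C p w (C.b u) := by
    refine ⟨b_comm_t C u, (C.b_commute_iff).2 ((C.S.symm u p).trans hu1), ?_⟩
    have := b_conj_a C (v := p) (u := w) hu1
    rw [hu2, zero_smul, add_zero, mul_inv_eq_iff_eq_mul] at this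
    exact this
  have h6 := (M.n1 hub).1
  have h7 := (M.n1 (cc_a M hzp).n1).1
  have h8 : sg C ((n * C.b p * n⁻¹) * (n * a C p u * n⁻¹)) = 0 := by
    rw [← Mv.sg_comm h6 h7]
    congr 1
    calc (n * C.b p * n⁻¹) * (n * a C p u * n⁻¹) = n * (C.b p * a C p u) * n⁻¹ := by group
      _ = _ := by rw [h5]; group
  have h9 : n * C.b p * n⁻¹ ∈ C.L := by
    rcases M.hb with h | h <;> rw [h]
    · exact C.b_mem p
    · exact a_mem C p w
  rw [sg_mul C (C.commute_of_mem h9) (M.n1 (cc_a M hu1).n1).1, sg_of_mem C h9, h4,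
    sg_t_mul C (C.L.mul_mem (C.b_mem _) (a_mem C p u'))] at h8
  exact absurd h8 (by decide)

theorem card_single_le [Finite V] (x : V) : Nat.card (Submodule.span (ZMod 2) {x}) ≤ 2 := by
  have h := card_span_le (V := V) ({x} : Finset V)
  rw [Finset.coe_singleton, Finset.card_singleton, pow_one] at h
  exact h

theorem card_pair_le [Finite V] (x y : V) : Nat.card (Submodule.span (ZMod 2) ({x, y} : Set V)) ≤ 4 := by
  classical
  have h := card_span_le (V := V) ({x, y} : Finset V)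
  rw [Finset.coe_pair] at h
  exact h.trans (Nat.pow_le_pow_right (by norm_num) Finset.card_le_two)

theorem card_sup_le [Finite V] (S T : Submodule (ZMod 2) V) : Nat.card (S ⊔ T : Submodule (ZMod 2) V) ≤
    Nat.card S * Nat.card T := by
  rw [← Nat.card_prod]
  apply Nat.card_le_card_of_surjective (fun x : S × T => (⟨(x.1 : V) + x.2,
    Submodule.add_mem_sup x.1.2 x.2.2⟩ : (S ⊔ T : Submodule (ZMod 2) V)))
  rintro ⟨x, hx⟩
  obtain ⟨s, hs, t, ht, rfl⟩ := Submodule.mem_sup.1 hx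
  exact ⟨(⟨s, hs⟩, ⟨t, ht⟩), rfl⟩

theorem b_smul_cases (c : ZMod 2) (v : V) : C.b (c • v) = 1 ∨ C.b (c • v) = C.b v := by
  rcases z2 c with h | h <;> rw [h]
  · left; rw [zero_smul, C.b_zero]
  · right; rw [one_smul]

/-- `n` maps `a_{p,u}` to `b_p a_{p,u'}` -/
theorem exists_image' [Finite V] (M : MvM C p w n)
    (hna : ∀ v w, v ≠ 0 → w ≠ 0 → v ≠ w → C.S.B v w = 0 → C.t * a C v w ∉ C.D)
    (hm : ∀ v w, v ≠ 0 → w ≠ 0 → v ≠ w → C.S.B v w = 0 → C.t * (C.b v * C.b w) ∈ C.D)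
    {u : V} (hu1 : C.S.B p u = 0) (hu2 : C.S.B w u = 0)
    (huL : u ∉ Submodule.span (ZMod 2) ({p, w} : Set V)) :
    ∃ u' : V, C.S.B p u' = 0 ∧ C.S.B w u' = 0 ∧ n * a C p u * n⁻¹ = C.b p * a C p u' := by
  obtain ⟨u', c, h1, h2, h3⟩ := exists_image M hu1 hu2 huL
  refine ⟨u', h1, h2, ?_⟩
  rcases z2 c with hc | hc
  swap
  · rw [h3, hc, one_smul]
  exfalso
  rw [hc, zero_smul, C.b_zero, one_mul] at h3
  have hu0 : u ≠ 0 := by rintro rfl; exact huL (zero_mem _)
  have hup : p ≠ u := by rintro rfl; exact huL (Submodule.subset_span (by simp))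
  have hna1 := hna p u M.hp hu0 hup hu1
  -- conjugate
  have h4 : n * (C.t * a C p u) * n⁻¹ = C.t * (C.b p * a C p (w + u')) := by
    calc n * (C.t * a C p u) * n⁻¹ = (n * C.t * n⁻¹) * (n * a C p u * n⁻¹) := by group
      _ = C.t * (C.b p * (a C p w * a C p u')) := by rw [M.ht, h3]; group
      _ = _ := by rw [a_mul C M.hB h1, h2, zero_smul, C.b_zero, one_mul]
  -- `w + u' ∉ ⟨p⟩`
  have h5 : w + u' ≠ 0 ∧ w + u' ≠ p := by
    have key : a C p u' = a C p w → False := by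
      intro h
      rw [h] at h3
      have h6 : a C p u = n⁻¹ * a C p w * n⁻¹⁻¹ := by rw [← h3]; group
      rcases M.inv.hba with h7 | h7 <;> rw [h7] at h6
      · obtain ⟨e, he⟩ := LBEx.Q_inj C.S (c := 0) (c' := 1) (u := u) (u' := 0) M.hp hu1 (map_zero _) (by
          rw [zero_smul, one_smul, C.S.τ_zero, one_mul, A_zero, mul_one]
          exact Subtype.ext h6)
        rcases z2 e with h8 | h8 <;> rw [h8] at he
        · exact hu0 (by simpa using he.symm)
        · rw [one_smul] at he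
          exact hup (eq_of_add _ _ he.symm).symm
      · obtain ⟨e, he⟩ := LBEx.Q_inj C.S (c := 0) (c' := 0) (u := u) (u' := w) M.hp hu1 M.hB (by
          rw [zero_smul, C.S.τ_zero, one_mul, one_mul]
          exact Subtype.ext h6)
        apply huL
        rw [mem_pair]
        rcases z2 e with h8 | h8 <;> rw [h8] at he
        · right; right; left
          rw [he, zero_smul, add_zero]
        · right; right; right
          rw [he, one_smul, add_comm u p, aac]
    constructor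
    · intro h
      apply key
      rw [eq_of_add _ _ h]
    · intro h
      apply key
      have : u' = w + p := by rw [← h, aac]
      rw [this, a_add_self C M.hB]
  have h6 : C.S.B p (w + u') = 0 := by rw [map_add, M.hB, h1, add_zero]
  have h7 := hm (w + u') (p + (w + u')) h5.1 (fun h => h5.2 (eq_of_add _ _ h).symm)
    (fun h => M.hp (by simpa using h.symm)) (by
      rw [map_add, C.S.alt, C.S.symm, h6, add_zero])
  have h8 : C.b (w + u') * C.b (p + (w + u')) = C.b p * a C p (w + u') := by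
    rw [a_eq, ← mul_assoc, ← mul_assoc, C.b_sq, one_mul]
  rw [h8, ← h4] at h7
  exact hna1 ((C.D_conj_iff n).1 h7)

/-- **Pattern `{m}` is impossible.** -/
theorem false_of [Finite V] (hV : 256 ≤ Nat.card V) (M : MvM C p w n)
    (hna : ∀ v w, v ≠ 0 → w ≠ 0 → v ≠ w → C.S.B v w = 0 → C.t * a C v w ∉ C.D)
    (hm : ∀ v w, v ≠ 0 → w ≠ 0 → v ≠ w → C.S.B v w = 0 → C.t * (C.b v * C.b w) ∈ C.D) : False := by
  classical
  set L : Submodule (ZMod 2) V := Submodule.span (ZMod 2) ({p, w} : Set V) with hL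
  have hLc : Nat.card L ≤ 4 := card_pair_le p w
  have hpL : p ∈ L := Submodule.subset_span (by simp)
  have hwL : w ∈ L := Submodule.subset_span (by simp)
  obtain ⟨u1, k1, n1⟩ := exists_out C.S (K := L) (M := L) (by
    have := Nat.mul_le_mul hLc hLc
    omega)
  obtain ⟨u2, k2, n2⟩ := exists_out C.S (K := L) (M := L ⊔ Submodule.span (ZMod 2) {u1}) (by
    have h1 := (card_sup_le L (Submodule.span (ZMod 2) {u1})).trans (Nat.mul_le_mul hLc (card_single_le u1))
    have := Nat.mul_le_mul h1 hLc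
    omega)
  obtain ⟨u3, k3, n3⟩ := exists_out C.S (K := L)
    (M := (L ⊔ Submodule.span (ZMod 2) {u1}) ⊔ Submodule.span (ZMod 2) {u2}) (by
    have h1 := (card_sup_le L (Submodule.span (ZMod 2) {u1})).trans (Nat.mul_le_mul hLc (card_single_le u1))
    have h2 := (card_sup_le (L ⊔ Submodule.span (ZMod 2) {u1}) (Submodule.span (ZMod 2) {u2})).trans
      (Nat.mul_le_mul h1 (card_single_le u2))
    have := Nat.mul_le_mul h2 hLc
    omega)
  have m1 : u1 ∈ L ⊔ Submodule.span (ZMod 2) {u1} :=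
    Submodule.mem_sup_right (Submodule.mem_span_singleton_self _)
  have m2 : u2 ∈ (L ⊔ Submodule.span (ZMod 2) {u1}) ⊔ Submodule.span (ZMod 2) {u2} :=
    Submodule.mem_sup_right (Submodule.mem_span_singleton_self _)
  have m1' : u1 ∈ (L ⊔ Submodule.span (ZMod 2) {u1}) ⊔ Submodule.span (ZMod 2) {u2} :=
    Submodule.mem_sup_left m1
  have l1 : ∀ x ∈ L, x ∈ L ⊔ Submodule.span (ZMod 2) {u1} := fun x hx => Submodule.mem_sup_left hx
  have l2 : ∀ x ∈ L, x ∈ (L ⊔ Submodule.span (ZMod 2) {u1}) ⊔ Submodule.span (ZMod 2) {u2} :=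
    fun x hx => Submodule.mem_sup_left (l1 x hx)
  have n2' : u2 ∉ L := fun h => n2 (l1 _ h)
  have n3' : u3 ∉ L := fun h => n3 (l2 _ h)
  have n12 : u1 + u2 ∉ L := fun h => n2 (by
    have := add_mem (l1 _ h) m1
    rwa [add_comm u1 u2, aab] at this)
  have n13 : u1 + u3 ∉ L := fun h => n3 (by
    have := add_mem (l2 _ h) m1'
    rwa [add_comm u1 u3, aab] at this)
  have n23 : u2 + u3 ∉ L := fun h => n3 (by
    have := add_mem (l2 _ h) m2
    rwa [add_comm u2 u3, aab] at this)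
  have n123 : u1 + (u2 + u3) ∉ L := fun h => n3 (by
    have := add_mem (l2 _ h) (add_mem m1' m2)
    rwa [show u1 + (u2 + u3) + (u1 + u2) = u3 + (u1 + u2) + (u1 + u2) by abel, aab] at this)
  -- the map `β`
  have hβ : ∀ u : V, ∃ u' : V, (∀ k ∈ L, C.S.B k u = 0) → u ∉ L →
      (C.S.B p u' = 0 ∧ C.S.B w u' = 0 ∧ n * a C p u * n⁻¹ = C.b p * a C p u') := by
    intro u
    by_cases h1 : ∀ k ∈ L, C.S.B k u = 0
    · by_cases h2 : u ∈ L
      · exact ⟨0, fun _ h => absurd h2 h⟩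
      · obtain ⟨u', h⟩ := exists_image' M hna hm (h1 p hpL) (h1 w hwL) h2
        exact ⟨u', fun _ _ => h⟩
    · exact ⟨0, fun h => absurd h h1⟩
  choose β hβ using hβ
  have hBwp : C.S.B w p = 0 := (C.S.symm w p).trans M.hB
  -- the product relation
  have key : ∀ u u' : V, (∀ k ∈ L, C.S.B k u = 0) → u ∉ L → (∀ k ∈ L, C.S.B k u' = 0) → u' ∉ L → u + u' ∉ L →
      (n * C.b p * n⁻¹ = C.b p → C.S.B (β u) (β u') = C.S.B u u' + 1 ∧
        ∃ e : ZMod 2, β (u + u') = β u + β u' + e • p) ∧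
      (n * C.b p * n⁻¹ = a C p w → C.S.B (β u) (β u') = 1 ∧
        ∃ e f : ZMod 2, β (u + u') = β u + β u' + f • w + e • p) := by
    intro u u' hu huL hu' hu'L huu
    obtain ⟨a1, a2, a3⟩ := hβ u hu huL
    obtain ⟨b1, b2, b3⟩ := hβ u' hu' hu'L
    obtain ⟨c1, c2, c3⟩ := hβ (u + u') (fun k hk => by rw [map_add, hu k hk, hu' k hk, add_zero]) huu
    have e1 : n * (a C p u * a C p u') * n⁻¹ = C.b (C.S.B (β u) (β u') • p) * a C p (β u + β u') := by
      rw [← a_mul C a1 b1]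
      calc n * (a C p u * a C p u') * n⁻¹ = (n * a C p u * n⁻¹) * (n * a C p u' * n⁻¹) := by group
        _ = C.b p * (a C p (β u) * C.b p) * a C p (β u') := by rw [a3, b3]; group
        _ = C.b p * (C.b p * a C p (β u)) * a C p (β u') := by rw [(b_a_comm C a1).eq]
        _ = (C.b p * C.b p) * (a C p (β u) * a C p (β u')) := by group
        _ = _ := by rw [C.b_sq, one_mul]
    have e2 : n * (a C p u * a C p u') * n⁻¹ =
        (n * C.b (C.S.B u u' • p) * n⁻¹) * (C.b p * a C p (β (u + u'))) := by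
      rw [a_mul C (hu p hpL) (hu' p hpL), ← c3]
      group
    rw [e1] at e2
    constructor
    · intro hb
      have e3 : n * C.b (C.S.B u u' • p) * n⁻¹ = C.b (C.S.B u u' • p) := by
        rcases b_smul_cases (C := C) (C.S.B u u') p with h | h <;> rw [h]
        · group
        · exact hb
      have e4 : C.b (C.S.B u u' • p) * C.b p = C.b ((C.S.B u u' + 1) • p) := by
        rcases z2 (C.S.B u u') with h | h <;> rw [h]
        · rw [zero_smul, C.b_zero, one_mul, zero_add, one_smul]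
        · rw [one_smul, C.b_sq, show (1 : ZMod 2) + 1 = 0 from by decide, zero_smul, C.b_zero]
      rw [e3, ← mul_assoc, e4] at e2
      have e5 : C.S.τ (C.S.B (β u) (β u') • p) * LBAlg.A C.S p (β u + β u') =
        C.S.τ ((C.S.B u u' + 1) • p) * LBAlg.A C.S p (β (u + u')) := Subtype.ext e2
      obtain ⟨e, he⟩ := LBEx.Q_inj C.S M.hp (by rw [map_add, a1, b1, add_zero]) c1 e5
      refine ⟨?_, e, he⟩
      have e6 : LBAlg.A C.S p (β (u + u')) = LBAlg.A C.S p (β u + β u') := by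
        rw [he]
        rcases z2 e with h | h <;> rw [h]
        · rw [zero_smul, add_zero]
        · rw [one_smul, A_add_self C.S (by rw [map_add, a1, b1, add_zero])]
      rw [e6] at e5
      have e7 := C.S.τ_injective (mul_right_cancel e5)
      by_contra hne
      have : C.S.B (β u) (β u') + (C.S.B u u' + 1) = 1 := by
        clear * - hne
        generalize C.S.B (β u) (β u') = c at hne ⊢
        generalize C.S.B u u' + 1 = d at hne ⊢
        revert c d
        decide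
      apply M.hp
      calc p = (C.S.B (β u) (β u') + (C.S.B u u' + 1)) • p := by rw [this, one_smul]
        _ = 0 := by rw [add_smul, e7, aa]
    · intro hb
      have e3 : n * C.b (C.S.B u u' • p) * n⁻¹ = a C p (C.S.B u u' • w) := by
        rcases z2 (C.S.B u u') with h | h <;> rw [h]
        · rw [zero_smul, zero_smul, C.b_zero, a_zero]; group
        · rw [one_smul, one_smul]
          exact hb
      have o1 : C.S.B p (C.S.B u u' • w) = 0 := by rw [map_smul, M.hB, smul_zero]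
      have e4 : a C p (C.S.B u u' • w) * (C.b p * a C p (β (u + u'))) =
          C.b ((1 : ZMod 2) • p) * a C p (C.S.B u u' • w + β (u + u')) := by
        rw [one_smul]
        calc a C p (C.S.B u u' • w) * (C.b p * a C p (β (u + u'))) =
            (a C p (C.S.B u u' • w) * C.b p) * a C p (β (u + u')) := by group
          _ = (C.b p * a C p (C.S.B u u' • w)) * a C p (β (u + u')) := by rw [(b_a_comm C o1).eq]
          _ = C.b p * (a C p (C.S.B u u' • w) * a C p (β (u + u'))) := by group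
          _ = _ := by
            rw [a_mul C o1 c1, map_smul, LinearMap.smul_apply, c2, smul_zero, zero_smul, C.b_zero, one_mul]
      rw [e3, e4] at e2
      have e5 : C.S.τ (C.S.B (β u) (β u') • p) * LBAlg.A C.S p (β u + β u') =
        C.S.τ ((1 : ZMod 2) • p) * LBAlg.A C.S p (C.S.B u u' • w + β (u + u')) := Subtype.ext e2
      obtain ⟨e, he⟩ := LBEx.Q_inj C.S M.hp (by rw [map_add, a1, b1, add_zero])
        (by rw [map_add, o1, c1, add_zero]) e5
      refine ⟨?_, e, C.S.B u u', ?_⟩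
      · have e6 : LBAlg.A C.S p (C.S.B u u' • w + β (u + u')) = LBAlg.A C.S p (β u + β u') := by
          rw [he]
          rcases z2 e with h | h <;> rw [h]
          · rw [zero_smul, add_zero]
          · rw [one_smul, A_add_self C.S (by rw [map_add, a1, b1, add_zero])]
        rw [e6] at e5
        have e7 := C.S.τ_injective (mul_right_cancel e5)
        rcases z2 (C.S.B (β u) (β u')) with h | h
        · rw [h, zero_smul, one_smul] at e7
          exact absurd e7.symm M.hp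
        · exact h
      · have e8 : β (u + u') = C.S.B u u' • w + (C.S.B u u' • w + β (u + u')) := (aac _ _).symm
        rw [e8, he]
        abel
  have k23 : ∀ k ∈ L, C.S.B k (u2 + u3) = 0 := fun k hk => by rw [map_add, k2 k hk, k3 k hk, add_zero]
  obtain ⟨a1, a2, -⟩ := hβ u1 k1 n1
  have a1' : C.S.B (β u1) p = 0 := (C.S.symm _ _).trans a1
  have a2' : C.S.B (β u1) w = 0 := (C.S.symm _ _).trans a2
  rcases M.hb with hb | hb
  · have h1 := ((key u1 u2 k1 n1 k2 n2' n12).1 hb).1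
    have h2 := ((key u1 u3 k1 n1 k3 n3' n13).1 hb).1
    have h3 := ((key u1 (u2 + u3) k1 n1 k23 n23 n123).1 hb).1
    obtain ⟨e, he⟩ := ((key u2 u3 k2 n2' k3 n3' n23).1 hb).2
    rw [he, map_add, map_add, map_smul, a1', smul_zero, add_zero, h1, h2, map_add] at h3
    generalize C.S.B u1 u2 = c at *
    generalize C.S.B u1 u3 = d at *
    clear * - h3
    revert c d
    decide
  · have h1 := ((key u1 u2 k1 n1 k2 n2' n12).2 hb).1
    have h2 := ((key u1 u3 k1 n1 k3 n3' n13).2 hb).1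
    have h3 := ((key u1 (u2 + u3) k1 n1 k23 n23 n123).2 hb).1
    obtain ⟨e, f, he⟩ := ((key u2 u3 k2 n2' k3 n3' n23).2 hb).2
    rw [he, map_add, map_add, map_add, map_smul, map_smul, a1', a2', smul_zero, smul_zero, add_zero, add_zero, h1,
      h2] at h3
    exact absurd h3 (by decide)

end Main

end Cfsg.Agent.OddHalf.SpTwoN.PatM

end

-- merged: Cfsg.Agent.OddHalf.SpTwoN.LBStart
section

/-!
# The start: exactly one pattern or all of them

`S` a Sylow 2-subgroup of `L`, stabilising the flag `⟨v⟩ < ⟨v, w⟩`; `z f e = q v (f • w) e` are the elements of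
`Ω₁ Z(S) = Z`.  `Flag.norm_z`: an element normalising `⟨t⟩ × S` normalises `Z`; `Flag.fix_z`: if it maps `t` to `t z`, it
fixes `z`; `Flag.mem_add`: if `t z`, `t z'` are conjugates of `t`, so is `t z z'`.  `start`: one of the classes
`L`, `S`, `P` only, or all three; `start_P`: only `P` is impossible.
-/

set_option autoImplicit false
set_option linter.unusedSimpArgs false

open scoped commutatorElement

namespace Cfsg.Agent.OddHalf.SpTwoN.LBStart

open Cfsg.Agent.StandardComponent.SpTwo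
open Cfsg.Agent.OddHalf.SpTwo
open Cfsg.Agent.OddHalf.SpTwoN

variable {G V : Type*} [Group G] [AddCommGroup V] [Module (ZMod 2) V] {C : Ctx G V}

/-- the flag stabilised by a Sylow 2-subgroup of `L` -/
structure Flag (C : Ctx G V) (S : Sylow 2 C.L) (v w : V) : Prop where
  hv : v ≠ 0
  hvw : C.S.B v w = 0
  hw : w ∉ ln v
  hS1 : (S : Subgroup C.L) ≤ PU C.S (ln v)
  hS2 : (S : Subgroup C.L) ≤ PU C.S (pl v w)

namespace Flag

variable {S : Sylow 2 C.L} {v w : V} (F : Flag C S v w)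

include F

theorem hwv : C.S.B w v = 0 := by rw [C.S.symm]; exact F.hvw

theorem hfw (f : ZMod 2) : C.S.B (f • w) v = 0 := by
  rw [map_smul, LinearMap.smul_apply, F.hwv, smul_zero]

theorem z_mul (f e f' e' : ZMod 2) :
    q C.S v (f • w) e * q C.S v (f' • w) e' = q C.S v ((f + f') • w) (e + e') := by
  rw [q_mul C.S (F.hfw f) (F.hfw f'), ← add_smul, map_smul, map_smul, LinearMap.smul_apply, C.S.alt, smul_zero,
    smul_zero, add_zero]

theorem z_inj [Finite V] {f e f' e' : ZMod 2} (h : q C.S v (f • w) e = q C.S v (f' • w) e') : f = f' ∧ e = e' := by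
  obtain ⟨h1, h2⟩ := q_inj C.S F.hv (F.hfw f) (F.hfw f') h
  refine ⟨?_, h2⟩
  rw [← add_smul] at h1
  rcases z2 (f + f') with h3 | h3
  · exact eq_of_add _ _ h3
  · rw [h3, one_smul] at h1
    exact absurd h1 F.hw

theorem z_cen [Finite V] (f e : ZMod 2) {s : C.L} (hs : s ∈ (S : Subgroup C.L)) :
    q C.S v (f • w) e * s = s * q C.S v (f • w) e := by
  have hb := ((commute_b_iff C.S F.hv).2 (F.hS1 hs)).symm
  have hs' := ((commute_s_iff C.S F.hv F.hw F.hvw).2 (F.hS2 hs)).symm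
  have h0 : ∀ e' : ZMod 2, q C.S v 0 e' * s = s * q C.S v 0 e' := by
    intro e'
    rcases z2 e' with rfl | rfl
    · rw [q_zero, one_mul, mul_one]
    · exact hb
  rcases z2 f with rfl | rfl
  · rw [zero_smul]; exact h0 e
  · rw [one_smul]
    have h1 : q C.S v w e = q C.S v w 0 * q C.S v 0 e := by
      rw [q_mul C.S F.hwv (B_zero C.S v)]; simp
    rw [h1, mul_assoc, h0, ← mul_assoc, hs', mul_assoc]

theorem norm_z [Finite G] {n : G}
    (hn : (TX C (S : Subgroup C.L)).map (MulAut.conj n).toMonoidHom = TX C (S : Subgroup C.L)) (f e : ZMod 2) :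
    ∃ f' e' : ZMod 2, n * (q C.S v (f • w) e : C.L) * n⁻¹ = (q C.S v (f' • w) e' : C.L) := by
  have hfinV := C.finV
  have h256 := C.cardV
  have hQ1 := QU_le_of_sylow C.S S (ln_ti C.S v) F.hS1
  have hQ2 := QU_le_of_sylow C.S S (pl_ti C.S F.hvw) F.hS2
  have hzS : q C.S v (f • w) e ∈ ⁅(S : Subgroup C.L), (S : Subgroup C.L)⁆ :=
    mem_commutator C.S h256 F.hv F.hvw F.hw hQ1 hQ2 f e
  have hzT : ((q C.S v (f • w) e : C.L) : G) ∈ ⁅TX C (S : Subgroup C.L), TX C (S : Subgroup C.L)⁆ := by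
    have h1 : (S : Subgroup C.L).map C.L.subtype ≤ TX C (S : Subgroup C.L) := by
      rintro x ⟨y, hy, rfl⟩
      exact (coe_mem_TX C).2 hy
    have h2 : ((q C.S v (f • w) e : C.L) : G) ∈
        (⁅(S : Subgroup C.L), (S : Subgroup C.L)⁆).map C.L.subtype := ⟨_, hzS, rfl⟩
    rw [Subgroup.map_commutator] at h2
    exact Subgroup.commutator_mono h1 h1 h2
  have hzn : n * (q C.S v (f • w) e : C.L) * n⁻¹ ∈ ⁅TX C (S : Subgroup C.L), TX C (S : Subgroup C.L)⁆ := by
    have h2 : n * (q C.S v (f • w) e : C.L) * n⁻¹ ∈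
        (⁅TX C (S : Subgroup C.L), TX C (S : Subgroup C.L)⁆).map (MulAut.conj n).toMonoidHom := ⟨_, hzT, rfl⟩
    rwa [Subgroup.map_commutator, hn] at h2
  obtain ⟨z', hz'S, hz'⟩ := commutator_TX_le C _ hzn
  replace hz' : (z' : G) = n * (q C.S v (f • w) e : C.L) * n⁻¹ := hz'
  have hz'c : ∀ s ∈ (S : Subgroup C.L), z' * s = s * z' := by
    intro s hs
    have h1 : (s : G) ∈ (TX C (S : Subgroup C.L)).map (MulAut.conj n).toMonoidHom := by
      rw [hn]; exact (coe_mem_TX C).2 hs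
    obtain ⟨x, ⟨y, hy, hxy⟩, hx⟩ := h1
    replace hx : n * x * n⁻¹ = s := hx
    have h2 : ((q C.S v (f • w) e : C.L) : G) * x = x * (q C.S v (f • w) e : C.L) := by
      have h3 : ((q C.S v (f • w) e : C.L) : G) * y = y * (q C.S v (f • w) e : C.L) :=
        congrArg Subtype.val (F.z_cen f e hy)
      rcases hxy with rfl | rfl
      · exact h3
      · rw [← mul_assoc, t_comm, mul_assoc, h3, mul_assoc]
    apply Subtype.ext
    change (z' : G) * s = s * z'
    rw [hz', ← hx]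
    calc n * (q C.S v (f • w) e : C.L) * n⁻¹ * (n * x * n⁻¹)
        = n * ((q C.S v (f • w) e : C.L) * x) * n⁻¹ := by group
      _ = n * (x * (q C.S v (f • w) e : C.L)) * n⁻¹ := by rw [h2]
      _ = _ := by group
  obtain ⟨f', e', hfe'⟩ := of_commute_S C.S h256 F.hv F.hvw F.hw hQ1 hQ2 hz'c
  exact ⟨f', e', by rw [← hz', hfe']⟩

/-- the three centralizers have different orders -/
theorem eq_of_card [Finite G] {f e f' e' : ZMod 2} (h0 : f ≠ 0 ∨ e ≠ 0) (h0' : f' ≠ 0 ∨ e' ≠ 0)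
    (h : Nat.card (Subgroup.centralizer {(q C.S v (f • w) e : C.L)}) =
      Nat.card (Subgroup.centralizer {(q C.S v (f' • w) e' : C.L)})) : f = f' ∧ e = e' := by
  have hfinV := C.finV
  have h256 := C.cardV
  have c1 := card_lt_PU_ln C.S h256 F.hv F.hw F.hvw
  have c2 := card_PU_pl_le C.S F.hv F.hw F.hvw
  have c3 := card_lt_PU_pl C.S F.hv F.hw F.hvw
  have hcb : Subgroup.centralizer {q C.S v 0 1} = PU C.S (ln v) := by
    ext x
    rw [Subgroup.mem_centralizer_singleton_iff]; exact commute_b_iff C.S F.hv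
  have hcs : Subgroup.centralizer {q C.S v w 0} = PU C.S (pl v w) := by
    ext x
    rw [Subgroup.mem_centralizer_singleton_iff]; exact commute_s_iff C.S F.hv F.hw F.hvw
  have hcc : Subgroup.centralizer {q C.S v w 1} = PU C.S (ln v) ⊓ PU C.S (pl v w) := by
    ext x
    rw [Subgroup.mem_centralizer_singleton_iff]; exact commute_c_iff C.S F.hv F.hw F.hvw
  have hpos : 0 < Nat.card (PU C.S (ln v) ⊓ PU C.S (pl v w) : Subgroup C.L) := Nat.card_pos
  have hne0 : ¬ ((0 : ZMod 2) ≠ 0 ∨ (0 : ZMod 2) ≠ 0) := by simp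
  rcases z2 f with rfl | rfl <;> rcases z2 e with rfl | rfl <;> rcases z2 f' with rfl | rfl <;>
    rcases z2 e' with rfl | rfl <;> simp only [zero_smul, one_smul] at h <;>
    first
    | exact ⟨rfl, rfl⟩
    | exact absurd h0 hne0
    | exact absurd h0' hne0
    | (exfalso; simp only [hcb, hcs, hcc] at h; omega)

/-- an element normalising `⟨t⟩ × S` and mapping `t` to `t z` fixes `z` -/
theorem fix_z [Finite G] {n : G}
    (hn : (TX C (S : Subgroup C.L)).map (MulAut.conj n).toMonoidHom = TX C (S : Subgroup C.L)) {f e : ZMod 2}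
    (hfe : f ≠ 0 ∨ e ≠ 0) (ht : n * C.t * n⁻¹ = C.t * (q C.S v (f • w) e : C.L)) :
    n * (q C.S v (f • w) e : C.L) * n⁻¹ = (q C.S v (f • w) e : C.L) := by
  have hfinV := C.finV
  have hn' : (TX C (S : Subgroup C.L)).map (MulAut.conj n⁻¹).toMonoidHom = TX C (S : Subgroup C.L) := by
    conv_lhs => rw [← hn]
    rw [Subgroup.map_map]
    have : (MulAut.conj n⁻¹).toMonoidHom.comp (MulAut.conj n).toMonoidHom = MonoidHom.id G := by
      ext x
      change n⁻¹ * (n * x * n⁻¹) * n⁻¹⁻¹ = x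
      group
    rw [this, Subgroup.map_id]
  obtain ⟨f', e', h1⟩ := F.norm_z hn' f e
  have hzz : (q C.S v (f' • w) e' : C.L) * q C.S v (f' • w) e' = 1 := q_sq C.S (F.hfw f') e'
  have hzzG : ((q C.S v (f' • w) e' : C.L) : G) * (q C.S v (f' • w) e' : C.L) = 1 := congrArg Subtype.val hzz
  have hnt : n⁻¹ * C.t * n⁻¹⁻¹ = C.t * (q C.S v (f' • w) e' : C.L) := by
    have h2 : C.t = n⁻¹ * C.t * n⁻¹⁻¹ * (q C.S v (f' • w) e' : C.L) := by
      rw [← h1]
      calc C.t = n⁻¹ * (n * C.t * n⁻¹) * n := by group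
        _ = n⁻¹ * (C.t * (q C.S v (f • w) e : C.L)) * n := by rw [ht]
        _ = _ := by group
    calc n⁻¹ * C.t * n⁻¹⁻¹ = n⁻¹ * C.t * n⁻¹⁻¹ * ((q C.S v (f' • w) e' : C.L) * (q C.S v (f' • w) e' : C.L)) := by
          rw [hzzG, mul_one]
      _ = n⁻¹ * C.t * n⁻¹⁻¹ * (q C.S v (f' • w) e' : C.L) * (q C.S v (f' • w) e' : C.L) := by
          rw [mul_assoc, mul_assoc]; group
      _ = _ := by rw [← h2]
  have hcard := card_cent_eq C hzz h1 hnt
  have h0' : f' ≠ 0 ∨ e' ≠ 0 := by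
    by_contra hc
    push Not at hc
    rw [hc.1, hc.2, zero_smul, q_zero] at h1
    have h3 : ((q C.S v (f • w) e : C.L) : G) = 1 := by
      calc ((q C.S v (f • w) e : C.L) : G) = n * (n⁻¹ * (q C.S v (f • w) e : C.L) * n⁻¹⁻¹) * n⁻¹ := by group
        _ = n * ((1 : C.L) : G) * n⁻¹ := by rw [h1]
        _ = 1 := by rw [Subgroup.coe_one]; group
    have h4 : q C.S v (f • w) e = q C.S v ((0 : ZMod 2) • w) 0 := by
      rw [zero_smul, q_zero]; exact Subtype.ext h3
    obtain ⟨h5, h6⟩ := F.z_inj h4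
    rcases hfe with h | h
    · exact h h5
    · exact h h6
  obtain ⟨rfl, rfl⟩ := F.eq_of_card hfe h0' hcard
  calc n * (q C.S v (f • w) e : C.L) * n⁻¹ = n * (n⁻¹ * (q C.S v (f • w) e : C.L) * n⁻¹⁻¹) * n⁻¹ := by rw [h1]
    _ = _ := by group

/-- from `t z ∈ D` to an element normalising `⟨t⟩ × S` -/
theorem exists_n [Finite G] {f e : ZMod 2} (hfe : f ≠ 0 ∨ e ≠ 0)
    (h : C.t * (q C.S v (f • w) e : C.L) ∈ C.D) :
    ∃ n : G, (TX C (S : Subgroup C.L)).map (MulAut.conj n).toMonoidHom = TX C (S : Subgroup C.L) ∧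
      n * C.t * n⁻¹ = C.t * (q C.S v (f • w) e : C.L) ∧
      n * (q C.S v (f • w) e : C.L) * n⁻¹ = (q C.S v (f • w) e : C.L) := by
  have hfinV := C.finV
  obtain ⟨g, hg⟩ := h
  obtain ⟨n, hn, hnt⟩ := exists_norm C S (fun s hs => F.z_cen f e hs) hg.symm
  exact ⟨n, hn, hnt, F.fix_z hn hfe hnt⟩

/-- an element normalising `⟨t⟩ × S` and fixing `z` either fixes or interchanges the two other elements -/
theorem cases_z [Finite G] {n : G}
    (hn : (TX C (S : Subgroup C.L)).map (MulAut.conj n).toMonoidHom = TX C (S : Subgroup C.L)) {f e : ZMod 2}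
    (hfe : f ≠ 0 ∨ e ≠ 0) (hz : n * (q C.S v (f • w) e : C.L) * n⁻¹ = (q C.S v (f • w) e : C.L)) {f' e' : ZMod 2}
    (hfe' : f' ≠ 0 ∨ e' ≠ 0) (hne : ¬ (f = f' ∧ e = e')) :
    n * (q C.S v (f' • w) e' : C.L) * n⁻¹ = (q C.S v (f' • w) e' : C.L) ∨
      n * (q C.S v (f' • w) e' : C.L) * n⁻¹ = (q C.S v ((f + f') • w) (e + e') : C.L) := by
  have hfinV := C.finV
  obtain ⟨f₁, e₁, h1⟩ := F.norm_z hn f' e'
  have hA : ¬ (f₁ = f ∧ e₁ = e) := by
    rintro ⟨rfl, rfl⟩
    have h2 := h1.trans hz.symm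
    have h3 := mul_left_cancel (mul_right_cancel h2)
    obtain ⟨h4, h5⟩ := F.z_inj (Subtype.ext h3)
    exact hne ⟨h4.symm, h5.symm⟩
  have hB : ¬ (f₁ = 0 ∧ e₁ = 0) := by
    rintro ⟨rfl, rfl⟩
    rw [zero_smul, q_zero, Subgroup.coe_one] at h1
    have h3 : ((q C.S v (f' • w) e' : C.L) : G) = 1 := by
      calc ((q C.S v (f' • w) e' : C.L) : G) = n⁻¹ * (n * (q C.S v (f' • w) e' : C.L) * n⁻¹) * n := by group
        _ = 1 := by rw [h1]; group
    have h4 : q C.S v (f' • w) e' = q C.S v ((0 : ZMod 2) • w) 0 := by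
      rw [zero_smul, q_zero]; exact Subtype.ext h3
    obtain ⟨h5, h6⟩ := F.z_inj h4
    rcases hfe' with h | h
    · exact h h5
    · exact h h6
  have key : ∀ f e f' e' f₁ e₁ : ZMod 2, (f ≠ 0 ∨ e ≠ 0) → (f' ≠ 0 ∨ e' ≠ 0) → ¬ (f = f' ∧ e = e') →
      ¬ (f₁ = f ∧ e₁ = e) → ¬ (f₁ = 0 ∧ e₁ = 0) → (f₁ = f' ∧ e₁ = e') ∨ (f₁ = f + f' ∧ e₁ = e + e') := by
    decide
  rcases key f e f' e' f₁ e₁ hfe hfe' hne hA hB with ⟨rfl, rfl⟩ | ⟨rfl, rfl⟩
  · exact Or.inl h1
  · exact Or.inr h1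

/-- two of the three elements `t z` in `D` imply the third -/
theorem mem_add [Finite G] {f e f' e' : ZMod 2} (hfe : f ≠ 0 ∨ e ≠ 0) (hfe' : f' ≠ 0 ∨ e' ≠ 0)
    (hne : ¬ (f = f' ∧ e = e')) (h : C.t * (q C.S v (f • w) e : C.L) ∈ C.D)
    (h' : C.t * (q C.S v (f' • w) e' : C.L) ∈ C.D) :
    C.t * (q C.S v ((f + f') • w) (e + e') : C.L) ∈ C.D := by
  have hfinV := C.finV
  have hm : ((q C.S v (f • w) e : C.L) : G) * (q C.S v (f' • w) e' : C.L) =
      (q C.S v ((f + f') • w) (e + e') : C.L) := congrArg Subtype.val (F.z_mul f e f' e')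
  have hm' : ((q C.S v (f' • w) e' : C.L) : G) * (q C.S v (f • w) e : C.L) =
      (q C.S v ((f + f') • w) (e + e') : C.L) := by
    rw [add_comm f f', add_comm e e']
    exact congrArg Subtype.val (F.z_mul f' e' f e)
  have hq : ∀ f e : ZMod 2, ((q C.S v (f • w) e : C.L) : G) * (q C.S v (f • w) e : C.L) = 1 := fun f e =>
    congrArg Subtype.val (q_sq C.S (F.hfw f) e)
  obtain ⟨n, hn, hnt, hnz⟩ := F.exists_n hfe h
  obtain ⟨n', hn', hnt', hnz'⟩ := F.exists_n hfe' h'
  rcases F.cases_z hn hfe hnz hfe' hne with h1 | h1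
  · -- `n (t z') n⁻¹ = t z z'`
    have h2 : n * (C.t * (q C.S v (f' • w) e' : C.L)) * n⁻¹ = C.t * (q C.S v ((f + f') • w) (e + e') : C.L) := by
      calc n * (C.t * (q C.S v (f' • w) e' : C.L)) * n⁻¹
          = (n * C.t * n⁻¹) * (n * (q C.S v (f' • w) e' : C.L) * n⁻¹) := by group
        _ = C.t * ((q C.S v (f • w) e : C.L) * (q C.S v (f' • w) e' : C.L)) := by
          rw [hnt, h1, mul_assoc]
        _ = _ := by rw [hm]
    rw [← h2]
    exact C.D_conj h' n
  rcases F.cases_z hn' hfe' hnz' hfe (fun hc => hne ⟨hc.1.symm, hc.2.symm⟩) with h2 | h2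
  · have h3 : n' * (C.t * (q C.S v (f • w) e : C.L)) * n'⁻¹ = C.t * (q C.S v ((f + f') • w) (e + e') : C.L) := by
      calc n' * (C.t * (q C.S v (f • w) e : C.L)) * n'⁻¹
          = (n' * C.t * n'⁻¹) * (n' * (q C.S v (f • w) e : C.L) * n'⁻¹) := by group
        _ = C.t * ((q C.S v (f' • w) e' : C.L) * (q C.S v (f • w) e : C.L)) := by
          rw [hnt', h2, mul_assoc]
        _ = _ := by rw [hm']
    rw [← h3]
    exact C.D_conj h n'
  exfalso
  rw [add_comm f' f, add_comm e' e] at h2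
  -- `n' (z z') n'⁻¹ = z`
  have h3 : n' * (q C.S v ((f + f') • w) (e + e') : C.L) * n'⁻¹ = (q C.S v (f • w) e : C.L) := by
    rw [← hm]
    calc n' * ((q C.S v (f • w) e : C.L) * (q C.S v (f' • w) e' : C.L)) * n'⁻¹
        = (n' * (q C.S v (f • w) e : C.L) * n'⁻¹) * (n' * (q C.S v (f' • w) e' : C.L) * n'⁻¹) := by group
      _ = (q C.S v (f • w) e : C.L) * (q C.S v (f' • w) e' : C.L) * (q C.S v (f' • w) e' : C.L) := by
        rw [h2, hnz', hm]
      _ = _ := by rw [mul_assoc, hq, mul_one]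
  have h4 : (n' * n) * (q C.S v (f' • w) e' : C.L) * (n' * n)⁻¹ = (q C.S v (f • w) e : C.L) := by
    calc (n' * n) * (q C.S v (f' • w) e' : C.L) * (n' * n)⁻¹
        = n' * (n * (q C.S v (f' • w) e' : C.L) * n⁻¹) * n'⁻¹ := by group
      _ = _ := by rw [h1, h3]
  have h5 : (n' * n) * C.t * (n' * n)⁻¹ = C.t * (q C.S v (f • w) e : C.L) := by
    calc (n' * n) * C.t * (n' * n)⁻¹ = n' * (n * C.t * n⁻¹) * n'⁻¹ := by group
      _ = (n' * C.t * n'⁻¹) * (n' * (q C.S v (f • w) e : C.L) * n'⁻¹) := by rw [hnt]; group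
      _ = C.t * ((q C.S v (f' • w) e' : C.L) * (q C.S v ((f + f') • w) (e + e') : C.L)) := by
        rw [hnt', h2, mul_assoc]
      _ = C.t * (q C.S v (f • w) e : C.L) := by
        rw [← hm', ← mul_assoc ((q C.S v (f' • w) e' : C.L) : G), hq, one_mul]
  have h6 := card_cent_eq C (q_sq C.S (F.hfw f) e) h4 h5
  obtain ⟨h7, h8⟩ := F.eq_of_card hfe' hfe h6
  exact hne ⟨h7.symm, h8.symm⟩

end Flag

/-! ### the classes -/

/-- conjugation inside `L` -/
theorem mem_D_conj (g : C.L) (x : C.L) (h : C.t * (x : G) ∈ C.D) : C.t * ((g * x * g⁻¹ : C.L) : G) ∈ C.D := by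
  have h1 := C.D_conj h g
  have h2 : (g : G) * (C.t * x) * (g : G)⁻¹ = C.t * ((g * x * g⁻¹ : C.L) : G) := by
    change _ = C.t * ((g : G) * x * (g : G)⁻¹)
    rw [← mul_assoc, t_comm]; group
  rwa [h2] at h1

/-- the class `L` of the transvections -/
def PL (C : Ctx G V) : Prop := ∀ v, v ≠ 0 → C.t * C.b v ∈ C.D

/-- the classes `S` (`e = 0`) and `P` (`e = 1`) -/
def PQ (C : Ctx G V) (e : ZMod 2) : Prop :=
  ∀ v w, v ≠ 0 → C.S.B v w = 0 → w ∉ ln v → C.t * (q C.S v w e : C.L) ∈ C.D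

/-- no transvection moved -/
def NL (C : Ctx G V) : Prop := ∀ v, v ≠ 0 → C.t * C.b v ∉ C.D

/-- no element of class `S` (`e = 0`), `P` (`e = 1`) moved -/
def NQ (C : Ctx G V) (e : ZMod 2) : Prop :=
  ∀ v w, v ≠ 0 → C.S.B v w = 0 → w ∉ ln v → C.t * (q C.S v w e : C.L) ∉ C.D

theorem PL_of {v : V} (hv : v ≠ 0) (h : C.t * C.b v ∈ C.D) : PL C := by
  have hfinV := C.finV
  intro v' hv'
  obtain ⟨g, hg⟩ := trans_vec C.S hv hv'
  have := mem_D_conj g (C.S.τ v) h
  rwa [C.S.conj_τ, hg] at this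

theorem PQ_of {v w : V} (hv : v ≠ 0) (hvw : C.S.B v w = 0) (hw : w ∉ ln v) {e : ZMod 2}
    (h : C.t * (q C.S v w e : C.L) ∈ C.D) : PQ C e := by
  have hfinV := C.finV
  intro v' w' hv' hvw' hw'
  obtain ⟨g, hgv, hgw⟩ := trans_pl C.S hv hw hvw hv' hw' hvw'
  have := mem_D_conj g _ h
  rwa [q_conj, hgv, hgw] at this

theorem PL_or_NL (C : Ctx G V) : PL C ∨ NL C := by
  by_cases h : NL C
  · exact Or.inr h
  · left
    rw [NL] at h
    push Not at h
    obtain ⟨v, hv, h⟩ := h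
    exact PL_of hv h

theorem PQ_or_NQ (C : Ctx G V) (e : ZMod 2) : PQ C e ∨ NQ C e := by
  by_cases h : NQ C e
  · exact Or.inr h
  · left
    rw [NQ] at h
    push Not at h
    obtain ⟨v, w, hv, hvw, hw, h⟩ := h
    exact PQ_of hv hvw hw h

namespace Flag

variable {S : Sylow 2 C.L} {v w : V} (F : Flag C S v w)

include F

theorem PL_iff : PL C ↔ C.t * (q C.S v ((0 : ZMod 2) • w) 1 : C.L) ∈ C.D := by
  rw [zero_smul, q_zero_one]
  exact ⟨fun h => h v F.hv, fun h => PL_of F.hv h⟩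

theorem PQ_iff (e : ZMod 2) : PQ C e ↔ C.t * (q C.S v ((1 : ZMod 2) • w) e : C.L) ∈ C.D := by
  rw [one_smul]
  exact ⟨fun h => h v w F.hv F.hvw F.hw, fun h => PQ_of F.hv F.hvw F.hw h⟩

/-- **START**: one of the classes only, or all of them -/
theorem start [Finite G] {f e : ZMod 2} (hfe : f ≠ 0 ∨ e ≠ 0)
    (h : C.t * (q C.S v (f • w) e : C.L) ∈ C.D) :
    (PL C ∧ NQ C 0 ∧ NQ C 1) ∨ (NL C ∧ PQ C 0 ∧ NQ C 1) ∨ (NL C ∧ NQ C 0 ∧ PQ C 1) ∨
      (PL C ∧ PQ C 0 ∧ PQ C 1) := by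
  have hLS : PL C → PQ C 0 → PQ C 1 := by
    intro h1 h2
    rw [F.PL_iff] at h1
    rw [F.PQ_iff] at h2 ⊢
    have := F.mem_add (Or.inr one_ne_zero) (Or.inl one_ne_zero) (by decide) h1 h2
    rwa [zero_add, add_zero] at this
  have hLP : PL C → PQ C 1 → PQ C 0 := by
    intro h1 h2
    rw [F.PL_iff] at h1
    rw [F.PQ_iff] at h2 ⊢
    have := F.mem_add (Or.inr one_ne_zero) (Or.inl one_ne_zero) (by decide) h1 h2
    rwa [zero_add, z2_add] at this
  have hSP : PQ C 0 → PQ C 1 → PL C := by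
    intro h1 h2
    rw [F.PL_iff]
    rw [F.PQ_iff] at h1 h2
    have := F.mem_add (Or.inl one_ne_zero) (Or.inl one_ne_zero) (by decide) h1 h2
    rwa [z2_add, zero_add] at this
  have hor : PL C ∨ PQ C 0 ∨ PQ C 1 := by
    rcases z2 f with rfl | rfl <;> rcases z2 e with rfl | rfl
    · simp at hfe
    · exact Or.inl (F.PL_iff.2 h)
    · exact Or.inr (Or.inl ((F.PQ_iff 0).2 h))
    · exact Or.inr (Or.inr ((F.PQ_iff 1).2 h))
  have nL : PL C → ¬ NL C := fun h1 h2 => h2 v F.hv (h1 v F.hv)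
  have nQ : ∀ e, PQ C e → ¬ NQ C e := fun e h1 h2 => h2 v w F.hv F.hvw F.hw (h1 v w F.hv F.hvw F.hw)
  rcases PL_or_NL C with h1 | h1 <;> rcases PQ_or_NQ C 0 with h2 | h2 <;> rcases PQ_or_NQ C 1 with h3 | h3
  · exact Or.inr (Or.inr (Or.inr ⟨h1, h2, h3⟩))
  · exact absurd h3 (nQ 1 (hLS h1 h2))
  · exact absurd h2 (nQ 0 (hLP h1 h3))
  · exact Or.inl ⟨h1, h2, h3⟩
  · exact absurd h1 (nL (hSP h2 h3))
  · exact Or.inr (Or.inl ⟨h1, h2, h3⟩)
  · exact Or.inr (Or.inr (Or.inl ⟨h1, h2, h3⟩))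
  · exfalso
    rcases hor with h | h | h
    · exact nL h h1
    · exact nQ 0 h h2
    · exact nQ 1 h h3

end Flag

/-! ### pattern `{P}` -/

theorem a_eq_q (v w : V) : LBDef.a C v w = (q C.S v w 0 : C.L) := by
  change ((LBAlg.A C.S v w : C.L) : G) = _
  rw [LBAlg.A, q, zero_smul, C.S.τ_zero, mul_one]

theorem ba_eq_q {v w : V} (h : C.S.B v w = 0) : C.b v * LBDef.a C v w = (q C.S v w 1 : C.L) := by
  have hwv : C.S.B w v = 0 := by rw [C.S.symm]; exact h
  rw [a_eq_q]
  change ((C.S.τ v * q C.S v w 0 : C.L) : G) = _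
  rw [← q_zero_one, q_mul C.S (B_zero C.S v) hwv, zero_add, add_zero, B_zero, add_zero]

/-- the pattern `{P}` is impossible -/
theorem Flag.not_P [Finite G] {S : Sylow 2 C.L} {v w : V} (F : Flag C S v w) (h0 : NQ C 0) (h1 : PQ C 1) :
    False := by
  have hfinV := C.finV
  have hw0 : w ≠ 0 := ne_zero_of_notMem F.hw
  have hwv : w ≠ v := fun h => F.hw (by rw [h]; exact self_mem_ln v)
  obtain ⟨n, hn, hnt, hnz⟩ := F.exists_n (f := 1) (e := 1) (Or.inl one_ne_zero) ((F.PQ_iff 1).1 h1)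
  have hb := F.cases_z hn (f := 1) (e := 1) (Or.inl one_ne_zero) hnz (f' := 0) (e' := 1) (Or.inr one_ne_zero)
    (by decide)
  rw [zero_smul, q_zero_one, add_zero, z2_add, one_smul, ← a_eq_q] at hb
  rw [one_smul, ← ba_eq_q F.hvw] at hnt hnz
  apply PatM.false_of C.cardV (C := C) (p := v) (w := w) (n := n)
    { hp := F.hv, hw := hw0, hpw := hwv, hB := F.hvw, ht := hnt, hm := hnz, hb := hb }
  · intro x y hx hy hxy hB
    rw [a_eq_q]
    exact h0 x y hx hB (notMem_ln hy hxy.symm)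
  · intro x y hx hy hxy hB
    have hB' : C.S.B x (x + y) = 0 := by rw [map_add, C.S.alt, hB, add_zero]
    have hyx : C.S.B y x = 0 := by rw [C.S.symm]; exact hB
    have h2 : C.b x * C.b y = (q C.S (x + y) x 1 : C.L) := by
      have h3 : C.S.B x (x + y) = 0 := hB'
      rw [← τ_mul_τ_add C.S h3, show x + (x + y) = y from aac _ _]
      rfl
    rw [h2]
    refine h1 _ _ ?_ ?_ ?_
    · intro h
      exact hxy (eq_of_add _ _ h)
    · rw [C.S.symm]; exact hB'
    · rw [mem_ln]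
      rintro (h | h)
      · exact hx h
      · exact hy (add_eq_left.1 h.symm)

/-- **START** and pattern `{P}`: pattern `{L}`, `{S}`, or all three classes are moved -/
theorem Flag.start' [Finite G] {S : Sylow 2 C.L} {v w : V} (F : Flag C S v w) {f e : ZMod 2} (hfe : f ≠ 0 ∨ e ≠ 0)
    (h : C.t * (q C.S v (f • w) e : C.L) ∈ C.D) :
    (PL C ∧ NQ C 0 ∧ NQ C 1) ∨ (NL C ∧ PQ C 0 ∧ NQ C 1) ∨ (PL C ∧ PQ C 0 ∧ PQ C 1) := by
  rcases F.start hfe h with h | h | h | h
  · exact Or.inl h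
  · exact Or.inr (Or.inl h)
  · exact (F.not_P h.2.1 h.2.2).elim
  · exact Or.inr (Or.inr h)

end Cfsg.Agent.OddHalf.SpTwoN.LBStart

end

-- merged: Cfsg.Agent.OddHalf.SpTwoN.Iso
section

/-!
# Maximal isotropic subspaces

`W = W^⊥`; `AW D W` is the pointwise stabiliser of `W` (symmetric forms), `δ : AW → W` the diagonal,
its kernel (alternating forms) is generated by the short root elements of the lines of `W`.
-/

set_option autoImplicit false

namespace Cfsg.Agent.OddHalf.SpTwoN.Iso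

open Cfsg.Agent.StandardComponent.SpTwo
open Cfsg.Agent.OddHalf.SpTwoN.Words

variable {X V : Type*} [Group X] [AddCommGroup V] [Module (ZMod 2) V] (D : SpData X V)

/-- `W = W^⊥` -/
def Max (W : Submodule (ZMod 2) V) : Prop := ∀ x, x ∈ W ↔ ∀ w ∈ W, D.B x w = 0

/-- pointwise stabiliser -/
def AW (W : Submodule (ZMod 2) V) : Subgroup X where
  carrier := {g | ∀ w ∈ W, D.ρ g w = w}
  one_mem' := fun w _ => D.ρ_one w
  mul_mem' {g h} hg hh := fun w hw => by rw [D.ρ_mul, hh w hw, hg w hw]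
  inv_mem' {g} hg := fun w hw => by
    apply D.ρ_inj g
    rw [D.ρ_apply_inv, hg w hw]

variable {D} {W : Submodule (ZMod 2) V}

theorem mem_AW {g : X} : g ∈ AW D W ↔ ∀ w ∈ W, D.ρ g w = w := Iff.rfl

theorem Max.perp (hW : Max D W) {u v : V} (hu : u ∈ W) (hv : v ∈ W) : D.B u v = 0 := (hW u).1 hu v hv

theorem Max.n_mem (hW : Max D W) {g : X} (hg : g ∈ AW D W) (x : V) : D.n g x ∈ W := by
  rw [hW]
  intro w hw
  rw [D.n_apply, map_add, LinearMap.add_apply]
  have h1 : D.B (D.ρ g x) w = D.B x w := by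
    have := D.inv g x w
    rwa [hg w hw] at this
  rw [h1]
  have := z2 (D.B x w)
  rcases this with h | h <;> rw [h] <;> decide

theorem Max.ρ_mul (hW : Max D W) {g h : X} (hg : g ∈ AW D W) (hh : h ∈ AW D W) (x : V) :
    D.ρ (g * h) x = x + D.n g x + D.n h x := by
  rw [D.ρ_mul, D.ρ_eq h x, map_add, hg _ (hW.n_mem hh x), D.ρ_eq g x]

theorem Max.n_mul (hW : Max D W) {g h : X} (hg : g ∈ AW D W) (hh : h ∈ AW D W) (x : V) :
    D.n (g * h) x = D.n g x + D.n h x := by
  rw [D.n_apply, hW.ρ_mul hg hh]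
  have h1 : x + D.n g x + D.n h x + x = D.n g x + D.n h x + (x + x) := by abel
  rw [h1, aa, add_zero]

theorem Max.sq (hW : Max D W) {g : X} (hg : g ∈ AW D W) : g * g = 1 := by
  apply D.eq_one_of_n
  intro v
  rw [hW.n_mul hg hg, aa]

theorem Max.comm (hW : Max D W) {g h : X} (hg : g ∈ AW D W) (hh : h ∈ AW D W) : g * h = h * g := by
  apply D.ext_iff
  intro x
  rw [hW.ρ_mul hg hh, hW.ρ_mul hh hg, add_assoc, add_assoc, add_comm (D.n g x)]

theorem Max.τ_mem (hW : Max D W) {w : V} (hw : w ∈ W) : D.τ w ∈ AW D W := by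
  intro x hx
  rw [D.hτ, hW.perp hx hw, zero_smul, add_zero]

theorem Max.sg_mem (hW : Max D W) {u w : V} (hu : u ∈ W) (hw : w ∈ W) : sg D u w ∈ AW D W :=
  mul_mem (mul_mem (hW.τ_mem hu) (hW.τ_mem hw)) (hW.τ_mem (add_mem hu hw))

/-- elements commuting with the transvections of `W` -/
theorem mem_AW_of_commute {g : X} (h : ∀ w ∈ W, Commute (D.τ w) g) : g ∈ AW D W :=
  fun w hw => D.fix_of_τ_commute (h w hw)

theorem commute_of_mem_AW {g : X} (hg : g ∈ AW D W) {w : V} (hw : w ∈ W) : Commute (D.τ w) g :=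
  D.τ_commute_of_fix (hg w hw)

/-- the quadratic form of `g` is additive -/
theorem quad_add {g : X} (hg : g * g = 1) (x y : V) :
    D.B (x + y) (D.ρ g (x + y)) = D.B x (D.ρ g x) + D.B y (D.ρ g y) := by
  have h1 := D.n_adj hg y x
  rw [D.symm (D.n g y) x] at h1
  rw [D.ρ_eq g (x + y), D.ρ_eq g x, D.ρ_eq g y]
  simp only [map_add, LinearMap.add_apply, D.alt, h1, D.symm y x]
  generalize D.B x y = a
  generalize D.B x (D.n g x) = b
  generalize D.B y (D.n g y) = c
  generalize D.B x (D.n g y) = d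
  revert a b c d
  decide

section delta

variable [Finite V]

/-- the linear functional `x ↦ (x, g x)` -/
def quad (g : X) (hg : g * g = 1) : V →ₗ[ZMod 2] ZMod 2 where
  toFun x := D.B x (D.ρ g x)
  map_add' x y := quad_add hg x y
  map_smul' c x := by
    rcases z2 c with h | h
    · rw [h, zero_smul, map_zero, map_zero, LinearMap.zero_apply, RingHom.id_apply, zero_smul]
    · rw [h, one_smul, RingHom.id_apply, one_smul]

theorem exists_delta {g : X} (hg : g * g = 1) : ∃ d, ∀ x, D.B x (D.ρ g x) = D.B x d := by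
  obtain ⟨d, hd⟩ := exists_func D (quad g hg)
  exact ⟨d, fun x => (hd x).symm⟩

end delta

variable (D) in
open Classical in
/-- the diagonal of `g` -/
noncomputable def δ (g : X) : V := if h : ∃ d, ∀ x, D.B x (D.ρ g x) = D.B x d then h.choose else 0

theorem eq_of_forall {d d' : V} (h : ∀ x, D.B x d = D.B x d') : d = d' := by
  apply eq_of_add
  apply D.nondeg
  intro w
  rw [D.symm, map_add, h]
  rcases z2 (D.B w d') with h | h <;> rw [h] <;> decide

theorem B_δ [Finite V] {g : X} (hg : g * g = 1) (x : V) : D.B x (δ D g) = D.B x (D.ρ g x) := by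
  have h := exists_delta (D := D) hg
  unfold δ
  rw [dif_pos h]
  exact (h.choose_spec x).symm

theorem δ_eq [Finite V] {g : X} (hg : g * g = 1) {d : V} (h : ∀ x, D.B x (D.ρ g x) = D.B x d) : δ D g = d := by
  apply eq_of_forall (D := D)
  intro x
  rw [B_δ hg, h]

theorem δ_τ [Finite V] (w : V) : δ D (D.τ w) = w := by
  apply δ_eq (D.τ_sq w)
  intro x
  rw [D.hτ, map_add, map_smul, D.alt, zero_add, smul_eq_mul]
  rcases z2 (D.B x w) with h | h <;> rw [h] <;> decide

theorem δ_sg [Finite V] {u v : V} (h : D.B u v = 0) : δ D (sg D u v) = 0 := by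
  apply δ_eq (sg_sq D h)
  intro x
  rw [ρ_sg D h, map_zero]
  simp only [map_add, map_smul, D.alt, smul_eq_mul]
  generalize D.B x u = a
  generalize D.B x v = b
  revert a b
  decide

theorem δ_one [Finite V] : δ D (1 : X) = 0 := by
  apply δ_eq (one_mul 1)
  intro x
  rw [D.ρ_one, D.alt, map_zero]

theorem Max.δ_mem [Finite V] (hW : Max D W) {g : X} (hg : g ∈ AW D W) : δ D g ∈ W := by
  rw [hW]
  intro w hw
  rw [D.symm, B_δ (hW.sq hg), hg w hw, D.alt]

theorem Max.δ_mul [Finite V] (hW : Max D W) {g h : X} (hg : g ∈ AW D W) (hh : h ∈ AW D W) :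
    δ D (g * h) = δ D g + δ D h := by
  apply δ_eq (hW.sq (mul_mem hg hh))
  intro x
  rw [map_add, B_δ (hW.sq hg), B_δ (hW.sq hh), hW.ρ_mul hg hh, D.ρ_eq g, D.ρ_eq h]
  simp only [map_add, D.alt, zero_add]

theorem δ_conj [Finite V] {g k : X} (hg : g * g = 1) : δ D (k * g * k⁻¹) = D.ρ k (δ D g) := by
  have h1 : k * g * k⁻¹ * (k * g * k⁻¹) = 1 := by
    calc k * g * k⁻¹ * (k * g * k⁻¹) = k * (g * g) * k⁻¹ := by group
      _ = 1 := by rw [hg]; group
  apply δ_eq h1
  intro x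
  have h2 := B_δ (D := D) hg (D.ρ k⁻¹ x)
  have h3 : D.B x (D.ρ k (δ D g)) = D.B (D.ρ k⁻¹ x) (δ D g) := by
    rw [← D.inv k (D.ρ k⁻¹ x), D.ρ_apply_inv]
  rw [h3, h2, D.ρ_mul, D.ρ_mul, ← D.inv k (D.ρ k⁻¹ x), D.ρ_apply_inv]

/-- conjugation by elements stabilising `W` -/
theorem conj_mem_AW {k : X} (hk : ∀ w, w ∈ W ↔ D.ρ k w ∈ W) {g : X} (hg : g ∈ AW D W) : k * g * k⁻¹ ∈ AW D W := by
  intro w hw
  have h1 : D.ρ k⁻¹ w ∈ W := by rw [hk, D.ρ_apply_inv]; exact hw
  rw [D.ρ_mul, D.ρ_mul, hg _ h1, D.ρ_apply_inv]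

variable (D) in
/-- the group generated by the transvections of `W` -/
def GW (W : Submodule (ZMod 2) V) : Subgroup X := Subgroup.closure {x | ∃ w ∈ W, x = D.τ w}

variable (D) in
/-- the group generated by the short root elements of `W` -/
def LW (W : Submodule (ZMod 2) V) : Subgroup X := Subgroup.closure {x | ∃ u ∈ W, ∃ w ∈ W, x = sg D u w}

theorem τ_mem_GW {w : V} (hw : w ∈ W) : D.τ w ∈ GW D W := Subgroup.subset_closure ⟨w, hw, rfl⟩

theorem sg_mem_LW {u w : V} (hu : u ∈ W) (hw : w ∈ W) : sg D u w ∈ LW D W :=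
  Subgroup.subset_closure ⟨u, hu, w, hw, rfl⟩

theorem LW_le_GW : LW D W ≤ GW D W := by
  rw [LW, Subgroup.closure_le]
  rintro _ ⟨u, hu, w, hw, rfl⟩
  exact mul_mem (mul_mem (τ_mem_GW hu) (τ_mem_GW hw)) (τ_mem_GW (add_mem hu hw))

/-- alternating elements are products of short root elements -/
theorem Max.mem_LW [Finite V] (hW : Max D W) {g : X} (hg : g ∈ AW D W) (h0 : δ D g = 0) : g ∈ LW D W := by
  -- induction on the size of the fixed space
  have key : ∀ m : ℕ, ∀ g ∈ AW D W, δ D g = 0 → Nat.card V - Nat.card (LinearMap.ker (D.n g)) ≤ m →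
      g ∈ LW D W := by
    intro m
    induction m using Nat.strong_induction_on with
    | _ m ih =>
      intro g hg h0 hm
      have halt : ∀ x, D.B x (D.n g x) = 0 := by
        intro x
        have h1 := B_δ (D := D) (hW.sq hg) x
        rw [h0, map_zero, D.ρ_eq g x, map_add, D.alt, zero_add] at h1
        exact h1.symm
      by_cases h1 : ∀ x, D.n g x = 0
      · rw [D.eq_one_of_n h1]
        exact one_mem _
      · push Not at h1
        obtain ⟨x, hx⟩ := h1
        have : ∃ y, D.B y (D.n g x) = 1 := by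
          by_contra hn
          push Not at hn
          apply hx
          apply D.nondeg
          intro w
          rw [D.symm]
          rcases z2 (D.B w (D.n g x)) with h | h
          · exact h
          · exact absurd h (hn w)
        obtain ⟨y, hy⟩ := this
        set u := D.n g x with hu
        set w := D.n g y with hw
        have huW : u ∈ W := hW.n_mem hg x
        have hwW : w ∈ W := hW.n_mem hg y
        have huw : D.B u w = 0 := hW.perp huW hwW
        have hxw : D.B x w = 1 := by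
          rw [hw, D.n_adj (hW.sq hg), D.symm]
          exact hy
        have hxu : D.B x u = 0 := halt x
        have hyw : D.B y w = 0 := halt y
        have hs := hW.sg_mem huW hwW
        set g' := sg D u w * g with hg'
        have hg'W : g' ∈ AW D W := mul_mem hs hg
        have h0' : δ D g' = 0 := by rw [hg', hW.δ_mul hs hg, δ_sg huw, h0, add_zero]
        have hn' : ∀ z, D.n g' z = D.B z w • u + D.B z u • w + D.n g z := by
          intro z
          rw [hg', hW.n_mul hs hg, D.n_apply (sg D u w), ρ_sg D huw]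
          congr 1
          rw [add_comm z, add_assoc, aa, add_zero]
        have hle : LinearMap.ker (D.n g) < LinearMap.ker (D.n g') := by
          refine lt_of_le_of_ne (fun z hz => ?_) (fun h => ?_)
          · rw [LinearMap.mem_ker] at hz ⊢
            have hzw : D.B z w = 0 := by
              rw [hw, D.n_adj (hW.sq hg), hz, map_zero, LinearMap.zero_apply]
            have hzu : D.B z u = 0 := by
              rw [hu, D.n_adj (hW.sq hg), hz, map_zero, LinearMap.zero_apply]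
            rw [hn', hzw, hzu, hz, zero_smul, zero_smul, add_zero, add_zero]
          · have hx' : x ∈ LinearMap.ker (D.n g') := by
              rw [LinearMap.mem_ker, hn', hxw, hxu, one_smul, zero_smul, add_zero]
              exact aa u
            rw [← h, LinearMap.mem_ker] at hx'
            exact hx hx'
        have hcard := SpData.two_mul_card_le hle
        have hpos : 0 < Nat.card (LinearMap.ker (D.n g)) := Nat.card_pos
        have hle' : Nat.card (LinearMap.ker (D.n g')) ≤ Nat.card V :=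
          Nat.card_le_card_of_injective _ Subtype.val_injective
        have h2 := ih (Nat.card V - Nat.card (LinearMap.ker (D.n g'))) (by omega) g' hg'W h0' le_rfl
        have h3 : g = (sg D u w)⁻¹ * g' := by rw [hg', inv_mul_cancel_left]
        rw [h3]
        exact mul_mem (inv_mem (sg_mem_LW huW hwW)) h2
  exact key _ g hg h0 le_rfl

theorem Max.AW_eq_GW [Finite V] (hW : Max D W) : AW D W = GW D W := by
  apply le_antisymm
  · intro g hg
    have h1 : δ D (D.τ (δ D g) * g) = 0 := by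
      rw [hW.δ_mul (hW.τ_mem (hW.δ_mem hg)) hg, δ_τ, aa]
    have h2 := hW.mem_LW (mul_mem (hW.τ_mem (hW.δ_mem hg)) hg) h1
    have h3 : g = (D.τ (δ D g))⁻¹ * (D.τ (δ D g) * g) := by rw [inv_mul_cancel_left]
    rw [h3]
    exact mul_mem (inv_mem (τ_mem_GW (hW.δ_mem hg))) (LW_le_GW h2)
  · rw [GW, Subgroup.closure_le]
    rintro _ ⟨w, hw, rfl⟩
    exact hW.τ_mem hw

end Cfsg.Agent.OddHalf.SpTwoN.Iso

end

-- merged: Cfsg.Agent.OddHalf.SpTwoN.Transl
section

/-!
# Translations of `Ω = {t b_x : x ∈ W}`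

`W = W^⊥`; `Tr v k`: `k` maps `t b_x` to `t b_{x + v}` for all `x ∈ W`.  Involutions over different vectors commute
up to the short root element of their line.
-/

set_option autoImplicit false

namespace Cfsg.Agent.OddHalf.SpTwoN.Transl

open Subgroup
open Cfsg.Agent.StandardComponent.SpTwo
open Cfsg.Agent.OddHalf.SpTwoN.Words Cfsg.Agent.OddHalf.SpTwoN.Iso

variable {G V : Type*} [Group G] [AddCommGroup V] [Module (ZMod 2) V] (C : Ctx G V) (W : Submodule (ZMod 2) V)

/-- `k` acts on `Ω = {t b_x}` as the translation by `v`. -/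
def Tr (v : V) (k : G) : Prop := ∀ x ∈ W, k * (C.t * C.b x) * k⁻¹ = C.t * C.b (x + v)

/-- short root elements in `G` -/
def s (u v : V) : G := (sg C.S u v : C.L)

/-- involutions (or `1`) acting as the translation by `v` -/
def E (v : V) (k : G) : Prop := Tr C W v k ∧ k * k = 1

variable {C W}

theorem b_inv (u : V) : (C.b u)⁻¹ = C.b u := inv_eq_of_mul_eq_one_right (C.b_sq u)

theorem inv_of_sq {x : G} (h : x * x = 1) : x⁻¹ = x := inv_eq_of_mul_eq_one_right h

theorem Lt (a : C.L) : (a : G) * C.t = C.t * a := (C.commute_of_mem a.2).eq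

theorem Tr.mul {v w : V} {k l : G} (hw : w ∈ W) (hk : Tr C W v k) (hl : Tr C W w l) : Tr C W (v + w) (k * l) := by
  intro x hx
  have h1 := hk (x + w) (add_mem hx hw)
  calc k * l * (C.t * C.b x) * (k * l)⁻¹ = k * (l * (C.t * C.b x) * l⁻¹) * k⁻¹ := by group
    _ = k * (C.t * C.b (x + w)) * k⁻¹ := by rw [hl x hx]
    _ = C.t * C.b (x + w + v) := h1
    _ = C.t * C.b (x + (v + w)) := by rw [add_assoc, add_comm w v]

theorem Tr.inv {v : V} {k : G} (hv : v ∈ W) (hk : Tr C W v k) : Tr C W v k⁻¹ := by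
  intro x hx
  have h1 := hk (x + v) (add_mem hx hv)
  rw [aab] at h1
  rw [inv_inv, ← h1]
  group

theorem Tr.conj_t {v : V} {k : G} (hk : Tr C W v k) : k * C.t * k⁻¹ = C.t * C.b v := by
  have := hk 0 (zero_mem _)
  rwa [C.b_zero, mul_one, zero_add] at this

theorem b_comm_of (hW : Max C.S W) {u w : V} (hu : u ∈ W) (hw : w ∈ W) : C.b u * C.b w = C.b w * C.b u :=
  (C.b_commute_iff.2 (hW.perp hu hw)).eq

theorem Tr.conj_b (hW : Max C.S W) {v : V} (hv : v ∈ W) {k : G} (hk : Tr C W v k) {x : V} (hx : x ∈ W) :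
    k * C.b x * k⁻¹ = C.b x * s C v x := by
  have h1 := hk x hx
  have h2 := hk.conj_t
  have h3 : k * C.b x * k⁻¹ = (k * C.t * k⁻¹)⁻¹ * (k * (C.t * C.b x) * k⁻¹) := by group
  rw [h3, h1, h2, mul_inv_rev, C.t_inv, b_inv]
  have h4 : C.b v * C.t * (C.t * C.b (x + v)) = C.b v * C.b (x + v) := by
    calc C.b v * C.t * (C.t * C.b (x + v)) = C.b v * (C.t * C.t) * C.b (x + v) := by group
      _ = _ := by rw [C.tt, mul_one]
  rw [h4]
  have h5 : s C v x = C.b v * C.b x * C.b (v + x) := rfl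
  rw [h5]
  have h6 : C.b x * (C.b v * C.b x * C.b (v + x)) = C.b x * C.b v * C.b x * C.b (v + x) := by group
  rw [h6, b_comm_of hW hx hv, mul_assoc (C.b v), C.b_sq, mul_one, add_comm x v]

theorem s_mul (hW : Max C.S W) {v u w : V} (hv : v ∈ W) (hu : u ∈ W) (hw : w ∈ W) :
    s C v u * s C v w = s C v (u + w) :=
  congrArg Subtype.val (sg_mul_perp C.S (hW.perp hv hu) (hW.perp hv hw) (hW.perp hu hw))

theorem s_sq (hW : Max C.S W) {v u : V} (hv : v ∈ W) (hu : u ∈ W) : s C v u * s C v u = 1 :=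
  congrArg Subtype.val (sg_sq C.S (hW.perp hv hu))

theorem s_comm (hW : Max C.S W) {v u : V} (hv : v ∈ W) (hu : u ∈ W) : s C v u = s C u v :=
  congrArg Subtype.val (sg_comm C.S (hW.perp hv hu))

theorem s_zero (v : V) : s C v 0 = 1 := congrArg Subtype.val (sg_zero_right C.S v)

theorem s_self (v : V) : s C v v = 1 := congrArg Subtype.val (sg_self C.S v)

theorem s_one (hW : Max C.S W) {v u : V} (hv : v ∈ W) (hu : u ∈ W) (h : s C v u = 1) : v = 0 ∨ u = 0 ∨ v = u :=
  sg_eq_one C.S (hW.perp hv hu) (Subtype.ext h)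

theorem acomm (hW : Max C.S W) {a c : C.L} (ha : a ∈ AW C.S W) (hc : c ∈ AW C.S W) : (a : G) * c = c * a :=
  congrArg Subtype.val (hW.comm ha hc)

theorem asq (hW : Max C.S W) {a : C.L} (ha : a ∈ AW C.S W) : (a : G) * a = 1 :=
  congrArg Subtype.val (hW.sq ha)

theorem sA (hW : Max C.S W) {u w : V} (hu : u ∈ W) (hw : w ∈ W) : sg C.S u w ∈ AW C.S W := hW.sg_mem hu hw

/-- the action of a translation on `A_W` -/
theorem Tr.conj_a [Finite V] (hW : Max C.S W) {v : V} (hv : v ∈ W) {k : G} (hk : Tr C W v k) {a : C.L}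
    (ha : a ∈ AW C.S W) : k * (a : G) * k⁻¹ = a * s C v (δ C.S a) := by
  have h1 : a ∈ GW C.S W := by rw [← hW.AW_eq_GW]; exact ha
  have key : ∀ a : C.L, a ∈ GW C.S W → k * (a : G) * k⁻¹ = a * s C v (δ C.S a) := by
    intro a ha
    induction ha using Subgroup.closure_induction with
    | mem x hx =>
      obtain ⟨w, hw, rfl⟩ := hx
      rw [δ_τ]
      exact hk.conj_b hW hv hw
    | one =>
      rw [δ_one, s_zero]
      change k * 1 * k⁻¹ = 1 * 1
      group
    | mul x y hx hy ihx ihy =>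
      have hx' : x ∈ AW C.S W := by rw [hW.AW_eq_GW]; exact hx
      have hy' : y ∈ AW C.S W := by rw [hW.AW_eq_GW]; exact hy
      have h2 : k * ((x * y : C.L) : G) * k⁻¹ = (k * (x : G) * k⁻¹) * (k * (y : G) * k⁻¹) := by
        rw [Subgroup.coe_mul]; group
      rw [h2, ihx, ihy, hW.δ_mul hx' hy', ← s_mul hW hv (hW.δ_mem hx') (hW.δ_mem hy'), Subgroup.coe_mul]
      have h3 : s C v (δ C.S x) * (y : G) = y * s C v (δ C.S x) := acomm hW (sA hW hv (hW.δ_mem hx')) hy'
      calc (x : G) * s C v (δ C.S x) * (y * s C v (δ C.S y))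
          = x * (s C v (δ C.S x) * y) * s C v (δ C.S y) := by group
        _ = x * (y * s C v (δ C.S x)) * s C v (δ C.S y) := by rw [h3]
        _ = _ := by group
    | inv x hx ihx =>
      have hx' : x ∈ AW C.S W := by rw [hW.AW_eq_GW]; exact hx
      rw [inv_of_sq (hW.sq hx')]
      exact ihx
  exact key a h1

theorem tr_t : Tr C W 0 C.t := by
  intro x _
  rw [C.t_inv, add_zero]
  have := Lt (C := C) (C.S.τ x)
  change C.b x * C.t = C.t * C.b x at this
  rw [mul_assoc, mul_assoc, this, ← mul_assoc C.t C.t, C.tt, one_mul]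

theorem tr_a (hW : Max C.S W) {a : C.L} (ha : a ∈ AW C.S W) : Tr C W 0 (a : G) := by
  intro x hx
  have h1 := Lt (C := C) a
  have h2 : (a : G) * C.b x = C.b x * a := (acomm hW (hW.τ_mem hx) ha).symm
  rw [add_zero]
  calc (a : G) * (C.t * C.b x) * (a : G)⁻¹ = (a * C.t) * C.b x * (a : G)⁻¹ := by group
    _ = C.t * (a * C.b x) * (a : G)⁻¹ := by rw [h1]; group
    _ = C.t * (C.b x * a) * (a : G)⁻¹ := by rw [h2]
    _ = _ := by group

/-- the kernel of the action on `Ω` is `⟨t⟩ × A` -/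
theorem Tr.zero {k : G} (hk : Tr C W 0 k) : ∃ a : C.L, a ∈ AW C.S W ∧ (k = a ∨ k = C.t * a) := by
  have h1 : k * C.t * k⁻¹ = C.t := by
    have := hk.conj_t
    rwa [C.b_zero, mul_one] at this
  have h2 : Commute k C.t := by
    change k * C.t = C.t * k
    rw [← mul_inv_eq_iff_eq_mul]
    exact h1
  have h3 : ∀ x ∈ W, k * C.b x * k⁻¹ = C.b x := by
    intro x hx
    have h4 := hk x hx
    rw [add_zero] at h4
    have h5 : k * (C.t * C.b x) * k⁻¹ = (k * C.t * k⁻¹) * (k * C.b x * k⁻¹) := by group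
    rw [h5, h1] at h4
    exact mul_left_cancel h4
  rcases (C.cent k).1 h2 with h | h
  · refine ⟨⟨k, h⟩, mem_AW_of_commute fun w hw => ?_, Or.inl rfl⟩
    apply Subtype.ext
    change C.b w * k = k * C.b w
    rw [eq_comm, ← mul_inv_eq_iff_eq_mul]
    exact h3 w hw
  · refine ⟨⟨C.t * k, h⟩, mem_AW_of_commute fun w hw => ?_, Or.inr ?_⟩
    · apply Subtype.ext
      change C.b w * (C.t * k) = C.t * k * C.b w
      have h4 : k * C.b w = C.b w * k := by
        rw [← mul_inv_eq_iff_eq_mul]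
        exact h3 w hw
      have h5 : C.b w * C.t = C.t * C.b w := Lt (C.S.τ w)
      rw [mul_assoc, h4, ← mul_assoc, h5, mul_assoc]
    · change k = C.t * (C.t * k)
      rw [← mul_assoc, C.tt, one_mul]

theorem E.inv {v : V} {y : G} (hy : E C W v y) : y⁻¹ = y := inv_of_sq hy.2

theorem E.conj_t {v : V} {y : G} (hy : E C W v y) : y * C.t * y = C.t * C.b v := by
  have := hy.1.conj_t
  rwa [hy.inv] at this

theorem E.t_conj {v : V} {y : G} (hy : E C W v y) : C.t * y * C.t = y * C.b v := by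
  have h1 := hy.conj_t
  calc C.t * y * C.t = (y * y) * C.t * y * C.t := by rw [hy.2, one_mul]
    _ = y * (y * C.t * y) * C.t := by group
    _ = y * (C.t * C.b v) * C.t := by rw [h1]
    _ = y * (C.t * (C.b v * C.t)) := by group
    _ = y * (C.t * (C.t * C.b v)) := by rw [show C.b v * C.t = C.t * C.b v from Lt (C.S.τ v)]
    _ = y * C.b v := by rw [← mul_assoc C.t C.t, C.tt, one_mul]

theorem E.conj_a [Finite V] (hW : Max C.S W) {v : V} (hv : v ∈ W) {y : G} (hy : E C W v y) {a : C.L}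
    (ha : a ∈ AW C.S W) : y * (a : G) * y = a * s C v (δ C.S a) := by
  have := hy.1.conj_a hW hv ha
  rwa [hy.inv] at this

theorem sq_ya [Finite V] (hW : Max C.S W) {v : V} (hv : v ∈ W) {y : G} (hy : E C W v y) {a : C.L}
    (ha : a ∈ AW C.S W) : (y * (a : G)) * (y * a) = s C v (δ C.S a) := by
  have h1 := hy.conj_a hW hv ha
  have h2 := acomm hW ha (sA hW hv (hW.δ_mem ha))
  calc (y * (a : G)) * (y * a) = (y * a * y) * a := by group
    _ = (a * s C v (δ C.S a)) * a := by rw [h1]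
    _ = (s C v (δ C.S a) * a) * a := by
        change (a : G) * s C v (δ C.S a) = s C v (δ C.S a) * a at h2
        rw [h2]
    _ = s C v (δ C.S a) * (a * a) := by group
    _ = _ := by rw [asq hW ha, mul_one]

theorem sq_yta [Finite V] (hW : Max C.S W) {v : V} (hv : v ∈ W) (hv0 : v ≠ 0) {y : G} (hy : E C W v y) {a : C.L}
    (ha : a ∈ AW C.S W) : (y * (C.t * (a : G))) * (y * (C.t * a)) ≠ 1 := by
  intro h
  have h1 := hy.conj_a hW hv ha
  have h2 := hy.conj_t
  have h3 := acomm hW ha (sA hW hv (hW.δ_mem ha))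
  change (a : G) * s C v (δ C.S a) = s C v (δ C.S a) * a at h3
  have h4 := Lt (C := C) (sg C.S v (δ C.S a))
  change s C v (δ C.S a) * C.t = C.t * s C v (δ C.S a) at h4
  have h5 := Lt (C := C) a
  have hbt : C.b v * C.t = C.t * C.b v := Lt (C.S.τ v)
  have h6 : (y * (C.t * (a : G))) * (y * (C.t * a)) = C.b v * s C v (δ C.S a) := by
    calc (y * (C.t * (a : G))) * (y * (C.t * a)) = y * C.t * (y * y) * a * y * C.t * a := by rw [hy.2]; group
      _ = (y * C.t * y) * (y * a * y) * (C.t * a) := by group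
      _ = (C.t * C.b v) * (a * s C v (δ C.S a)) * (C.t * a) := by rw [h1, h2]
      _ = (C.t * C.b v) * (s C v (δ C.S a) * a) * (C.t * a) := by rw [h3]
      _ = (C.t * C.b v) * s C v (δ C.S a) * (a * C.t) * a := by group
      _ = (C.t * C.b v) * s C v (δ C.S a) * (C.t * a) * a := by rw [h5]
      _ = (C.t * C.b v) * (s C v (δ C.S a) * C.t) * (a * a) := by group
      _ = (C.t * C.b v) * (C.t * s C v (δ C.S a)) := by rw [asq hW ha, mul_one, h4]
      _ = C.t * (C.b v * C.t) * s C v (δ C.S a) := by group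
      _ = C.t * (C.t * C.b v) * s C v (δ C.S a) := by rw [hbt]
      _ = (C.t * C.t) * C.b v * s C v (δ C.S a) := by group
      _ = _ := by rw [C.tt, one_mul]
  rw [h6] at h
  have h7 : C.b v = s C v (δ C.S a) := by
    have h8 := eq_inv_of_mul_eq_one_left h
    rw [h8, inv_of_sq (s_sq hW hv (hW.δ_mem ha))]
  exact τ_ne_sg C.S hv0 (hW.perp hv (hW.δ_mem ha)) (Subtype.ext h7)

/-- `1` is in `A` -/
theorem δ_cases [Finite V] (hW : Max C.S W) {v : V} (hv : v ∈ W) (hv0 : v ≠ 0) {a : C.L} (ha : a ∈ AW C.S W)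
    (h : s C v (δ C.S a) = 1) : δ C.S a = 0 ∨ δ C.S a = v := by
  rcases s_one hW hv (hW.δ_mem ha) h with h1 | h1 | h1
  · exact absurd h1 hv0
  · exact Or.inl h1
  · exact Or.inr h1.symm

/-- two involutions over the same vector -/
theorem E.same [Finite V] (hW : Max C.S W) {v : V} (hv : v ∈ W) (hv0 : v ≠ 0) {y y' : G} (hy : E C W v y)
    (hy' : E C W v y') : ∃ a : C.L, a ∈ AW C.S W ∧ y' = y * a ∧ (δ C.S a = 0 ∨ δ C.S a = v) := by
  have h1 : Tr C W 0 (y * y') := by
    have := hy.1.mul hv hy'.1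
    rwa [aa] at this
  obtain ⟨a, ha, h | h⟩ := h1.zero
  · have h2 : y' = y * a := by rw [← h, ← mul_assoc, hy.2, one_mul]
    refine ⟨a, ha, h2, δ_cases hW hv hv0 ha ?_⟩
    rw [← sq_ya hW hv hy ha, ← h2, hy'.2]
  · exfalso
    have h2 : y' = y * (C.t * a) := by rw [← h, ← mul_assoc, hy.2, one_mul]
    apply sq_yta hW hv hv0 hy ha
    rw [← h2, hy'.2]

theorem E.mul_a [Finite V] (hW : Max C.S W) {v : V} (hv : v ∈ W) {y : G} (hy : E C W v y) {a : C.L}
    (ha : a ∈ AW C.S W) (h : δ C.S a = 0 ∨ δ C.S a = v) : E C W v (y * a) := by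
  refine ⟨?_, ?_⟩
  · have := hy.1.mul (zero_mem W) (tr_a hW ha)
    rwa [add_zero] at this
  · rw [sq_ya hW hv hy ha]
    rcases h with h | h
    · rw [h, s_zero]
    · rw [h, s_self]

/-- commutator of two involutions over different vectors, first form -/
theorem comm_mem [Finite V] (hW : Max C.S W) {v w : V} (hv : v ∈ W) (hw : w ∈ W) (hv0 : v ≠ 0) (hw0 : w ≠ 0)
    (hvw : v ≠ w) {y z : G} (hy : E C W v y) (hz : E C W w z) :
    ∃ a : C.L, a ∈ AW C.S W ∧ δ C.S a = 0 ∧ y * z * y * z = a := by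
  have h0 : Tr C W 0 (y * z * y * z) := by
    have h1 := hy.1.mul hw hz.1
    have h2 := h1.mul hv hy.1
    have h3 := h2.mul hw hz.1
    have h4 : v + w + v + w = 0 := by
      have : v + w + v + w = (v + w) + (v + w) := by abel
      rw [this, aa]
    rwa [h4] at h3
  obtain ⟨a, ha, h | h⟩ := h0.zero
  · refine ⟨a, ha, ?_, h⟩
    have e1 : z * y * z = y * a := by
      rw [← h]
      calc z * y * z = (y * y) * z * y * z := by rw [hy.2, one_mul]
        _ = _ := by group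
    have e2 : (z * y * z) * (z * y * z) = 1 := by
      calc (z * y * z) * (z * y * z) = z * y * (z * z) * y * z := by group
        _ = z * (y * y) * z := by rw [hz.2]; group
        _ = 1 := by rw [hy.2, mul_one, hz.2]
    have e3 : s C v (δ C.S a) = 1 := by rw [← sq_ya hW hv hy ha, ← e1, e2]
    have f1 : y * z * y = a * z := by
      rw [← h]
      calc y * z * y = y * z * y * (z * z) := by rw [hz.2, mul_one]
        _ = _ := by group
    have f2 : (y * z * y) * (y * z * y) = 1 := by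
      calc (y * z * y) * (y * z * y) = y * z * (y * y) * z * y := by group
        _ = y * (z * z) * y := by rw [hy.2]; group
        _ = 1 := by rw [hz.2, mul_one, hy.2]
    have f3 : (z * (a : G)) * (z * a) = 1 := by
      calc (z * (a : G)) * (z * a) = z * ((a * z) * (a * z)) * z := by
            calc (z * (a : G)) * (z * a) = z * (a * z) * (a * (z * z)) := by rw [hz.2]; group
              _ = _ := by group
        _ = z * ((y * z * y) * (y * z * y)) * z := by rw [f1]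
        _ = 1 := by rw [f2, mul_one, hz.2]
    rw [sq_ya hW hw hz ha] at f3
    rcases δ_cases hW hv hv0 ha e3 with h1 | h1
    · exact h1
    · rcases δ_cases hW hw hw0 ha f3 with h2 | h2
      · exact h2
      · exact absurd (h1.symm.trans h2) hvw
  · exfalso
    have e1 : z * y * z = y * (C.t * a) := by
      rw [← h]
      calc z * y * z = (y * y) * z * y * z := by rw [hy.2, one_mul]
        _ = _ := by group
    apply sq_yta hW hv hv0 hy ha
    rw [← e1]
    calc (z * y * z) * (z * y * z) = z * y * (z * z) * y * z := by group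
      _ = z * (y * y) * z := by rw [hz.2]; group
      _ = 1 := by rw [hy.2, mul_one, hz.2]

/-- elements with diagonal `0` are central -/
theorem Tr.comm_alt [Finite V] (hW : Max C.S W) {v : V} (hv : v ∈ W) {k : G} (hk : Tr C W v k) {a : C.L}
    (ha : a ∈ AW C.S W) (h0 : δ C.S a = 0) : k * (a : G) = a * k := by
  have := hk.conj_a hW hv ha
  rw [h0, s_zero, mul_one] at this
  rw [← mul_inv_eq_iff_eq_mul]
  exact this

end Cfsg.Agent.OddHalf.SpTwoN.Transl

end

-- merged: Cfsg.Agent.OddHalf.SpTwoN.Section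
section

/-!
# The elementary abelian transversal `F`

Every translation of `Ω` is induced by an involution; two involutions over different vectors `v, w` commute or have
commutator the short root element of `⟨v, w⟩`; commuting is transitive; hence the involutions commuting with two
commuting ones form an elementary abelian group `F` meeting every translation class in a coset of the alternating
elements of `A_W`.
-/

set_option autoImplicit false

namespace Cfsg.Agent.OddHalf.SpTwoN.Section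

open Subgroup
open Cfsg.Agent.StandardComponent.SpTwo
open Cfsg.Agent.OddHalf.SpTwoN.Words Cfsg.Agent.OddHalf.SpTwoN.Iso Cfsg.Agent.OddHalf.SpTwoN.Transl

variable {G V : Type*} [Group G] [AddCommGroup V] [Module (ZMod 2) V] {C : Ctx G V} {W : Submodule (ZMod 2) V}

/-! ### affine maps of `Ω` -/

variable (C W) in
/-- `h` acts on `Ω` as `x ↦ n x + v`. -/
def Aff (n : C.L) (v : V) (h : G) : Prop := ∀ x ∈ W, h * (C.t * C.b x) * h⁻¹ = C.t * C.b (C.S.ρ n x + v)

variable (W) in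
/-- `n` stabilises `W` -/
def St (n : C.L) : Prop := ∀ x, x ∈ W ↔ C.S.ρ n x ∈ W

theorem St.inv {n : C.L} (hn : St W n) : St W n⁻¹ := by
  intro x
  rw [hn (C.S.ρ n⁻¹ x), C.S.ρ_apply_inv]

theorem St.mul {n m : C.L} (hn : St W n) (hm : St W m) : St W (n * m) := by
  intro x
  rw [C.S.ρ_mul, ← hn, ← hm]

theorem Aff.mul {n m : C.L} {v w : V} {h k : G} (hm : St W m) (hw : w ∈ W) (h1 : Aff C W n v h)
    (h2 : Aff C W m w k) : Aff C W (n * m) (C.S.ρ n w + v) (h * k) := by
  intro x hx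
  have h3 := h1 (C.S.ρ m x + w) (add_mem ((hm x).1 hx) hw)
  calc h * k * (C.t * C.b x) * (h * k)⁻¹ = h * (k * (C.t * C.b x) * k⁻¹) * h⁻¹ := by group
    _ = h * (C.t * C.b (C.S.ρ m x + w)) * h⁻¹ := by rw [h2 x hx]
    _ = _ := by rw [h3, map_add, C.S.ρ_mul, add_assoc]

theorem Aff.inv_apply {n : C.L} {v : V} {h : G} (hn : St W n) (hv : v ∈ W) (h1 : Aff C W n v h) {x : V}
    (hx : x ∈ W) : h⁻¹ * (C.t * C.b x) * h = C.t * C.b (C.S.ρ n⁻¹ (x + v)) := by
  have h2 := h1 (C.S.ρ n⁻¹ (x + v)) ((hn.inv _).1 (add_mem hx hv))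
  rw [C.S.ρ_apply_inv, aab] at h2
  rw [← h2]
  group

theorem aff_L (n : C.L) : Aff C W n 0 (n : G) := by
  intro x _
  have h1 := Lt (C := C) n
  have h2 := C.b_conj n x
  rw [add_zero, ← h2]
  calc (n : G) * (C.t * C.b x) * (n : G)⁻¹ = (n * C.t) * C.b x * (n : G)⁻¹ := by group
    _ = _ := by rw [h1]; group

theorem aff_tr {v : V} {k : G} (hk : Tr C W v k) : Aff C W 1 v k := by
  intro x hx
  rw [C.S.ρ_one]
  exact hk x hx

/-- conjugation of a translation by an affine map -/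
theorem Aff.conj_tr {n : C.L} {v u : V} {h k : G} (hn : St W n) (hv : v ∈ W) (hu : u ∈ W)
    (h1 : Aff C W n v h) (hk : Tr C W u k) : Tr C W (C.S.ρ n u) (h * k * h⁻¹) := by
  intro x hx
  have h2 := h1.inv_apply hn hv hx
  have hx' : C.S.ρ n⁻¹ (x + v) ∈ W := (hn.inv _).1 (add_mem hx hv)
  have h3 := hk _ hx'
  have h4 := h1 _ (add_mem hx' hu)
  calc h * k * h⁻¹ * (C.t * C.b x) * (h * k * h⁻¹)⁻¹
      = h * (k * (h⁻¹ * (C.t * C.b x) * h) * k⁻¹) * h⁻¹ := by group
    _ = C.t * C.b (C.S.ρ n (C.S.ρ n⁻¹ (x + v) + u) + v) := by rw [h2, h3, h4]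
    _ = C.t * C.b (x + C.S.ρ n u) := by
        rw [map_add, C.S.ρ_apply_inv]
        congr 2
        have : x + v + C.S.ρ n u + v = x + C.S.ρ n u + (v + v) := by abel
        rw [this, aa, add_zero]

theorem Aff.conj_E {n : C.L} {v u : V} {h k : G} (hn : St W n) (hv : v ∈ W) (hu : u ∈ W)
    (h1 : Aff C W n v h) (hk : E C W u k) : E C W (C.S.ρ n u) (h * k * h⁻¹) := by
  refine ⟨h1.conj_tr hn hv hu hk.1, ?_⟩
  calc h * k * h⁻¹ * (h * k * h⁻¹) = h * (k * k) * h⁻¹ := by group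
    _ = 1 := by rw [hk.2]; group

section fin

variable [Finite V]

omit [Finite V] in
theorem coe_conj (g a : C.L) : (g : G) * (a : G) * (g : G)⁻¹ = ((g * a * g⁻¹ : C.L) : G) := rfl

/-- the product over a line is in `A_W` -/
theorem prod_mem (hW : Max C.S W) {v w : V} (hv : v ∈ W) (hw : w ∈ W) (hv0 : v ≠ 0) (hw0 : w ≠ 0) (hvw : v ≠ w)
    {y z x : G} (hy : E C W v y) (hz : E C W w z) (hx : E C W (v + w) x) :
    ∃ a : C.L, a ∈ AW C.S W ∧ y * z * x = a := by
  have h0 : Tr C W 0 (y * z * x) := by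
    have h1 := (hy.1.mul hw hz.1).mul (add_mem hv hw) hx.1
    rwa [aa] at h1
  obtain ⟨a, ha, h | h⟩ := h0.zero
  · exact ⟨a, ha, h⟩
  · exfalso
    have hvw' : v + w ≠ v := by
      intro h
      apply hw0
      have : v + w = v + 0 := by rw [h, add_zero]
      exact add_left_cancel this
    have hvw0 : v + w ≠ 0 := fun h => hvw (eq_of_add v w h)
    obtain ⟨c, hc, hc0, h1⟩ := comm_mem hW (add_mem hv hw) hv hvw0 hv0 hvw' hx hy
    obtain ⟨d, hd, hd0, h2⟩ := comm_mem hW hw hv hw0 hv0 (Ne.symm hvw) hz hy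
    have e1 : x * y = c * (y * x) := by
      rw [← h1]
      calc x * y = x * y * x * (y * y) * x := by rw [hy.2]; calc x * y = x * y * (x * x) := by rw [hx.2, mul_one]
            _ = x * y * x * 1 * x := by group
        _ = _ := by group
    have e2 : z * y = d * (y * z) := by
      rw [← h2]
      calc z * y = z * y * z * (y * y) * z := by rw [hy.2]; calc z * y = z * y * (z * z) := by rw [hz.2, mul_one]
            _ = z * y * z * 1 * z := by group
        _ = _ := by group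
    have e3 : z * (c : G) = c * z := hz.1.comm_alt hW hw hc hc0
    have e4 : y * (y * z * x) * y = c * d * (y * z * x) := by
      calc y * (y * z * x) * y = (y * y) * z * (x * y) := by group
        _ = z * (c * (y * x)) := by rw [hy.2, e1]; group
        _ = (z * c) * (y * x) := by group
        _ = c * (z * y) * x := by rw [e3]; group
        _ = _ := by rw [e2]; group
    rw [h] at e4
    have e5 : y * (C.t * (a : G)) * y = C.t * C.b v * (a * s C v (δ C.S a)) := by
      rw [← hy.conj_t, ← hy.conj_a hW hv ha]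
      calc y * (C.t * (a : G)) * y = y * C.t * (y * y) * a * y := by rw [hy.2]; group
        _ = _ := by group
    rw [e5] at e4
    have e6 : (c : G) * d * (C.t * a) = C.t * (c * d * a) := by
      have h5 := Lt (C := C) (c * d)
      change (c : G) * d * C.t = C.t * (c * d) at h5
      calc (c : G) * d * (C.t * a) = (c * d * C.t) * a := by group
        _ = _ := by rw [h5]; group
    rw [e6, mul_assoc] at e4
    have e7 := mul_left_cancel e4
    have e8 : C.S.τ v * (a * sg C.S v (δ C.S a)) = c * d * a := Subtype.ext e7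
    have hs := sA hW hv (hW.δ_mem ha)
    have e9 := congrArg (δ C.S) e8
    rw [hW.δ_mul (hW.τ_mem hv) (mul_mem ha hs), hW.δ_mul ha hs, δ_τ, δ_sg (hW.perp hv (hW.δ_mem ha)),
      hW.δ_mul (mul_mem hc hd) ha, hW.δ_mul hc hd, hc0, hd0, add_zero, zero_add, zero_add] at e9
    apply hv0
    have : v + δ C.S a = 0 + δ C.S a := by rw [e9, zero_add]
    exact add_right_cancel this

omit [Finite V] in
theorem mem_span_pair_cases {v w d : V} (h : d ∈ Submodule.span (ZMod 2) {v, w}) :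
    d = 0 ∨ d = v ∨ d = w ∨ d = v + w := by
  rw [Submodule.mem_span_pair] at h
  obtain ⟨a, b, rfl⟩ := h
  rcases z2 a with ha | ha <;> rcases z2 b with hb | hb <;> rw [ha, hb] <;> simp

/-- the diagonal of the product over a line is in the line -/
theorem δ_prod (hW : Max C.S W) (hr : 4 ≤ Module.finrank (ZMod 2) W) {v w : V} (hv : v ∈ W) (hw : w ∈ W)
    (hv0 : v ≠ 0) (hw0 : w ≠ 0) (hvw : v ≠ w) {y z x : G} (hy : E C W v y) (hz : E C W w z) (hx : E C W (v + w) x)
    {a : C.L} (ha : a ∈ AW C.S W) (hk : y * z * x = a) :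
    δ C.S a = 0 ∨ δ C.S a = v ∨ δ C.S a = w ∨ δ C.S a = v + w := by
  apply mem_span_pair_cases
  by_contra hd
  set U := Submodule.span (ZMod 2) ({v, w} : Set V) with hU
  have hvU : v ∈ U := Submodule.subset_span (by simp)
  have hwU : w ∈ U := Submodule.subset_span (by simp)
  obtain ⟨f, hf, hdf⟩ := exists_perp C.S U hd
  -- a vector of `W` perpendicular to `f` outside of `U`
  have hz' : ∃ c ∈ W, C.S.B c f = 0 ∧ c ∉ U := by
    by_contra hn
    push Not at hn
    have hle : W ≤ Submodule.span (ZMod 2) ({v, w, δ C.S a} : Set V) := by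
      intro c hc
      have hmono : U ≤ Submodule.span (ZMod 2) ({v, w, δ C.S a} : Set V) :=
        Submodule.span_mono (by intro x hx; simp only [Set.mem_insert_iff, Set.mem_singleton_iff] at hx ⊢; tauto)
      rcases z2 (C.S.B c f) with h | h
      · exact hmono (hn c hc h)
      · have h1 : c + δ C.S a ∈ U := by
          apply hn _ (add_mem hc (hW.δ_mem ha))
          rw [map_add, LinearMap.add_apply, h, hdf]
          decide
        have h2 : c = (c + δ C.S a) + δ C.S a := (aab _ _).symm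
        rw [h2]
        exact add_mem (hmono h1) (Submodule.subset_span (by simp))
    have h1 := Submodule.finrank_mono hle
    have h2 : Module.finrank (ZMod 2) (Submodule.span (ZMod 2) ({v, w, δ C.S a} : Set V)) ≤ 3 := by
      classical
      have := finrank_span_finset_le_card (R := ZMod 2) ({v, w, δ C.S a} : Finset V)
      rw [Finset.coe_insert, Finset.coe_insert, Finset.coe_singleton] at this
      exact this.trans Finset.card_le_three
    omega
  obtain ⟨c, hc, hcf, hcU⟩ := hz'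
  -- the element
  set g : C.L := sg C.S c f with hg
  have hgx : ∀ x ∈ W, C.S.ρ g x = x + C.S.B x f • c := by
    intro x hx
    rw [hg, ρ_sg C.S hcf, hW.perp hx hc, zero_smul, add_zero]
  have hgst : St W g := by
    have h1 : ∀ x ∈ W, C.S.ρ g x ∈ W := by
      intro x hx
      rw [hgx x hx]
      exact add_mem hx (Submodule.smul_mem _ _ hc)
    intro x
    refine ⟨h1 x, fun h => ?_⟩
    have h2 := h1 _ h
    rwa [← C.S.ρ_mul, sg_sq C.S hcf, C.S.ρ_one] at h2
  have hgU : ∀ x ∈ U, C.S.ρ g x = x := by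
    intro x hx
    have hUW : U ≤ W := Submodule.span_le.2 (by
      intro x hx
      simp only [Set.mem_insert_iff, Set.mem_singleton_iff] at hx
      rcases hx with rfl | rfl
      · exact hv
      · exact hw)
    rw [hgx x (hUW hx), hf x hx, zero_smul, add_zero]
  have e1 : E C W v (g * y * (g : G)⁻¹) := by
    have := (aff_L (W := W) g).conj_E hgst (zero_mem _) hv hy
    rwa [hgU v hvU] at this
  have e2 : E C W w (g * z * (g : G)⁻¹) := by
    have := (aff_L (W := W) g).conj_E hgst (zero_mem _) hw hz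
    rwa [hgU w hwU] at this
  have e3 : E C W (v + w) (g * x * (g : G)⁻¹) := by
    have := (aff_L (W := W) g).conj_E hgst (zero_mem _) (add_mem hv hw) hx
    rwa [hgU _ (add_mem hvU hwU)] at this
  have hvw0 : v + w ≠ 0 := fun h => hvw (eq_of_add v w h)
  obtain ⟨a1, ha1, h1, d1⟩ := hy.same hW hv hv0 e1
  obtain ⟨a2, ha2, h2, d2⟩ := hz.same hW hw hw0 e2
  obtain ⟨a3, ha3, h3, d3⟩ := hx.same hW (add_mem hv hw) hvw0 e3
  have hs1 := sA hW hw (hW.δ_mem ha1)
  set c1 : C.L := a1 * sg C.S w (δ C.S a1) * a2 with hc1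
  have hc1A : c1 ∈ AW C.S W := mul_mem (mul_mem ha1 hs1) ha2
  have hs2 := sA hW (add_mem hv hw) (hW.δ_mem hc1A)
  have e4 : (g : G) * a * (g : G)⁻¹ = a * (c1 * s C (v + w) (δ C.S c1)) * a3 := by
    have f1 := hz.conj_a hW hw ha1
    have f2 := hx.conj_a hW (add_mem hv hw) hc1A
    rw [← f2]
    calc (g : G) * a * (g : G)⁻¹ = (g * y * (g : G)⁻¹) * (g * z * (g : G)⁻¹) * (g * x * (g : G)⁻¹) := by
          rw [← hk]; group
      _ = (y * a1) * (z * a2) * (x * a3) := by rw [h1, h2, h3]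
      _ = y * (z * z) * a1 * z * a2 * (x * a3) := by rw [hz.2]; group
      _ = y * z * (z * a1 * z) * a2 * (x * a3) := by group
      _ = y * z * (a1 * s C w (δ C.S a1)) * a2 * (x * a3) := by rw [f1]
      _ = y * z * (x * x) * (a1 * s C w (δ C.S a1)) * a2 * (x * a3) := by rw [hx.2]; group
      _ = (y * z * x) * (x * (a1 * s C w (δ C.S a1) * a2) * x) * a3 := by group
      _ = _ := by rw [hk]; rfl
  have e5 : g * a * g⁻¹ = a * (c1 * sg C.S (v + w) (δ C.S c1)) * a3 := Subtype.ext e4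
  have e6 := congrArg (δ C.S) e5
  rw [δ_conj (hW.sq ha), hW.δ_mul (mul_mem ha (mul_mem hc1A hs2)) ha3, hW.δ_mul ha (mul_mem hc1A hs2),
    hW.δ_mul hc1A hs2, δ_sg (hW.perp (add_mem hv hw) (hW.δ_mem hc1A)), hc1, hW.δ_mul (mul_mem ha1 hs1) ha2,
    hW.δ_mul ha1 hs1, δ_sg (hW.perp hw (hW.δ_mem ha1)), hgx _ (hW.δ_mem ha), hdf, one_smul, add_zero,
    add_zero, add_assoc] at e6
  have e7 := add_left_cancel e6
  apply hcU
  rw [e7]
  refine add_mem (add_mem ?_ ?_) ?_
  · rcases d1 with h | h <;> rw [h]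
    · exact zero_mem _
    · exact hvU
  · rcases d2 with h | h <;> rw [h]
    · exact zero_mem _
    · exact hwU
  · rcases d3 with h | h <;> rw [h]
    · exact zero_mem _
    · exact add_mem hvU hwU

omit [Finite V] in
theorem s_add_left (hW : Max C.S W) {v w : V} (hv : v ∈ W) (hw : w ∈ W) : s C (v + w) v = s C v w := by
  rw [s_comm hW (add_mem hv hw) hv]
  exact congrArg Subtype.val (sg_add C.S (hW.perp hv hw))

omit [Finite V] in
theorem s_add_right (hW : Max C.S W) {v w : V} (hv : v ∈ W) (hw : w ∈ W) : s C (v + w) w = s C v w := by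
  rw [add_comm, s_add_left hW hw hv, s_comm hW hw hv]

/-- **commutators**: two involutions over different vectors commute or have commutator `s_{v,w}` -/
theorem comm_cases (hW : Max C.S W) (hr : 4 ≤ Module.finrank (ZMod 2) W)
    (hE : ∀ v ∈ W, v ≠ 0 → ∃ y, E C W v y) {v w : V} (hv : v ∈ W) (hw : w ∈ W)
    (hv0 : v ≠ 0) (hw0 : w ≠ 0) (hvw : v ≠ w) {y z : G} (hy : E C W v y) (hz : E C W w z) :
    y * z * y * z = 1 ∨ y * z * y * z = s C v w := by
  have hvw0 : v + w ≠ 0 := fun h => hvw (eq_of_add v w h)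
  obtain ⟨x, hx⟩ := hE (v + w) (add_mem hv hw) hvw0
  obtain ⟨a, ha, hk⟩ := prod_mem hW hv hw hv0 hw0 hvw hy hz hx
  have h1 : y * z = a * x := by
    rw [← hk, mul_assoc, hx.2, mul_one]
  have h2 : y * z * y * z = s C (v + w) (δ C.S a) := by
    have h3 := hx.conj_a hW (add_mem hv hw) ha
    calc y * z * y * z = (y * z) * (y * z) := by group
      _ = a * (x * a * x) := by rw [h1]; group
      _ = (a * a) * s C (v + w) (δ C.S a) := by rw [h3]; group
      _ = _ := by rw [asq hW ha, one_mul]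
  rw [h2]
  rcases δ_prod hW hr hv hw hv0 hw0 hvw hy hz hx ha hk with h | h | h | h <;> rw [h]
  · left; exact s_zero _
  · right; exact s_add_left hW hv hw
  · right; exact s_add_right hW hv hw
  · left; exact s_self _

theorem commute_of_sq {y z : G} (hy : y * y = 1) (hz : z * z = 1) (h : y * z * y * z = 1) : Commute y z := by
  change y * z = z * y
  calc y * z = y * z * y * z * z * y := by
        calc y * z = y * z * (y * (z * z) * y) := by rw [hz, mul_one, hy, mul_one]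
          _ = _ := by group
    _ = z * y := by rw [h, one_mul]

theorem sq_of_commute {y z : G} (hy : y * y = 1) (hz : z * z = 1) (h : Commute y z) : y * z * (y * z) = 1 := by
  have : y * z = z * y := h
  calc y * z * (y * z) = y * z * (z * y) := by rw [this]
    _ = y * (z * z) * y := by group
    _ = 1 := by rw [hz, mul_one, hy]

/-- commuting is transitive -/
theorem comm_trans (hW : Max C.S W) (hr : 4 ≤ Module.finrank (ZMod 2) W)
    (hE : ∀ v ∈ W, v ≠ 0 → ∃ y, E C W v y) {v w x : V} (hv : v ∈ W) (hw : w ∈ W) (hx : x ∈ W)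
    (hv0 : v ≠ 0) (hw0 : w ≠ 0) (hx0 : x ≠ 0) (hvw : v ≠ w) (hvx : v ≠ x) (hwx : w ≠ x) (hvwx : v + w ≠ x)
    {y z u : G} (hy : E C W v y) (hz : E C W w z) (hu : E C W x u) (h1 : Commute y z) (h2 : Commute y u) :
    Commute z u := by
  rcases comm_cases hW hr hE hw hx hw0 hx0 hwx hz hu with h | h
  · exact commute_of_sq hz.2 hu.2 h
  · exfalso
    have hvw0 : v + w ≠ 0 := fun h => hvw (eq_of_add v w h)
    have e1 : E C W (v + w) (y * z) := ⟨hy.1.mul hw hz.1, sq_of_commute hy.2 hz.2 h1⟩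
    have e2 : y * z * u * (y * z) * u = z * u * z * u := by
      have h2' : u * y = y * u := h2.eq.symm
      have h1' : z * y = y * z := h1.eq.symm
      calc y * z * u * (y * z) * u = y * z * (u * y) * z * u := by group
        _ = y * (z * y) * u * z * u := by rw [h2']; group
        _ = (y * y) * z * u * z * u := by rw [h1']; group
        _ = _ := by rw [hy.2, one_mul]
    rcases comm_cases hW hr hE (add_mem hv hw) hx hvw0 hx0 hvwx e1 hu with h3 | h3
    · rw [e2, h] at h3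
      rcases s_one hW hw hx h3 with h4 | h4 | h4
      · exact hw0 h4
      · exact hx0 h4
      · exact hwx h4
    · rw [e2, h, s_comm hW hw hx, s_comm hW (add_mem hv hw) hx, ← s_mul hW hx hv hw] at h3
      have h4 : s C x v = 1 := by
        have : 1 * s C x w = s C x v * s C x w := by rw [one_mul]; exact h3
        exact (mul_right_cancel this).symm
      rcases s_one hW hx hv h4 with h5 | h5 | h5
      · exact hx0 h5
      · exact hv0 h5
      · exact hvx h5.symm

/-! ### the transversal -/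

variable (C W) in
/-- two commuting involutions over different vectors -/
structure Frame (v0 v1 : V) (y0 y1 : G) : Prop where
  h0 : v0 ∈ W
  h1 : v1 ∈ W
  n0 : v0 ≠ 0
  n1 : v1 ≠ 0
  ne : v0 ≠ v1
  e0 : E C W v0 y0
  e1 : E C W v1 y1
  comm : Commute y0 y1

variable (C W) in
/-- an element of the transversal over `w` -/
def F (y0 y1 : G) (w : V) (z : G) : Prop := w ∈ W ∧ E C W w z ∧ Commute z y0 ∧ Commute z y1

/-- an element of `A_W` commuting with an involution -/
theorem δ_of_commute (hW : Max C.S W) {v : V} (hv : v ∈ W) (hv0 : v ≠ 0) {y : G} (hy : E C W v y) {a : C.L}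
    (ha : a ∈ AW C.S W) (h : Commute (a : G) y) : δ C.S a = 0 ∨ δ C.S a = v := by
  apply δ_cases hW hv hv0 ha
  have h1 := hy.conj_a hW hv ha
  have h2 : y * (a : G) * y = a := by rw [← h.eq, mul_assoc, hy.2, mul_one]
  rw [h2] at h1
  have : (a : G) * 1 = a * s C v (δ C.S a) := by rw [mul_one]; exact h1
  exact (mul_left_cancel this).symm

theorem commute_alt (hW : Max C.S W) {v : V} (hv : v ∈ W) {y : G} (hy : Tr C W v y) {a : C.L}
    (ha : a ∈ AW C.S W) (h0 : δ C.S a = 0) : Commute (a : G) y := (hy.comm_alt hW hv ha h0).symm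

variable {v0 v1 : V} {y0 y1 : G}

theorem Frame.zero (hW : Max C.S W) (f : Frame C W v0 v1 y0 y1) {z : G} (hz : F C W y0 y1 0 z) :
    ∃ a : C.L, a ∈ AW C.S W ∧ δ C.S a = 0 ∧ z = a := by
  obtain ⟨-, hz, hz0, hz1⟩ := hz
  obtain ⟨a, ha, h | h⟩ := hz.1.zero
  · refine ⟨a, ha, ?_, h⟩
    rw [h] at hz0 hz1
    rcases δ_of_commute hW f.h0 f.n0 f.e0 ha hz0 with h2 | h2
    · exact h2
    · rcases δ_of_commute hW f.h1 f.n1 f.e1 ha hz1 with h3 | h3
      · exact h3
      · exact absurd (h2.symm.trans h3) f.ne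
  · exfalso
    apply sq_yta hW f.h0 f.n0 f.e0 ha
    rw [← h]
    exact sq_of_commute f.e0.2 hz.2 hz0.symm

theorem Frame.same (hW : Max C.S W) (f : Frame C W v0 v1 y0 y1) {w : V} {z z' : G} (hz : F C W y0 y1 w z)
    (hz' : F C W y0 y1 w z') : ∃ a : C.L, a ∈ AW C.S W ∧ δ C.S a = 0 ∧ z' = z * a := by
  by_cases hw0 : w = 0
  · subst hw0
    obtain ⟨a, ha, ha0, rfl⟩ := f.zero hW hz
    obtain ⟨c, hc, hc0, rfl⟩ := f.zero hW hz'
    refine ⟨a⁻¹ * c, mul_mem (inv_mem ha) hc, ?_, ?_⟩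
    · rw [inv_of_sq (hW.sq ha), hW.δ_mul ha hc, ha0, hc0, add_zero]
    · rw [← Subgroup.coe_mul, mul_inv_cancel_left]
  · obtain ⟨a, ha, h1, h2⟩ := hz.2.1.same hW hz.1 hw0 hz'.2.1
    have h3 : (a : G) = z * z' := by rw [h1, ← mul_assoc, hz.2.1.2, one_mul]
    have c0 : Commute (a : G) y0 := by rw [h3]; exact hz.2.2.1.mul_left hz'.2.2.1
    have c1 : Commute (a : G) y1 := by rw [h3]; exact hz.2.2.2.mul_left hz'.2.2.2
    refine ⟨a, ha, ?_, h1⟩
    rcases δ_of_commute hW f.h0 f.n0 f.e0 ha c0 with h2 | h2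
    · exact h2
    · rcases δ_of_commute hW f.h1 f.n1 f.e1 ha c1 with h3 | h3
      · exact h3
      · exact absurd (h2.symm.trans h3) f.ne

omit [Finite V] in
theorem Frame.F0 (f : Frame C W v0 v1 y0 y1) : F C W y0 y1 v0 y0 := ⟨f.h0, f.e0, Commute.refl _, f.comm⟩

omit [Finite V] in
theorem Frame.F1 (f : Frame C W v0 v1 y0 y1) : F C W y0 y1 v1 y1 := ⟨f.h1, f.e1, f.comm.symm, Commute.refl _⟩

/-- the transversal is commutative -/
theorem Frame.commute (hW : Max C.S W) (hr : 4 ≤ Module.finrank (ZMod 2) W)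
    (hE : ∀ v ∈ W, v ≠ 0 → ∃ y, E C W v y) (f : Frame C W v0 v1 y0 y1) {w x : V} {z u : G}
    (hz : F C W y0 y1 w z) (hu : F C W y0 y1 x u) : Commute z u := by
  by_cases hw0 : w = 0
  · subst hw0
    obtain ⟨a, ha, ha0, rfl⟩ := f.zero hW hz
    exact commute_alt hW hu.1 hu.2.1.1 ha ha0
  by_cases hx0 : x = 0
  · subst hx0
    obtain ⟨a, ha, ha0, rfl⟩ := f.zero hW hu
    exact (commute_alt hW hz.1 hz.2.1.1 ha ha0).symm
  by_cases hwx : w = x
  · subst hwx
    obtain ⟨a, ha, ha0, rfl⟩ := f.same hW hz hu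
    exact (Commute.refl z).mul_right (commute_alt hW hz.1 hz.2.1.1 ha ha0).symm
  by_cases e1 : v0 = w
  · subst e1
    obtain ⟨a, ha, ha0, rfl⟩ := f.same hW f.F0 hz
    exact hu.2.2.1.symm.mul_left (commute_alt hW hu.1 hu.2.1.1 ha ha0)
  by_cases e2 : v1 = w
  · subst e2
    obtain ⟨a, ha, ha0, rfl⟩ := f.same hW f.F1 hz
    exact hu.2.2.2.symm.mul_left (commute_alt hW hu.1 hu.2.1.1 ha ha0)
  by_cases e3 : v0 = x
  · subst e3
    obtain ⟨a, ha, ha0, rfl⟩ := f.same hW f.F0 hu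
    exact hz.2.2.1.mul_right (commute_alt hW hz.1 hz.2.1.1 ha ha0).symm
  by_cases e4 : v1 = x
  · subst e4
    obtain ⟨a, ha, ha0, rfl⟩ := f.same hW f.F1 hu
    exact hz.2.2.2.mul_right (commute_alt hW hz.1 hz.2.1.1 ha ha0).symm
  by_cases e5 : v0 + w = x
  · have e6 : v1 + w ≠ x := fun h => f.ne (add_right_cancel (e5.trans h.symm))
    exact comm_trans hW hr hE f.h1 hz.1 hu.1 f.n1 hw0 hx0 e2 e4 hwx e6 f.e1 hz.2.1 hu.2.1 hz.2.2.2.symm
      hu.2.2.2.symm
  · exact comm_trans hW hr hE f.h0 hz.1 hu.1 f.n0 hw0 hx0 e1 e3 hwx e5 f.e0 hz.2.1 hu.2.1 hz.2.2.1.symm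
      hu.2.2.1.symm

theorem Frame.mul (hW : Max C.S W) (hr : 4 ≤ Module.finrank (ZMod 2) W)
    (hE : ∀ v ∈ W, v ≠ 0 → ∃ y, E C W v y) (f : Frame C W v0 v1 y0 y1) {w x : V} {z u : G}
    (hz : F C W y0 y1 w z) (hu : F C W y0 y1 x u) : F C W y0 y1 (w + x) (z * u) := by
  have h1 := f.commute hW hr hE hz hu
  exact ⟨add_mem hz.1 hu.1, ⟨hz.2.1.1.mul hu.1 hu.2.1.1, sq_of_commute hz.2.1.2 hu.2.1.2 h1⟩,
    hz.2.2.1.mul_left hu.2.2.1, hz.2.2.2.mul_left hu.2.2.2⟩

theorem Frame.alt (hW : Max C.S W) (f : Frame C W v0 v1 y0 y1) {a : C.L} (ha : a ∈ AW C.S W)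
    (h0 : δ C.S a = 0) : F C W y0 y1 0 (a : G) :=
  ⟨zero_mem _, ⟨tr_a hW ha, asq hW ha⟩, commute_alt hW f.h0 f.e0.1 ha h0, commute_alt hW f.h1 f.e1.1 ha h0⟩

/-- existence of an element of the transversal over each vector -/
theorem Frame.exists_mem (hW : Max C.S W) (hr : 4 ≤ Module.finrank (ZMod 2) W)
    (hE : ∀ v ∈ W, v ≠ 0 → ∃ y, E C W v y) (f : Frame C W v0 v1 y0 y1) {w : V} (hw : w ∈ W) :
    ∃ z, F C W y0 y1 w z := by
  by_cases hw0 : w = 0
  · subst hw0
    refine ⟨((1 : C.L) : G), f.alt hW (one_mem _) δ_one⟩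
  by_cases e0 : v0 = w
  · exact ⟨y0, e0 ▸ f.F0⟩
  by_cases e1 : v1 = w
  · exact ⟨y1, e1 ▸ f.F1⟩
  by_cases e2 : v0 + v1 = w
  · exact ⟨y0 * y1, e2 ▸ f.mul hW hr hE f.F0 f.F1⟩
  obtain ⟨z, hz⟩ := hE w hw hw0
  have key : ∃ z', E C W w z' ∧ Commute y0 z' := by
    rcases comm_cases hW hr hE f.h0 hw f.n0 hw0 e0 f.e0 hz with h | h
    · exact ⟨z, hz, commute_of_sq f.e0.2 hz.2 h⟩
    · have hb := hW.τ_mem hw
      refine ⟨z * (C.S.τ w : C.L), hz.mul_a hW hw hb (Or.inr (δ_τ w)), ?_⟩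
      apply commute_of_sq f.e0.2 (hz.mul_a hW hw hb (Or.inr (δ_τ w))).2
      have h1 := f.e0.conj_a hW f.h0 hb
      have h2 := hz.conj_a hW hw hb
      have h3 := hz.1.comm_alt hW hw (sA hW f.h0 hw) (δ_sg (hW.perp f.h0 hw))
      rw [δ_τ] at h1 h2
      rw [s_self, mul_one] at h2
      change z * s C v0 w = s C v0 w * z at h3
      have h4 : s C v0 w * (C.S.τ w : C.L) = (C.S.τ w : C.L) * s C v0 w := acomm hW (sA hW f.h0 hw) hb
      have h5 : ((C.S.τ w : C.L) : G) * (C.S.τ w : C.L) = 1 := C.b_sq w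
      calc y0 * (z * (C.S.τ w : C.L)) * y0 * (z * (C.S.τ w : C.L))
          = y0 * z * (y0 * y0) * (C.S.τ w : C.L) * y0 * (z * (C.S.τ w : C.L)) := by rw [f.e0.2]; group
        _ = y0 * z * y0 * (y0 * (C.S.τ w : C.L) * y0) * (z * (C.S.τ w : C.L)) := by group
        _ = y0 * z * y0 * ((C.S.τ w : C.L) * s C v0 w) * (z * (C.S.τ w : C.L)) := by rw [h1]
        _ = y0 * z * y0 * (z * z) * ((C.S.τ w : C.L) * s C v0 w) * z * (C.S.τ w : C.L) := by rw [hz.2]; group
        _ = (y0 * z * y0 * z) * (z * (C.S.τ w : C.L)) * (s C v0 w * z) * (C.S.τ w : C.L) := by group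
        _ = s C v0 w * (z * (C.S.τ w : C.L)) * (z * s C v0 w) * (C.S.τ w : C.L) := by rw [h, h3]
        _ = s C v0 w * (z * (C.S.τ w : C.L) * z) * (s C v0 w * (C.S.τ w : C.L)) := by group
        _ = s C v0 w * (C.S.τ w : C.L) * ((C.S.τ w : C.L) * s C v0 w) := by rw [h2, h4]
        _ = s C v0 w * ((C.S.τ w : C.L) * (C.S.τ w : C.L)) * s C v0 w := by group
        _ = 1 := by rw [h5, mul_one, s_sq hW f.h0 hw]
  obtain ⟨z', hz', hc⟩ := key
  exact ⟨z', hw, hz', hc.symm, (comm_trans hW hr hE f.h0 f.h1 hw f.n0 f.n1 hw0 f.ne e0 e1 e2 f.e0 f.e1 hz'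
    f.comm hc).symm⟩

/-- change of frame -/
theorem Frame.change (hW : Max C.S W) (hr : 4 ≤ Module.finrank (ZMod 2) W)
    (hE : ∀ v ∈ W, v ≠ 0 → ∃ y, E C W v y) (f : Frame C W v0 v1 y0 y1) {w0 w1 : V} {f0 f1 : G}
    (h0 : F C W y0 y1 w0 f0) (h1 : F C W y0 y1 w1 f1) (n0 : w0 ≠ 0) (n1 : w1 ≠ 0) (ne : w0 ≠ w1) :
    Frame C W w0 w1 f0 f1 ∧ ∀ u z, F C W f0 f1 u z ↔ F C W y0 y1 u z := by
  have g : Frame C W w0 w1 f0 f1 := ⟨h0.1, h1.1, n0, n1, ne, h0.2.1, h1.2.1, f.commute hW hr hE h0 h1⟩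
  have h2 : ∀ u z, F C W y0 y1 u z → F C W f0 f1 u z := fun u z hz =>
    ⟨hz.1, hz.2.1, f.commute hW hr hE hz h0, f.commute hW hr hE hz h1⟩
  refine ⟨g, fun u z => ⟨fun hz => ?_, h2 u z⟩⟩
  obtain ⟨z', hz'⟩ := f.exists_mem hW hr hE hz.1
  obtain ⟨a, ha, ha0, rfl⟩ := g.same hW (h2 u z' hz') hz
  have := f.mul hW hr hE hz' (f.alt hW ha ha0)
  rwa [add_zero] at this

/-- a frame exists -/
theorem exists_frame (hW : Max C.S W) (hr : 4 ≤ Module.finrank (ZMod 2) W)
    (hE : ∀ v ∈ W, v ≠ 0 → ∃ y, E C W v y) : ∃ v0 v1 y0 y1, Frame C W v0 v1 y0 y1 := by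
  have h1 : ∃ v0 ∈ W, v0 ≠ 0 := by
    by_contra hn
    push Not at hn
    have : W = ⊥ := by
      rw [eq_bot_iff]
      intro x hx
      exact hn x hx
    rw [this, finrank_bot] at hr
    omega
  obtain ⟨v0, hv0, hv00⟩ := h1
  have h2 : ∃ v1 ∈ W, v1 ∉ Submodule.span (ZMod 2) ({v0} : Set V) := by
    by_contra hn
    push Not at hn
    have h3 := Submodule.finrank_mono (show W ≤ _ from hn)
    have h4 : Module.finrank (ZMod 2) (Submodule.span (ZMod 2) ({v0} : Set V)) ≤ 1 := by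
      have := finrank_span_finset_le_card (R := ZMod 2) ({v0} : Finset V)
      rw [Finset.coe_singleton, Finset.card_singleton] at this
      exact this
    omega
  obtain ⟨v1, hv1, hv1s⟩ := h2
  have hne : v0 ≠ v1 := fun h => hv1s (h ▸ Submodule.mem_span_singleton_self v0)
  have hv10 : v1 ≠ 0 := fun h => hv1s (h ▸ zero_mem _)
  obtain ⟨y0, h0⟩ := hE v0 hv0 hv00
  obtain ⟨z, hz⟩ := hE v1 hv1 hv10
  rcases comm_cases hW hr hE hv0 hv1 hv00 hv10 hne h0 hz with h | h
  · exact ⟨v0, v1, y0, z, hv0, hv1, hv00, hv10, hne, h0, hz, commute_of_sq h0.2 hz.2 h⟩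
  · have hb := hW.τ_mem hv1
    have hz' := hz.mul_a hW hv1 hb (Or.inr (δ_τ v1))
    refine ⟨v0, v1, y0, _, hv0, hv1, hv00, hv10, hne, h0, hz', ?_⟩
    apply commute_of_sq h0.2 hz'.2
    -- `(y0 z b)² = (y0 z)² · s`
    have h5 : Tr C W (v0 + v1) (y0 * z) := h0.1.mul hv1 hz.1
    have h6 := (h5.inv (add_mem hv0 hv1)).conj_a hW (add_mem hv0 hv1) hb
    rw [δ_τ, inv_inv, s_add_right hW hv0 hv1] at h6
    have h7 : ((C.S.τ v1 : C.L) : G) * (C.S.τ v1 : C.L) = 1 := C.b_sq v1
    have h8 : ((C.S.τ v1 : C.L) : G) * s C v0 v1 = s C v0 v1 * (C.S.τ v1 : C.L) :=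
      (acomm hW (sA hW hv0 hv1) hb).symm
    calc y0 * (z * (C.S.τ v1 : C.L)) * y0 * (z * (C.S.τ v1 : C.L))
        = (y0 * z * y0 * z) * ((y0 * z)⁻¹ * (C.S.τ v1 : C.L) * (y0 * z)) * (C.S.τ v1 : C.L) := by group
      _ = s C v0 v1 * (s C v0 v1 * (C.S.τ v1 : C.L)) * (C.S.τ v1 : C.L) := by rw [h6, h, h8]
      _ = (s C v0 v1 * s C v0 v1) * ((C.S.τ v1 : C.L) * (C.S.τ v1 : C.L)) := by group
      _ = 1 := by rw [h7, mul_one, s_sq hW hv0 hv1]

end fin

end Cfsg.Agent.OddHalf.SpTwoN.Section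

end

-- merged: Cfsg.Agent.OddHalf.SpTwoN.LongH
section

/-!
# Pattern "long only": the group `H` of the affine maps of `Ω` and its sign

`H` acts affinely on `Ω = {t b_x : x ∈ W}`; an element of `H` normalises the transversal `F`, or `t` times it does.
-/

set_option autoImplicit false

namespace Cfsg.Agent.OddHalf.SpTwoN.LongH

open Subgroup
open Cfsg.Agent.StandardComponent.SpTwo
open Cfsg.Agent.OddHalf.SpTwoN.Words Cfsg.Agent.OddHalf.SpTwoN.Iso Cfsg.Agent.OddHalf.SpTwoN.Transl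
open Cfsg.Agent.OddHalf.SpTwoN.Section

variable {G V : Type*} [Group G] [AddCommGroup V] [Module (ZMod 2) V]

/-- the sign of a subgroup of index two -/
noncomputable def sgn {H : Type*} [Group H] (N : Subgroup H) (hN : N.index = 2) : H →* ℤˣ :=
  open Classical in
  { toFun := fun h => if h ∈ N then 1 else -1
    map_one' := if_pos (one_mem N)
    map_mul' := by
      intro a b
      by_cases ha : a ∈ N <;> by_cases hb : b ∈ N
      · rw [if_pos ha, if_pos hb, if_pos (mul_mem ha hb), one_mul]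
      · rw [if_pos ha, if_neg hb, if_neg, one_mul]
        rw [mul_mem_iff_of_index_two hN]
        exact fun h => hb (h.1 ha)
      · rw [if_neg ha, if_pos hb, if_neg, mul_one]
        rw [mul_mem_iff_of_index_two hN]
        exact fun h => ha (h.2 hb)
      · rw [if_neg ha, if_neg hb, if_pos, neg_mul_neg, one_mul]
        rw [mul_mem_iff_of_index_two hN]
        exact ⟨fun h => absurd h ha, fun h => absurd h hb⟩ }

theorem sgn_eq_neg {H : Type*} [Group H] {N : Subgroup H} {hN : N.index = 2} {h : H} :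
    sgn N hN h = -1 ↔ h ∉ N := by
  classical
  change (if h ∈ N then (1 : ℤˣ) else -1) = -1 ↔ _
  by_cases hh : h ∈ N
  · rw [if_pos hh]
    simp only [hh, not_true_eq_false, iff_false]
    decide
  · rw [if_neg hh]
    simp only [hh, not_false_eq_true]

variable (C : Ctx G V) (W : Submodule (ZMod 2) V)

/-- the affine group -/
def HG : Subgroup G where
  carrier := {h | ∃ n : C.L, St W n ∧ ∃ v ∈ W, Aff C W n v h}
  one_mem' := by
    refine ⟨1, fun x => by rw [C.S.ρ_one], 0, zero_mem _, ?_⟩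
    exact aff_tr (fun x _ => by rw [add_zero]; group)
  mul_mem' := by
    rintro h k ⟨n, hn, v, hv, h1⟩ ⟨m, hm, w, hw, h2⟩
    exact ⟨n * m, hn.mul hm, _, add_mem ((hn w).1 hw) hv, h1.mul hm hw h2⟩
  inv_mem' := by
    rintro h ⟨n, hn, v, hv, h1⟩
    refine ⟨n⁻¹, hn.inv, C.S.ρ n⁻¹ v, (hn.inv v).1 hv, fun x hx => ?_⟩
    rw [inv_inv, h1.inv_apply hn hv hx, map_add]

/-- the translations -/
def RG : Subgroup G where
  carrier := {h | ∃ v ∈ W, Tr C W v h}
  one_mem' := ⟨0, zero_mem _, fun x _ => by rw [add_zero]; group⟩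
  mul_mem' := by
    rintro h k ⟨v, hv, h1⟩ ⟨w, hw, h2⟩
    exact ⟨v + w, add_mem hv hw, h1.mul hw h2⟩
  inv_mem' := by
    rintro h ⟨v, hv, h1⟩
    exact ⟨v, hv, h1.inv hv⟩

/-- `A_W` in `G` -/
def AG : Subgroup G := (AW C.S W).map C.L.subtype

/-- the alternating elements of `A_W` in `G` -/
def LG : Subgroup G := (LW C.S W).map C.L.subtype

variable {C W}

theorem mem_AG {g : G} : g ∈ AG C W ↔ ∃ a : C.L, a ∈ AW C.S W ∧ g = a := by
  constructor
  · rintro ⟨a, ha, rfl⟩
    exact ⟨a, ha, rfl⟩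
  · rintro ⟨a, ha, rfl⟩
    exact ⟨a, ha, rfl⟩

theorem RG_le_HG : RG C W ≤ HG C W := by
  rintro h ⟨v, hv, h1⟩
  exact ⟨1, fun x => by rw [C.S.ρ_one], v, hv, aff_tr h1⟩

theorem t_mem_RG : C.t ∈ RG C W := ⟨0, zero_mem _, tr_t⟩

theorem Tr.unique {v w : V} {k : G} (h1 : Tr C W v k) (h2 : Tr C W w k) : v = w := by
  apply C.b_inj
  have := h1.conj_t.symm.trans h2.conj_t
  exact mul_left_cancel this

theorem conj_mem_RG {h k : G} (hh : h ∈ HG C W) (hk : k ∈ RG C W) : h * k * h⁻¹ ∈ RG C W := by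
  obtain ⟨n, hn, v, hv, h1⟩ := hh
  obtain ⟨u, hu, h2⟩ := hk
  exact ⟨_, (hn u).1 hu, h1.conj_tr hn hv hu h2⟩

section fin

variable [Finite V]

theorem LW_le_AW (hW : Max C.S W) : LW C.S W ≤ AW C.S W := by
  rw [hW.AW_eq_GW]
  exact LW_le_GW

theorem δ_LW (hW : Max C.S W) {a : C.L} (ha : a ∈ LW C.S W) : δ C.S a = 0 := by
  induction ha using Subgroup.closure_induction with
  | mem x hx =>
    obtain ⟨u, hu, w, hw, rfl⟩ := hx
    exact δ_sg (hW.perp hu hw)
  | one => exact δ_one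
  | mul x y hx hy ihx ihy => rw [hW.δ_mul (LW_le_AW hW hx) (LW_le_AW hW hy), ihx, ihy, add_zero]
  | inv x hx ihx => rw [inv_of_sq (hW.sq (LW_le_AW hW hx)), ihx]

theorem mem_LG (hW : Max C.S W) {g : G} : g ∈ LG C W ↔ ∃ a : C.L, a ∈ AW C.S W ∧ δ C.S a = 0 ∧ g = a := by
  constructor
  · rintro ⟨a, ha, rfl⟩
    exact ⟨a, LW_le_AW hW ha, δ_LW hW ha, rfl⟩
  · rintro ⟨a, ha, h0, rfl⟩
    exact ⟨a, hW.mem_LW ha h0, rfl⟩

/-- `|A| = |W| |Λ|` -/
theorem card_AG [Finite G] (hW : Max C.S W) : Nat.card (AG C W) = Nat.card W * Nat.card (LG C W) := by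
  let f : AG C W →* Multiplicative W :=
    { toFun := fun g => Multiplicative.ofAdd ⟨δ C.S ⟨g, by
          obtain ⟨a, -, h⟩ := mem_AG.1 g.2
          rw [h]; exact a.2⟩, hW.δ_mem (by
          obtain ⟨a, ha, h⟩ := mem_AG.1 g.2
          have : (⟨g, by rw [h]; exact a.2⟩ : C.L) = a := Subtype.ext h
          rw [this]; exact ha)⟩
      map_one' := by
        have : (⟨((1 : AG C W) : G), by rw [Subgroup.coe_one]; exact one_mem _⟩ : C.L) = 1 := rfl
        apply congrArg Multiplicative.ofAdd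
        apply Subtype.ext
        exact δ_one
      map_mul' := by
        intro g h
        obtain ⟨a, ha, h1⟩ := mem_AG.1 g.2
        obtain ⟨c, hc, h2⟩ := mem_AG.1 h.2
        rw [← ofAdd_add]
        apply congrArg Multiplicative.ofAdd
        apply Subtype.ext
        have e1 : (⟨g, by rw [h1]; exact a.2⟩ : C.L) = a := Subtype.ext h1
        have e2 : (⟨h, by rw [h2]; exact c.2⟩ : C.L) = c := Subtype.ext h2
        have e3 : (⟨((g * h : AG C W) : G), by rw [Subgroup.coe_mul, h1, h2]; exact mul_mem a.2 c.2⟩ : C.L) = a * c :=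
          Subtype.ext (by rw [Subgroup.coe_mul, Subgroup.coe_mul, h1, h2])
        change δ C.S ⟨((g * h : AG C W) : G), _⟩ = δ C.S ⟨g, _⟩ + δ C.S ⟨h, _⟩
        rw [e1, e2, e3, hW.δ_mul ha hc] }
  have hf : ∀ g : AG C W, ∀ h : (g : G) ∈ C.L, ((f g).toAdd : V) = δ C.S ⟨g, h⟩ := fun g h => rfl
  have h1 : Nat.card f.ker * Nat.card f.range = Nat.card (AG C W) := by
    rw [← index_ker, card_mul_index]
  have h2 : f.range = ⊤ := by
    rw [eq_top_iff]
    rintro w -
    have hw : ((w.toAdd : W) : V) ∈ W := w.toAdd.2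
    refine ⟨⟨(C.S.τ (w.toAdd : V) : C.L), mem_AG.2 ⟨_, hW.τ_mem hw, rfl⟩⟩, ?_⟩
    apply Multiplicative.toAdd.injective
    apply Subtype.ext
    rw [hf _ (C.S.τ (w.toAdd : V)).2]
    exact δ_τ _
  have h3 : Nat.card f.ker = Nat.card (LG C W) := by
    refine Nat.card_congr ⟨fun g => ⟨g.1.1, ?_⟩, fun g => ⟨⟨g.1, ?_⟩, ?_⟩, fun g => rfl, fun g => rfl⟩
    · obtain ⟨a, ha, h⟩ := mem_AG.1 g.1.2
      refine (mem_LG hW).2 ⟨a, ha, ?_, h⟩
      have h4 := g.2
      rw [MonoidHom.mem_ker] at h4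
      have h5 : (f g.1).toAdd = 0 := by rw [h4]; rfl
      have h6 := hf g.1 (by rw [h]; exact a.2)
      have h7 : (⟨g.1.1, by rw [h]; exact a.2⟩ : C.L) = a := Subtype.ext h
      rw [h7] at h6
      rw [← h6, h5]
      rfl
    · obtain ⟨a, ha, h0, h⟩ := (mem_LG hW).1 g.2
      exact mem_AG.2 ⟨a, ha, h⟩
    · obtain ⟨a, ha, h0, h⟩ := (mem_LG hW).1 g.2
      rw [MonoidHom.mem_ker]
      apply Multiplicative.toAdd.injective
      apply Subtype.ext
      rw [hf _ (by change (g : G) ∈ C.L; rw [h]; exact a.2)]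
      have h7 : (⟨g.1, by rw [h]; exact a.2⟩ : C.L) = a := Subtype.ext h
      change δ C.S ⟨g.1, _⟩ = 0
      rw [h7, h0]
  rw [← h1, h2, h3, Subgroup.card_top, mul_comm]
  rfl

variable {v0 v1 : V} {y0 y1 : G}

/-- the transversal as a subgroup -/
def FS (hW : Max C.S W) (hr : 4 ≤ Module.finrank (ZMod 2) W) (hE : ∀ v ∈ W, v ≠ 0 → ∃ y, E C W v y)
    (f : Frame C W v0 v1 y0 y1) : Subgroup G where
  carrier := {z | ∃ w, F C W y0 y1 w z}
  one_mem' := ⟨0, f.alt hW (one_mem _) δ_one⟩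
  mul_mem' := by
    rintro z u ⟨w, hz⟩ ⟨x, hu⟩
    exact ⟨_, f.mul hW hr hE hz hu⟩
  inv_mem' := by
    rintro z ⟨w, hz⟩
    refine ⟨w, ?_⟩
    rw [hz.2.1.inv]
    exact hz

omit [Finite V] in
/-- an affine map centralising `t` comes from `L` -/
theorem Aff.exists_L {n : C.L} {h : G} (h1 : Aff C W n 0 h) :
    ∃ m : C.L, (h = m ∨ h = C.t * m) ∧ ∀ x ∈ W, C.S.ρ m x = C.S.ρ n x := by
  have h2 := h1 0 (zero_mem _)
  rw [C.b_zero, mul_one, map_zero, zero_add, C.b_zero, mul_one] at h2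
  have h3 : Commute h C.t := mul_inv_eq_iff_eq_mul.1 h2
  have h4 : ∀ x ∈ W, h * C.b x * h⁻¹ = C.b (C.S.ρ n x) := by
    intro x hx
    have h5 := h1 x hx
    rw [add_zero] at h5
    have h6 : h * (C.t * C.b x) * h⁻¹ = (h * C.t * h⁻¹) * (h * C.b x * h⁻¹) := by group
    rw [h6, h2] at h5
    exact mul_left_cancel h5
  rcases (C.cent h).1 h3 with h5 | h5
  · refine ⟨⟨h, h5⟩, Or.inl rfl, fun x hx => ?_⟩
    apply C.b_inj
    rw [← h4 x hx, ← C.b_conj]
  · refine ⟨⟨C.t * h, h5⟩, Or.inr ?_, fun x hx => ?_⟩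
    · change h = C.t * (C.t * h)
      rw [← mul_assoc, C.tt, one_mul]
    · apply C.b_inj
      rw [← h4 x hx, ← C.b_conj]
      change C.t * h * C.b x * (C.t * h)⁻¹ = h * C.b x * h⁻¹
      have h6 : C.t * (h * C.b x * h⁻¹) = (h * C.b x * h⁻¹) * C.t := by
        rw [h4 x hx]
        exact (Lt (C := C) (C.S.τ _)).symm
      calc C.t * h * C.b x * (C.t * h)⁻¹ = C.t * (h * C.b x * h⁻¹) * C.t⁻¹ := by group
        _ = (h * C.b x * h⁻¹) * (C.t * C.t⁻¹) := by rw [h6]; group
        _ = _ := by rw [mul_inv_cancel, mul_one]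

/-- the action of an affine map on `A_W` -/
theorem Aff.conj_a (hW : Max C.S W) (hE : ∀ v ∈ W, v ≠ 0 → ∃ y, E C W v y) {n : C.L} {v : V} {h : G}
    (hn : St W n) (hv : v ∈ W) (h1 : Aff C W n v h) {a : C.L} (ha : a ∈ AW C.S W) :
    ∃ c : C.L, c ∈ AW C.S W ∧ h * (a : G) * h⁻¹ = c ∧ δ C.S c = C.S.ρ n (δ C.S a) := by
  have hk : ∃ k, Tr C W v k := by
    by_cases hv0 : v = 0
    · exact ⟨C.t, hv0 ▸ tr_t⟩
    · obtain ⟨y, hy⟩ := hE v hv hv0
      exact ⟨y, hy.1⟩
  obtain ⟨k, hk⟩ := hk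
  have h2 : Aff C W n 0 (k⁻¹ * h) := by
    have := (aff_tr (hk.inv hv)).mul hn hv h1
    rwa [C.S.ρ_one, aa, one_mul] at this
  obtain ⟨m, hm, hmn⟩ := Aff.exists_L h2
  have hmW : ∀ x, x ∈ W ↔ C.S.ρ m x ∈ W := by
    intro x
    constructor
    · intro hx
      rw [hmn x hx]
      exact (hn x).1 hx
    · intro hx
      -- `ρ m x = ρ n x'` with `x' ∈ W`
      have hx' : C.S.ρ n⁻¹ (C.S.ρ m x) ∈ W := (hn.inv _).1 hx
      have h3 := hmn _ hx'
      rw [C.S.ρ_apply_inv] at h3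
      have h4 := C.S.ρ_inj m h3
      rwa [← h4]
  have hc := conj_mem_AW hmW ha
  have h3 : (k⁻¹ * h) * (a : G) * (k⁻¹ * h)⁻¹ = ((m * a * m⁻¹ : C.L) : G) := by
    rcases hm with h4 | h4
    · rw [h4]; rfl
    · rw [h4]
      have h5 := Lt (C := C) (m * a * m⁻¹)
      calc C.t * m * a * (C.t * m)⁻¹ = C.t * ((m * a * m⁻¹ : C.L) : G) * C.t⁻¹ := by
            rw [Subgroup.coe_mul, Subgroup.coe_mul, Subgroup.coe_inv]; group
        _ = ((m * a * m⁻¹ : C.L) : G) * (C.t * C.t⁻¹) := by rw [← h5]; group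
        _ = _ := by rw [mul_inv_cancel, mul_one]
  have hδ : δ C.S (m * a * m⁻¹) = C.S.ρ n (δ C.S a) := by
    rw [δ_conj (hW.sq ha), hmn _ (hW.δ_mem ha)]
  refine ⟨(m * a * m⁻¹) * sg C.S v (δ C.S (m * a * m⁻¹)), mul_mem hc (sA hW hv (hW.δ_mem hc)), ?_, ?_⟩
  · have h4 := hk.conj_a hW hv hc
    calc h * (a : G) * h⁻¹ = k * ((k⁻¹ * h) * (a : G) * (k⁻¹ * h)⁻¹) * k⁻¹ := by group
      _ = _ := by rw [h3, h4]; rfl
  · rw [hW.δ_mul hc (sA hW hv (hW.δ_mem hc)), δ_sg (hW.perp hv (hW.δ_mem hc)), add_zero, hδ]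

/-- conjugation maps `F` to `F` as soon as it does so for one element -/
theorem pres_of (hW : Max C.S W) (hr : 4 ≤ Module.finrank (ZMod 2) W) (hE : ∀ v ∈ W, v ≠ 0 → ∃ y, E C W v y)
    (f : Frame C W v0 v1 y0 y1) {n : C.L} {v : V} {h : G} (hn : St W n) (hv : v ∈ W) (h1 : Aff C W n v h)
    (h0 : F C W y0 y1 (C.S.ρ n v0) (h * y0 * h⁻¹)) {w : V} {z : G} (hz : F C W y0 y1 w z) :
    F C W y0 y1 (C.S.ρ n w) (h * z * h⁻¹) := by
  have ne0 : ∀ {x : V}, x ≠ 0 → C.S.ρ n x ≠ 0 := by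
    intro x hx h
    apply hx
    apply C.S.ρ_inj n
    rw [h, map_zero]
  have hne : C.S.ρ n v0 ≠ C.S.ρ n v1 := fun h => f.ne (C.S.ρ_inj n h)
  have hcomm : ∀ {a c : G}, Commute a c → Commute (h * a * h⁻¹) (h * c * h⁻¹) := by
    intro a c hac
    have : a * c = c * a := hac
    change h * a * h⁻¹ * (h * c * h⁻¹) = h * c * h⁻¹ * (h * a * h⁻¹)
    calc h * a * h⁻¹ * (h * c * h⁻¹) = h * (a * c) * h⁻¹ := by group
      _ = _ := by rw [this]; group
  -- the second vector of the frame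
  have h2 : F C W y0 y1 (C.S.ρ n v1) (h * y1 * h⁻¹) := by
    obtain ⟨f1, hf1⟩ := f.exists_mem hW hr hE ((hn v1).1 f.h1)
    obtain ⟨a, ha, h3, h4⟩ := hf1.2.1.same hW hf1.1 (ne0 f.n1) (h1.conj_E hn hv f.h1 f.e1)
    have h5 : Commute (a : G) (h * y0 * h⁻¹) := by
      have h6 : (a : G) = f1 * (h * y1 * h⁻¹) := by rw [h3, ← mul_assoc, hf1.2.1.2, one_mul]
      rw [h6]
      exact (f.commute hW hr hE hf1 h0).mul_left (hcomm f.comm.symm)
    have h7 : δ C.S a = 0 := by
      rcases h4 with h4 | h4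
      · exact h4
      · rcases δ_of_commute hW h0.1 (ne0 f.n0) h0.2.1 ha h5 with h8 | h8
        · exact h8
        · exact absurd (h8.symm.trans h4) hne
    rw [h3]
    have := f.mul hW hr hE hf1 (f.alt hW ha h7)
    rwa [add_zero] at this
  obtain ⟨g, hg⟩ := f.change hW hr hE h0 h2 (ne0 f.n0) (ne0 f.n1) hne
  rw [← hg]
  exact ⟨(hn w).1 hz.1, h1.conj_E hn hv hz.1 hz.2.1, hcomm hz.2.2.1, hcomm hz.2.2.2⟩

omit [Finite V] in
/-- `t` times an affine map -/
theorem Aff.t_mul {n : C.L} {v : V} {h : G} (hn : St W n) (hv : v ∈ W) (h1 : Aff C W n v h) :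
    Aff C W n v (C.t * h) := by
  have := (aff_tr (tr_t (C := C) (W := W))).mul hn hv h1
  rwa [C.S.ρ_one, add_zero, one_mul] at this

/-- **dichotomy** -/
theorem dichotomy (hW : Max C.S W) (hr : 4 ≤ Module.finrank (ZMod 2) W)
    (hE : ∀ v ∈ W, v ≠ 0 → ∃ y, E C W v y) (f : Frame C W v0 v1 y0 y1) {n : C.L} {v : V} {h : G}
    (hn : St W n) (hv : v ∈ W) (h1 : Aff C W n v h) :
    (∀ w z, F C W y0 y1 w z → F C W y0 y1 (C.S.ρ n w) (h * z * h⁻¹)) ∨
    (∀ w z, F C W y0 y1 w z → F C W y0 y1 (C.S.ρ n w) (C.t * h * z * (C.t * h)⁻¹)) := by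
  have hnv0 : C.S.ρ n v0 ≠ 0 := by
    intro h
    apply f.n0
    apply C.S.ρ_inj n
    rw [h, map_zero]
  obtain ⟨f0, hf0⟩ := f.exists_mem hW hr hE ((hn v0).1 f.h0)
  obtain ⟨a, ha, h3, h4⟩ := hf0.2.1.same hW hf0.1 hnv0 (h1.conj_E hn hv f.h0 f.e0)
  rcases h4 with h4 | h4
  · left
    intro w z hz
    refine pres_of hW hr hE f hn hv h1 ?_ hz
    rw [h3]
    have := f.mul hW hr hE hf0 (f.alt hW ha h4)
    rwa [add_zero] at this
  · right
    intro w z hz
    refine pres_of hW hr hE f hn hv (Aff.t_mul hn hv h1) ?_ hz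
    have h5 := hf0.2.1.t_conj
    have h6 := Lt (C := C) a
    have hb := hW.τ_mem hf0.1
    have h7 : C.t * h * y0 * (C.t * h)⁻¹ = f0 * ((C.S.τ (C.S.ρ n v0) * a : C.L) : G) := by
      calc C.t * h * y0 * (C.t * h)⁻¹ = C.t * (h * y0 * h⁻¹) * C.t⁻¹ := by group
        _ = C.t * f0 * (a * C.t) := by rw [h3, C.t_inv]; group
        _ = C.t * f0 * (C.t * a) := by rw [h6]
        _ = (C.t * f0 * C.t) * a := by group
        _ = f0 * C.b (C.S.ρ n v0) * a := by rw [h5]
        _ = _ := by rw [mul_assoc]; rfl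
    rw [h7]
    have h8 : δ C.S (C.S.τ (C.S.ρ n v0) * a) = 0 := by
      rw [hW.δ_mul hb ha, δ_τ, h4, aa]
    have := f.mul hW hr hE hf0 (f.alt hW (mul_mem hb ha) h8)
    rwa [add_zero] at this

/-- `t` does not normalise `F` -/
theorem t_not_pres (hW : Max C.S W) (f : Frame C W v0 v1 y0 y1) {w : V} :
    ¬ F C W y0 y1 w (C.t * y0 * C.t⁻¹) := by
  intro h
  rw [C.t_inv, f.e0.t_conj] at h
  have hb := hW.τ_mem f.h0
  have h1 : Tr C W v0 (y0 * C.b v0) := (f.e0.mul_a hW f.h0 hb (Or.inr (δ_τ v0))).1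
  have h2 : v0 = w := Tr.unique h1 h.2.1.1
  subst h2
  obtain ⟨a, ha, ha0, h3⟩ := f.same hW f.F0 h
  have h4 := mul_left_cancel h3
  have h5 : C.S.τ v0 = a := Subtype.ext h4
  rw [← h5, δ_τ] at ha0
  exact f.n0 ha0

variable [Finite G]

/-- the stabiliser of `F` in `H` -/
def H1 (hW : Max C.S W) (hr : 4 ≤ Module.finrank (ZMod 2) W) (hE : ∀ v ∈ W, v ≠ 0 → ∃ y, E C W v y)
    (f : Frame C W v0 v1 y0 y1) : Subgroup (HG C W) :=
  (normalizer (FS hW hr hE f : Set G)).subgroupOf (HG C W)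

theorem mem_H1_iff (hW : Max C.S W) (hr : 4 ≤ Module.finrank (ZMod 2) W)
    (hE : ∀ v ∈ W, v ≠ 0 → ∃ y, E C W v y) (f : Frame C W v0 v1 y0 y1) {h : HG C W} :
    h ∈ H1 hW hr hE f ↔ ∀ w z, F C W y0 y1 w z → ∃ x, F C W y0 y1 x (h * z * (h : G)⁻¹) := by
  rw [H1, mem_subgroupOf]
  constructor
  · intro h1 w z hz
    exact (mem_normalizer_iff.1 h1 z).1 ⟨w, hz⟩
  · intro h1
    rw [mem_normalizer_iff]
    have h2 : (FS hW hr hE f).map (MulAut.conj (h : G)).toMonoidHom ≤ FS hW hr hE f := by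
      rintro _ ⟨z, ⟨w, hz⟩, rfl⟩
      exact h1 w z hz
    have h3 : (FS hW hr hE f).map (MulAut.conj (h : G)).toMonoidHom = FS hW hr hE f := by
      apply Subgroup.eq_of_le_of_card_ge h2
      rw [Subgroup.card_map_of_injective (MulAut.conj (h : G)).injective]
    intro z
    constructor
    · intro hz
      rw [← h3]
      exact ⟨z, hz, rfl⟩
    · intro hz
      rw [← h3] at hz
      obtain ⟨u, hu, h4⟩ := hz
      have h5 : (h : G) * u * (h : G)⁻¹ = h * z * (h : G)⁻¹ := h4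
      have h6 := mul_left_cancel (mul_right_cancel h5)
      rw [← h6]
      exact hu

omit [Finite V] [Finite G] in
theorem t_mem_HG : C.t ∈ HG C W := RG_le_HG t_mem_RG

theorem t_notMem (hW : Max C.S W) (hr : 4 ≤ Module.finrank (ZMod 2) W)
    (hE : ∀ v ∈ W, v ≠ 0 → ∃ y, E C W v y) (f : Frame C W v0 v1 y0 y1) :
    (⟨C.t, t_mem_HG⟩ : HG C W) ∉ H1 hW hr hE f := by
  rw [mem_H1_iff]
  intro h
  obtain ⟨x, hx⟩ := h v0 y0 f.F0
  exact t_not_pres hW f hx

theorem index_H1 (hW : Max C.S W) (hr : 4 ≤ Module.finrank (ZMod 2) W)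
    (hE : ∀ v ∈ W, v ≠ 0 → ∃ y, E C W v y) (f : Frame C W v0 v1 y0 y1) : (H1 hW hr hE f).index = 2 := by
  rw [index_eq_two_iff']
  refine ⟨⟨C.t, t_mem_HG⟩, fun h => ?_⟩
  have ht := t_notMem hW hr hE f
  by_cases hh : h ∈ H1 hW hr hE f
  · right
    refine ⟨hh, fun h1 => ht ?_⟩
    have := mul_mem h1 (inv_mem hh)
    rwa [mul_inv_cancel_right] at this
  · left
    refine ⟨?_, hh⟩
    obtain ⟨n, hn, v, hv, h1⟩ := h.2
    rcases dichotomy hW hr hE f hn hv h1 with h2 | h2
    · exact absurd ((mem_H1_iff hW hr hE f).2 fun w z hz => ⟨_, h2 w z hz⟩) hh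
    · exact (mem_H1_iff hW hr hE f).2 fun w z hz => ⟨_, h2 w z hz⟩

end fin

end Cfsg.Agent.OddHalf.SpTwoN.LongH

end

-- merged: Cfsg.Agent.OddHalf.SpTwoN.LongCount
section

/-!
# Pattern "long only": the counting argument

A 2-subgroup of `H` which is as large as a Sylow 2-subgroup of `C_H(t)` and centralises an element `d` moving `F`
meets the translations in at least `2 |A|` elements; if `d` is not a translation it meets them in at most `|A|`.
-/

set_option autoImplicit false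

namespace Cfsg.Agent.OddHalf.SpTwoN.LongCount

open Subgroup
open Cfsg.Agent.StandardComponent.SpTwo
open Cfsg.Agent.OddHalf.SpTwoN.Words Cfsg.Agent.OddHalf.SpTwoN.Iso Cfsg.Agent.OddHalf.SpTwoN.Transl
open Cfsg.Agent.OddHalf.SpTwoN.Section Cfsg.Agent.OddHalf.SpTwoN.LongH

section general

variable {P Q : Type*} [Group P] [Group Q]

theorem card_map_mul [Finite P] (K : Subgroup P) (ψ : P →* Q) :
    Nat.card K = Nat.card (K ⊓ ψ.ker : Subgroup P) * Nat.card (K.map ψ) := by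
  have h1 : Nat.card (ψ.comp K.subtype).ker * Nat.card (ψ.comp K.subtype).range = Nat.card K := by
    rw [← index_ker, card_mul_index]
  have h2 : (ψ.comp K.subtype).range = K.map ψ := by
    rw [MonoidHom.range_comp, K.range_subtype]
  have h3 : Nat.card (ψ.comp K.subtype).ker = Nat.card (K ⊓ ψ.ker : Subgroup P) := by
    refine Nat.card_congr ⟨fun x => ⟨x.1.1, x.1.2, x.2⟩, fun x => ⟨⟨x.1, x.2.1⟩, x.2.2⟩, fun x => rfl, fun x => rfl⟩
  rw [← h1, h2, h3]

theorem card_le_sylow {p : ℕ} [Fact p.Prime] [Finite Q] (S : Sylow p Q) {K : Subgroup Q} (hK : IsPGroup p K) :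
    Nat.card K ≤ Nat.card S := by
  obtain ⟨T, hT⟩ := hK.exists_le_sylow
  have h1 : Nat.card K ≤ Nat.card T := Subgroup.card_le_of_le hT
  rwa [T.card_eq_multiplicity, ← S.card_eq_multiplicity] at h1

/-- `T` is a Sylow 2-subgroup of the subgroup `P0` of `G` -/
structure IsSyl {G : Type*} [Group G] (P0 T : Subgroup G) : Prop where
  le : T ≤ P0
  two : IsPGroup 2 T
  max : ∀ S : Subgroup G, S ≤ P0 → IsPGroup 2 S → Nat.card S ≤ Nat.card T

theorem exists_isSyl {G : Type*} [Group G] [Finite G] (P0 : Subgroup G) : ∃ T, IsSyl P0 T := by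
  have : Fact (Nat.Prime 2) := ⟨Nat.prime_two⟩
  obtain ⟨P⟩ : Nonempty (Sylow 2 P0) := inferInstance
  refine ⟨(P : Subgroup P0).map P0.subtype, ?_, P.2.map _, ?_⟩
  · rintro _ ⟨x, -, rfl⟩
    exact x.2
  · intro S hS h2
    rw [Subgroup.card_map_of_injective P0.subtype_injective]
    have h3 : IsPGroup 2 (S.subgroupOf P0) := h2.comap_subtype
    have h4 := card_le_sylow P h3
    rwa [StdSpSix.QLevel.card_sub_eq hS] at h4

theorem IsSyl.of_card {G : Type*} [Group G] {P0 T T' : Subgroup G} (h : IsSyl P0 T) (h1 : T' ≤ P0)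
    (h2 : IsPGroup 2 T') (hc : Nat.card T' = Nat.card T) : IsSyl P0 T' :=
  ⟨h1, h2, fun S hS hS2 => by rw [hc]; exact h.max S hS hS2⟩

theorem IsSyl.le_of_norm {G : Type*} [Group G] [Finite G] {P0 T N : Subgroup G} (h : IsSyl P0 T) (h1 : N ≤ P0)
    (h2 : IsPGroup 2 N) (h3 : ∀ x ∈ T, ∀ n ∈ N, x * n * x⁻¹ ∈ N) : N ≤ T := by
  have h4 : T ≤ normalizer (N : Set G) := by
    intro x hx
    have h5 : ∀ n ∈ N, x * n * x⁻¹ ∈ N := h3 x hx
    rw [mem_normalizer_iff]
    intro n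
    refine ⟨h5 n, fun hn => ?_⟩
    have := h3 x⁻¹ (inv_mem hx) _ hn
    have e : x⁻¹ * (x * n * x⁻¹) * x⁻¹⁻¹ = n := by group
    rwa [e] at this
  have h5 := h.two.to_sup_of_normal_right' h2 h4
  have h6 := h.max _ (sup_le h.le h1) h5
  have h7 := Subgroup.eq_of_le_of_card_ge (le_sup_left : T ≤ T ⊔ N) h6
  rw [h7]
  exact le_sup_right

end general

variable {G V : Type*} [Group G] [AddCommGroup V] [Module (ZMod 2) V] {C : Ctx G V} {W : Submodule (ZMod 2) V}

variable (C W) in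
/-- `C_H(t)` -/
def P0 : Subgroup G := HG C W ⊓ centralizer ({C.t} : Set G)

theorem mem_P0 {g : G} : g ∈ P0 C W ↔ g ∈ HG C W ∧ g * C.t = C.t * g := by
  rw [P0, mem_inf, mem_centralizer_singleton_iff]

variable [Finite V]

theorem a_mem_H1 (hW : Max C.S W) {v0 v1 : V} {y0 y1 : G} (f : Frame C W v0 v1 y0 y1) (hr : 4 ≤ Module.finrank (ZMod 2) W)
    (hE : ∀ v ∈ W, v ≠ 0 → ∃ y, E C W v y) {a : C.L} (ha : a ∈ AW C.S W) {w : V} {z : G} (hz : F C W y0 y1 w z) :
    F C W y0 y1 w (a * z * (a : G)⁻¹) := by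
  have h1 := hz.2.1.conj_a hW hz.1 ha
  have hs := sA hW hz.1 (hW.δ_mem ha)
  have h2 : (a : G) * z * (a : G)⁻¹ = z * s C w (δ C.S a) := by
    have h3 := acomm hW ha hs
    change (a : G) * s C w (δ C.S a) = s C w (δ C.S a) * a at h3
    calc (a : G) * z * (a : G)⁻¹ = (z * z) * a * z * (a : G)⁻¹ := by rw [hz.2.1.2, one_mul]
      _ = z * (z * a * z) * (a : G)⁻¹ := by group
      _ = z * (s C w (δ C.S a) * a) * (a : G)⁻¹ := by rw [h1, h3]
      _ = _ := by group
  rw [h2]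
  have := f.mul hW hr hE hz (f.alt hW hs (δ_sg (hW.perp hz.1 (hW.δ_mem ha))))
  rwa [add_zero] at this

variable [Finite G]

section frame

variable (hW : Max C.S W) (hr : 4 ≤ Module.finrank (ZMod 2) W) (hE : ∀ v ∈ W, v ≠ 0 → ∃ y, E C W v y)
  {v0 v1 : V} {y0 y1 : G} (f : Frame C W v0 v1 y0 y1)

include hW hr hE in
/-- a translation normalising `F` is in `A F` -/
theorem decomp {e : G} (he : e ∈ RG C W) (h1 : (⟨e, RG_le_HG he⟩ : HG C W) ∈ H1 hW hr hE f) :
    ∃ a : C.L, a ∈ AW C.S W ∧ ∃ w z, F C W y0 y1 w z ∧ e = a * z := by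
  have he' := he
  obtain ⟨w, hw, hTr⟩ := he'
  obtain ⟨z, hz⟩ := f.exists_mem hW hr hE hw
  have h2 : Tr C W 0 (e * z) := by
    have := hTr.mul hw hz.2.1.1
    rwa [aa] at this
  obtain ⟨a, ha, h3 | h3⟩ := h2.zero
  · refine ⟨a, ha, w, z, hz, ?_⟩
    rw [← h3, mul_assoc, hz.2.1.2, mul_one]
  · exfalso
    apply t_notMem hW hr hE f
    have haH : (a : G) ∈ HG C W := RG_le_HG ⟨0, zero_mem _, tr_a hW ha⟩
    have hzH : z ∈ HG C W := RG_le_HG ⟨w, hw, hz.2.1.1⟩
    have h4 : (⟨a, haH⟩ : HG C W) ∈ H1 hW hr hE f := (mem_H1_iff hW hr hE f).2 fun w' z' hz' =>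
      ⟨w', a_mem_H1 hW f hr hE ha hz'⟩
    have h5 : (⟨z, hzH⟩ : HG C W) ∈ H1 hW hr hE f := (mem_H1_iff hW hr hE f).2 fun w' z' hz' => by
      refine ⟨w', ?_⟩
      have h6 := f.commute hW hr hE hz hz'
      have h7 : z * z' * z⁻¹ = z' := by rw [h6.eq, mul_inv_cancel_right]
      change F C W y0 y1 w' (z * z' * z⁻¹)
      rw [h7]
      exact hz'
    have h6 : (⟨C.t, t_mem_HG⟩ : HG C W) = ⟨e, RG_le_HG he⟩ * ⟨z, hzH⟩ * (⟨a, haH⟩)⁻¹ := by
      apply Subtype.ext
      change C.t = e * z * (a : G)⁻¹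
      rw [h3, mul_inv_cancel_right]
    rw [h6]
    exact mul_mem (mul_mem h1 h5) (inv_mem h4)

omit [Finite G] in
include hW hE f in
/-- the vector of a translation commuting with an element moving `F` -/
theorem vec_eq {n : C.L} {v : V} {d : G} (hn : St W n) (hv : v ∈ W) (hd : Aff C W n v d)
    (hdF : ∀ w z, F C W y0 y1 w z → F C W y0 y1 (C.S.ρ n w) (C.t * d * z * (C.t * d)⁻¹))
    {a : C.L} (ha : a ∈ AW C.S W) {w : V} {z : G} (hz : F C W y0 y1 w z) (hc : Commute ((a : G) * z) d) :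
    w = δ C.S a + C.S.ρ n (δ C.S a) := by
  obtain ⟨c, hcA, hc1, hc2⟩ := Aff.conj_a hW hE hn hv hd ha
  have hz' := hdF w z hz
  set z' := C.t * d * z * (C.t * d)⁻¹ with hz'def
  have e1 : d * z * d⁻¹ = z' * C.b (C.S.ρ n w) := by
    rw [← hz'.2.1.t_conj, hz'def, mul_inv_rev, C.t_inv]
    calc d * z * d⁻¹ = (C.t * C.t) * (d * z * d⁻¹) * (C.t * C.t) := by rw [C.tt]; group
      _ = _ := by group
  have hbA := hW.τ_mem hz'.1
  have e2 : z' * C.b (C.S.ρ n w) = C.b (C.S.ρ n w) * z' := by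
    have h1 := hz'.2.1.1.conj_a hW hz'.1 hbA
    rw [δ_τ, s_self, mul_one] at h1
    exact mul_inv_eq_iff_eq_mul.1 h1
  have e3 : (a : G) * z = (c * C.S.τ (C.S.ρ n w) : C.L) * z' := by
    have h1 : (a : G) * z = d * (a * z) * d⁻¹ := by
      rw [← hc.eq, mul_inv_cancel_right]
    rw [h1]
    calc d * ((a : G) * z) * d⁻¹ = (d * a * d⁻¹) * (d * z * d⁻¹) := by group
      _ = c * (C.b (C.S.ρ n w) * z') := by rw [hc1, e1, e2]
      _ = _ := by rw [← mul_assoc]; rfl
  have hcb : c * C.S.τ (C.S.ρ n w) ∈ AW C.S W := mul_mem hcA hbA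
  have e4 : w = C.S.ρ n w := by
    have h1 := (tr_a hW ha).mul hz.1 hz.2.1.1
    have h2 := (tr_a hW hcb).mul hz'.1 hz'.2.1.1
    rw [e3] at h1
    have := Tr.unique h1 h2
    rwa [zero_add, zero_add] at this
  rw [← e4] at hz' e3 hcb
  obtain ⟨g, hg, hg0, h5⟩ := f.same hW hz hz'
  have e5 : z * (g : G) = g * z := hz.2.1.1.comm_alt hW hz.1 hg hg0
  have e6 : (a : G) = (c * C.S.τ w : C.L) * g := by
    rw [h5, e5, ← mul_assoc] at e3
    exact mul_right_cancel e3
  have e7 : a = c * C.S.τ w * g := Subtype.ext e6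
  have e8 := congrArg (δ C.S) e7
  have hbw : C.S.τ w ∈ AW C.S W := hW.τ_mem hz.1
  rw [hW.δ_mul hcb hg, hW.δ_mul hcA hbw, hg0, δ_τ, hc2, add_zero] at e8
  rw [← aac (C.S.ρ n (δ C.S a)) w, ← e8, add_comm]

omit [Finite V] [Finite G] in
theorem mem_span_of_sg {a b c d : V} (hab : C.S.B a b = 0) (hcd : C.S.B c d = 0) (hb : b ≠ 0) (hba : b ≠ a)
    (h : sg C.S a b = sg C.S c d) : a ∈ Submodule.span (ZMod 2) ({c, d} : Set V) := by
  obtain ⟨x, hx1, hx2⟩ := C.S.exists_sep hb hba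
  have h1 := ρ_sg C.S hab x
  rw [h, ρ_sg C.S hcd, hx1, hx2, zero_smul, one_smul, add_zero] at h1
  rw [← add_left_cancel h1]
  exact add_mem (Submodule.smul_mem _ _ (Submodule.subset_span (by simp)))
    (Submodule.smul_mem _ _ (Submodule.subset_span (by simp)))

omit [Finite G] in
/-- an affine map centralising `Λ` is a translation -/
theorem mem_RG_of_commute (hW : Max C.S W) (hr : 4 ≤ Module.finrank (ZMod 2) W)
    (hE : ∀ v ∈ W, v ≠ 0 → ∃ y, E C W v y) {d : G} (hd : d ∈ HG C W)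
    (hc : ∀ x ∈ LG C W, Commute d x) : d ∈ RG C W := by
  obtain ⟨n, hn, v, hv, h1⟩ := hd
  have hk : ∃ k, Tr C W v k := by
    by_cases hv0 : v = 0
    · exact ⟨C.t, hv0 ▸ tr_t⟩
    · obtain ⟨y, hy⟩ := hE v hv hv0
      exact ⟨y, hy.1⟩
  obtain ⟨k, hk⟩ := hk
  have h2 : Aff C W n 0 (k⁻¹ * d) := by
    have := (aff_tr (hk.inv hv)).mul hn hv h1
    rwa [C.S.ρ_one, aa, one_mul] at this
  obtain ⟨m, hm, hmn⟩ := Aff.exists_L h2
  -- `m` commutes with the short root elements of `W`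
  have h3 : ∀ u ∈ W, ∀ w ∈ W, sg C.S (C.S.ρ m u) (C.S.ρ m w) = sg C.S u w := by
    intro u hu w hw
    have hs := sA hW hu hw
    have h4 : Commute (k⁻¹ * d) (s C u w) := by
      have h5 := (hk.inv hv).comm_alt hW hv hs (δ_sg (hW.perp hu hw))
      have h6 : Commute k⁻¹ (s C u w) := h5
      exact h6.mul_left (hc _ ((mem_LG hW).2 ⟨_, hs, δ_sg (hW.perp hu hw), rfl⟩))
    have h5 : Commute (m : G) (s C u w) := by
      rcases hm with h6 | h6
      · rwa [h6] at h4
      · have h7 : Commute C.t (s C u w) := (Lt (C := C) (sg C.S u w)).symm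
        have h8 : (m : G) = C.t * (k⁻¹ * d) := by rw [h6, ← mul_assoc, C.tt, one_mul]
        rw [h8]
        exact h7.mul_left h4
    rw [← conj_sg]
    apply Subtype.ext
    change (m : G) * s C u w * (m : G)⁻¹ = s C u w
    rw [h5.eq, mul_inv_cancel_right]
  have hrk : ∀ (s : Finset V), s.card ≤ 3 → ∃ x ∈ W, x ∉ Submodule.span (ZMod 2) (s : Set V) := by
    intro s hs
    by_contra hcon
    push Not at hcon
    have h4 := Submodule.finrank_mono (show W ≤ _ from hcon)
    have h5 : Module.finrank (ZMod 2) (Submodule.span (ZMod 2) (s : Set V)) ≤ s.card :=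
      finrank_span_finset_le_card s
    omega
  classical
  have h4 : ∀ u ∈ W, C.S.ρ m u = u := by
    intro u hu
    by_cases hu0 : u = 0
    · rw [hu0, map_zero]
    obtain ⟨w1, hw1, h5⟩ := hrk {u} (by simp)
    obtain ⟨w2, hw2, h6⟩ := hrk {u, w1} (Finset.card_le_two.trans (by norm_num))
    rw [Finset.coe_singleton] at h5
    rw [Finset.coe_insert, Finset.coe_singleton] at h6
    have key : ∀ w ∈ W, w ∉ Submodule.span (ZMod 2) ({u} : Set V) →
        C.S.ρ m u ∈ Submodule.span (ZMod 2) ({u, w} : Set V) := by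
      intro w hw hwu
      apply mem_span_of_sg (hab := by rw [C.S.inv]; exact hW.perp hu hw) (hW.perp hu hw) ?_ ?_ (h3 u hu w hw)
      · intro h
        apply hwu
        have : w = 0 := C.S.ρ_inj m (by rw [h, map_zero])
        rw [this]; exact zero_mem _
      · intro h
        apply hwu
        rw [C.S.ρ_inj m h]
        exact Submodule.mem_span_singleton_self _
    have h7 := mem_span_pair_cases (key w1 hw1 h5)
    have h8 := mem_span_pair_cases (key w2 hw2 (fun h => h6 (Submodule.span_mono (by simp) h)))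
    have hu' : u ∈ Submodule.span (ZMod 2) ({u, w1} : Set V) := Submodule.subset_span (by simp)
    have hw1' : w1 ∈ Submodule.span (ZMod 2) ({u, w1} : Set V) := Submodule.subset_span (by simp)
    have hmem := key w1 hw1 h5
    rcases h8 with h8 | h8 | h8 | h8
    · exfalso
      exact hu0 (C.S.ρ_inj m (by rw [h8, map_zero]))
    · exact h8
    · exact absurd (h8 ▸ hmem) h6
    · exfalso
      apply h6
      have : w2 = u + (u + w2) := (aac u w2).symm
      rw [this, ← h8]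
      exact add_mem hu' hmem
  refine ⟨v, hv, fun x hx => ?_⟩
  rw [h1 x hx, ← hmn x hx, h4 x hx]

include hW hr hE f in
/-- **upper bound** -/
theorem card_le {n : C.L} {v : V} {d : G} (hn : St W n) (hv : v ∈ W) (hd : Aff C W n v d)
    (hdF : ∀ w z, F C W y0 y1 w z → F C W y0 y1 (C.S.ρ n w) (C.t * d * z * (C.t * d)⁻¹))
    (hdR : d ∉ RG C W) {M : Subgroup G} (hM : M ≤ RG C W) (hMd : ∀ x ∈ M, Commute x d) :
    Nat.card M ≤ Nat.card (AG C W) := by
  classical
  set N : Subgroup G := normalizer (FS hW hr hE f : Set G) with hN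
  have hidx := index_H1 hW hr hE f
  -- index two
  have h1 : Nat.card M ≤ 2 * Nat.card (M ⊓ N : Subgroup G) := by
    by_cases hall : ∀ x ∈ M, x ∈ N
    · have : M ⊓ N = M := inf_eq_left.2 hall
      rw [this]; omega
    · push Not at hall
      obtain ⟨r, hrM, hrN⟩ := hall
      apply StdSpSix.QLevel.card_le_two_mul r
      intro x hx hxN
      refine ⟨M.mul_mem (M.inv_mem hrM) hx, ?_⟩
      have hxN' : x ∉ N := fun h => hxN ⟨hx, h⟩
      have hrH : r ∈ HG C W := RG_le_HG (hM hrM)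
      have hxH : x ∈ HG C W := RG_le_HG (hM hx)
      have h2 : (⟨r, hrH⟩ : HG C W)⁻¹ * ⟨x, hxH⟩ ∈ H1 hW hr hE f := by
        rw [mul_mem_iff_of_index_two hidx, inv_mem_iff]
        constructor
        · intro h; exact absurd (mem_subgroupOf.1 h) hrN
        · intro h; exact absurd (mem_subgroupOf.1 h) hxN'
      exact mem_subgroupOf.1 h2
  -- decomposition of the elements of `M ⊓ N`
  have h2 : ∀ e : (M ⊓ N : Subgroup G), ∃ a : C.L, a ∈ AW C.S W ∧ ∃ w z, F C W y0 y1 w z ∧ (e : G) = a * z := by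
    intro e
    exact decomp hW hr hE f (hM e.2.1) (mem_subgroupOf.2 e.2.2)
  choose a haA w z hz he using h2
  have h3 : ∀ e e' : (M ⊓ N : Subgroup G), δ C.S (a e) = δ C.S (a e') → (e : G)⁻¹ * e' ∈ LG C W := by
    intro e e' hee
    have e1 := vec_eq hW hE f hn hv hd hdF (haA e) (hz e) (by rw [← he e]; exact hMd _ e.2.1)
    have e2 := vec_eq hW hE f hn hv hd hdF (haA e') (hz e') (by rw [← he e']; exact hMd _ e'.2.1)
    have e3 : w e = w e' := by rw [e1, e2, hee]
    have hz' := hz e'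
    rw [← e3] at hz'
    obtain ⟨g, hg, hg0, h5⟩ := f.same hW (hz e) hz'
    have e4 : (e : G)⁻¹ * e' = z e * ((a e)⁻¹ * a e' : C.L) * z e * g := by
      rw [he e, he e', h5]
      have h6 : (z e)⁻¹ = z e := (hz e).2.1.inv
      rw [mul_inv_rev, h6, Subgroup.coe_mul, Subgroup.coe_inv]
      group
    have hA : (a e)⁻¹ * a e' ∈ AW C.S W := mul_mem (inv_mem (haA e)) (haA e')
    have hA0 : δ C.S ((a e)⁻¹ * a e') = 0 := by
      rw [inv_of_sq (hW.sq (haA e)), hW.δ_mul (haA e) (haA e'), hee, aa]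
    rw [e4, (hz e).2.1.1.comm_alt hW (hz e).1 hA hA0, mul_assoc ((_ : C.L) : G), (hz e).2.1.2, mul_one]
    exact (mem_LG hW).2 ⟨_, mul_mem hA hg, by rw [hW.δ_mul hA hg, hA0, hg0, add_zero], rfl⟩
  -- counting
  set K : Subgroup (M ⊓ N : Subgroup G) := (LG C W).subgroupOf (M ⊓ N) with hK
  have h4 : Nat.card (M ⊓ N : Subgroup G) = Nat.card ((M ⊓ N : Subgroup G) ⧸ K) * Nat.card K :=
    Subgroup.card_eq_card_quotient_mul_card_subgroup K
  have h5 : Nat.card ((M ⊓ N : Subgroup G) ⧸ K) ≤ Nat.card W := by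
    have : Finite W := inferInstance
    refine Nat.card_le_card_of_injective (fun q => (⟨δ C.S (a q.out), hW.δ_mem (haA q.out)⟩ : W)) ?_
    intro q q' hqq
    have h6 := h3 q.out q'.out (congrArg Subtype.val hqq)
    rw [← QuotientGroup.out_eq' q, ← QuotientGroup.out_eq' q', QuotientGroup.eq]
    exact mem_subgroupOf.2 h6
  have h6 : Nat.card K ≤ Nat.card (M ⊓ LG C W : Subgroup G) := by
    refine Nat.card_le_card_of_injective
      (fun x : K => (⟨x.1.1, x.1.2.1, mem_subgroupOf.1 x.2⟩ : (M ⊓ LG C W : Subgroup G))) ?_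
    intro x y hxy
    apply Subtype.ext
    apply Subtype.ext
    exact congrArg (Subtype.val : (M ⊓ LG C W : Subgroup G) → G) hxy
  -- a proper subgroup
  have h7 : 2 * Nat.card (M ⊓ LG C W : Subgroup G) ≤ Nat.card (LG C W) := by
    have hlt : ¬ LG C W ≤ M := by
      intro h
      apply hdR
      exact mem_RG_of_commute hW hr hE ⟨n, hn, v, hv, hd⟩ fun x hx => (hMd x (h hx)).symm
    have h8 : (M ⊓ LG C W : Subgroup G) ≤ LG C W := inf_le_right
    obtain ⟨k, hk⟩ := Subgroup.card_dvd_of_le h8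
    have hpos : 0 < Nat.card (LG C W) := Nat.card_pos
    have hk2 : 2 ≤ k := by
      by_contra hk2
      have : k = 0 ∨ k = 1 := by omega
      rcases this with rfl | rfl
      · omega
      · apply hlt
        have h9 := Subgroup.eq_of_le_of_card_ge h8 (by rw [hk, mul_one])
        rw [← h9]
        exact inf_le_left
    rw [hk, mul_comm]
    exact Nat.mul_le_mul_left _ hk2
  rw [card_AG hW]
  have h8 : Nat.card ((M ⊓ N : Subgroup G) ⧸ K) * Nat.card K ≤ Nat.card W * Nat.card (M ⊓ LG C W : Subgroup G) :=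
    Nat.mul_le_mul h5 h6
  have h9 : Nat.card W * (2 * Nat.card (M ⊓ LG C W : Subgroup G)) ≤ Nat.card W * Nat.card (LG C W) :=
    Nat.mul_le_mul_left _ h7
  have h10 : Nat.card W * (2 * Nat.card (M ⊓ LG C W : Subgroup G)) =
      2 * (Nat.card W * Nat.card (M ⊓ LG C W : Subgroup G)) := by ring
  rw [h4] at h1
  omega

end frame

omit [Finite V] [Finite G] in
theorem b_mem_P0 (hW : Max C.S W) {a : C.L} (ha : a ∈ AW C.S W) : (a : G) ∈ P0 C W :=
  mem_P0.2 ⟨RG_le_HG ⟨0, zero_mem _, tr_a hW ha⟩, Lt a⟩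

omit [Finite V] [Finite G] in
theorem t_mem_P0 : C.t ∈ P0 C W := mem_P0.2 ⟨t_mem_HG, rfl⟩

omit [Finite V] [Finite G] in
theorem conj_mem_AG {x : G} (hx : x ∈ P0 C W) {g : G} (hg : g ∈ AG C W) : x * g * x⁻¹ ∈ AG C W := by
  obtain ⟨⟨n, hn, v, hv, h1⟩, h2⟩ := mem_P0.1 hx
  obtain ⟨a, ha, rfl⟩ := mem_AG.1 hg
  have h3 : v = 0 := by
    have h4 := h1 0 (zero_mem _)
    rw [C.b_zero, mul_one, map_zero, zero_add, h2, mul_inv_cancel_right] at h4
    apply C.b_inj
    rw [C.b_zero]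
    have : C.t * 1 = C.t * C.b v := by rw [mul_one]; exact h4
    exact (mul_left_cancel this).symm
  subst h3
  obtain ⟨m, hm, hmn⟩ := Aff.exists_L h1
  have hmW : ∀ x, x ∈ W ↔ C.S.ρ m x ∈ W := by
    intro x
    constructor
    · intro hx
      rw [hmn x hx]
      exact (hn x).1 hx
    · intro hx
      have hx' : C.S.ρ n⁻¹ (C.S.ρ m x) ∈ W := (hn.inv _).1 hx
      have h3 := hmn _ hx'
      rw [C.S.ρ_apply_inv] at h3
      have h4 := C.S.ρ_inj m h3
      rwa [← h4]
  refine mem_AG.2 ⟨m * a * m⁻¹, conj_mem_AW hmW ha, ?_⟩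
  rcases hm with h4 | h4
  · rw [h4]; rfl
  · rw [h4]
    have h5 := Lt (C := C) (m * a * m⁻¹)
    calc C.t * m * a * (C.t * m)⁻¹ = C.t * ((m * a * m⁻¹ : C.L) : G) * C.t⁻¹ := by
          rw [Subgroup.coe_mul, Subgroup.coe_mul, Subgroup.coe_inv]; group
      _ = ((m * a * m⁻¹ : C.L) : G) * (C.t * C.t⁻¹) := by rw [← h5]; group
      _ = _ := by rw [mul_inv_cancel, mul_one]

omit [Finite V] [Finite G] in
theorem isPGroup_AG (hW : Max C.S W) : IsPGroup 2 (AG C W) := by
  intro x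
  refine ⟨1, ?_⟩
  obtain ⟨a, ha, h⟩ := mem_AG.1 x.2
  apply Subtype.ext
  rw [pow_one, pow_two]
  change (x : G) * x = 1
  rw [h]
  exact asq hW ha

omit [Finite V] in
/-- a Sylow 2-subgroup of `C_H(t)` contains `A` and `t` -/
theorem AG_le (hW : Max C.S W) {T : Subgroup G} (hT : IsSyl (P0 C W) T) : AG C W ≤ T := by
  apply hT.le_of_norm ?_ (isPGroup_AG hW)
  · intro x hx g hg
    exact conj_mem_AG (hT.le hx) hg
  · intro g hg
    obtain ⟨a, ha, rfl⟩ := mem_AG.1 hg
    exact b_mem_P0 hW ha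

omit [Finite V] in
theorem t_mem {T : Subgroup G} (hT : IsSyl (P0 C W) T) : C.t ∈ T := by
  have h1 : zpowers C.t ≤ T := by
    apply hT.le_of_norm ?_ ?_
    · intro x hx g hg
      have h2 := (mem_P0.1 (hT.le hx)).2
      obtain ⟨k, rfl⟩ := mem_zpowers_iff.1 hg
      have h3 : Commute x (C.t ^ k) := (show Commute x C.t from h2).zpow_right k
      rw [h3.eq, mul_inv_cancel_right]
      exact hg
    · rw [zpowers_le]
      exact t_mem_P0
    · intro x
      refine ⟨1, ?_⟩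
      apply Subtype.ext
      rw [pow_one, pow_two]
      change (x : G) * x = 1
      obtain ⟨k, hk⟩ := mem_zpowers_iff.1 x.2
      rw [← hk, ← mul_zpow_self_two C.tt k]
  exact h1 (mem_zpowers _)
where
  mul_zpow_self_two {t : G} (ht : t * t = 1) (k : ℤ) : (1 : G) = t ^ k * t ^ k := by
    rw [← zpow_add, ← two_mul, zpow_mul, zpow_two, ht, one_zpow]

end Cfsg.Agent.OddHalf.SpTwoN.LongCount

end

-- merged: Cfsg.Agent.OddHalf.SpTwoN.LongMain
section

/-!
# Pattern "long only": a sign on `G`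
-/

set_option autoImplicit false

namespace Cfsg.Agent.OddHalf.SpTwoN.LongMain

open Subgroup
open Cfsg.Agent.StandardComponent.SpTwo
open Cfsg.Agent.OddHalf.SpTwoN.Words Cfsg.Agent.OddHalf.SpTwoN.Iso Cfsg.Agent.OddHalf.SpTwoN.Transl
open Cfsg.Agent.OddHalf.SpTwoN.Section Cfsg.Agent.OddHalf.SpTwoN.LongH Cfsg.Agent.OddHalf.SpTwoN.LongCount

variable {G V : Type*} [Group G] [AddCommGroup V] [Module (ZMod 2) V] {C : Ctx G V} {W : Submodule (ZMod 2) V}
variable [Finite V] [Finite G]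

omit [Finite V] [Finite G] in
/-- every affine map is a translation times an element of `C_H(t)` -/
theorem exists_P0 (hE : ∀ v ∈ W, v ≠ 0 → ∃ y, E C W v y) {h : G} (hh : h ∈ HG C W) :
    ∃ k ∈ RG C W, k⁻¹ * h ∈ P0 C W := by
  obtain ⟨n, hn, v, hv, h1⟩ := hh
  have hk : ∃ k, Tr C W v k := by
    by_cases hv0 : v = 0
    · exact ⟨C.t, hv0 ▸ tr_t⟩
    · obtain ⟨y, hy⟩ := hE v hv hv0
      exact ⟨y, hy.1⟩
  obtain ⟨k, hk⟩ := hk
  have h2 : Aff C W n 0 (k⁻¹ * h) := by
    have := (aff_tr (hk.inv hv)).mul hn hv h1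
    rwa [C.S.ρ_one, aa, one_mul] at this
  refine ⟨k, ⟨v, hv, hk⟩, mem_P0.2 ⟨⟨n, hn, 0, zero_mem _, h2⟩, ?_⟩⟩
  have h3 := h2 0 (zero_mem _)
  rw [C.b_zero, mul_one, map_zero, zero_add, C.b_zero, mul_one] at h3
  exact mul_inv_eq_iff_eq_mul.1 h3

section frame

variable (hW : Max C.S W) (hr : 4 ≤ Module.finrank (ZMod 2) W) (hE : ∀ v ∈ W, v ≠ 0 → ∃ y, E C W v y)
  {v0 v1 : V} {y0 y1 : G} (f : Frame C W v0 v1 y0 y1)

/-- **step 1**: the element `d` is a translation -/
theorem mem_RG {T T' : Subgroup G} (hT : IsSyl (P0 C W) T) (hT' : T' ≤ HG C W) (h2 : IsPGroup 2 T')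
    (hc : Nat.card T' = Nat.card T) {d : G} (hd : d ∈ HG C W) (hd1 : (⟨d, hd⟩ : HG C W) ∉ H1 hW hr hE f)
    (hcomm : ∀ x ∈ T', Commute x d) : d ∈ RG C W := by
  by_contra hdR
  have : Fact (Nat.Prime 2) := ⟨Nat.prime_two⟩
  obtain ⟨n, hn, v, hv, h1⟩ := id hd
  have hdF : ∀ w z, F C W y0 y1 w z → F C W y0 y1 (C.S.ρ n w) (C.t * d * z * (C.t * d)⁻¹) := by
    rcases dichotomy hW hr hE f hn hv h1 with h3 | h3
    · exfalso
      exact hd1 ((mem_H1_iff hW hr hE f).2 fun w z hz => ⟨_, h3 w z hz⟩)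
    · exact h3
  have hM : Nat.card (T' ⊓ RG C W : Subgroup G) ≤ Nat.card (AG C W) :=
    card_le hW hr hE f hn hv h1 hdF hdR inf_le_right fun x hx => hcomm x hx.1
  -- the quotient
  set R' : Subgroup (HG C W) := (RG C W).subgroupOf (HG C W) with hR'
  have : R'.Normal := by
    constructor
    intro k hk g
    rw [mem_subgroupOf] at hk ⊢
    exact conj_mem_RG g.2 hk
  set π : HG C W →* HG C W ⧸ R' := QuotientGroup.mk' R' with hπ
  have hker : π.ker = R' := QuotientGroup.ker_mk' R'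
  set K' : Subgroup (HG C W) := T'.subgroupOf (HG C W) with hK'
  have e1 := card_map_mul K' π
  have e2 : Nat.card K' = Nat.card T' := StdSpSix.QLevel.card_sub_eq hT'
  have hkerR : ∀ y : HG C W, y ∈ π.ker → (y : G) ∈ RG C W := fun y hy => by
    rw [hker] at hy
    exact mem_subgroupOf.1 hy
  have e3 : Nat.card (K' ⊓ π.ker : Subgroup (HG C W)) ≤ Nat.card (T' ⊓ RG C W : Subgroup G) := by
    refine Nat.card_le_card_of_injective (fun x : (K' ⊓ π.ker : Subgroup (HG C W)) =>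
      (⟨x.1.1, mem_subgroupOf.1 x.2.1, ?_⟩ : (T' ⊓ RG C W : Subgroup G))) ?_
    · exact hkerR x.1 x.2.2
    · intro x y hxy
      apply Subtype.ext
      apply Subtype.ext
      exact congrArg (Subtype.val : (T' ⊓ RG C W : Subgroup G) → G) hxy
  -- the Sylow subgroup
  obtain ⟨P⟩ : Nonempty (Sylow 2 (P0 C W)) := inferInstance
  have hP0 : P0 C W ≤ HG C W := inf_le_left
  set ψ : P0 C W →* HG C W ⧸ R' := π.comp (Subgroup.inclusion hP0) with hψ
  have hsurj : Function.Surjective ψ := by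
    intro q
    obtain ⟨h, rfl⟩ := QuotientGroup.mk_surjective q
    obtain ⟨k, hk, hkh⟩ := exists_P0 hE h.2
    refine ⟨⟨k⁻¹ * h, hkh⟩, ?_⟩
    change ((Subgroup.inclusion hP0 ⟨k⁻¹ * h, hkh⟩ : HG C W) : HG C W ⧸ R') = (h : HG C W ⧸ R')
    rw [QuotientGroup.eq, mem_subgroupOf]
    change (k⁻¹ * (h : G))⁻¹ * h ∈ RG C W
    have h3 := conj_mem_RG (inv_mem h.2) hk
    have e : (k⁻¹ * (h : G))⁻¹ * h = (h : G)⁻¹ * k * ((h : G)⁻¹)⁻¹ := by group
    rw [e]
    exact h3
  have e4 := card_map_mul (P : Subgroup (P0 C W)) ψ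
  have hPT : Nat.card ((P : Subgroup (P0 C W)).map (P0 C W).subtype) = Nat.card P :=
    Subgroup.card_map_of_injective (P0 C W).subtype_injective
  have hcP : Nat.card P = Nat.card T := by
    apply le_antisymm
    · rw [← hPT]
      refine hT.max _ ?_ (P.2.map _)
      rintro _ ⟨x, -, rfl⟩
      exact x.2
    · have h3 : IsPGroup 2 (T.subgroupOf (P0 C W)) := hT.two.comap_subtype
      have h4 := card_le_sylow P h3
      rwa [StdSpSix.QLevel.card_sub_eq hT.le] at h4
  have hSyl : IsSyl (P0 C W) ((P : Subgroup (P0 C W)).map (P0 C W).subtype) := by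
    refine hT.of_card ?_ (P.2.map _) (by rw [hPT, hcP])
    rintro _ ⟨x, -, rfl⟩
    exact x.2
  have hA := AG_le hW hSyl
  have ht := t_mem hSyl
  have hmem : ∀ g : G, g ∈ (P : Subgroup (P0 C W)).map (P0 C W).subtype → g ∈ RG C W →
      ∃ h : g ∈ P0 C W, (⟨g, h⟩ : P0 C W) ∈ ((P : Subgroup (P0 C W)) ⊓ ψ.ker : Subgroup (P0 C W)) := by
    rintro _ ⟨x, hx, rfl⟩ hg
    have h3 : ψ x = 1 := by
      change ((Subgroup.inclusion hP0 x : HG C W) : HG C W ⧸ R') = 1
      rw [QuotientGroup.eq_one_iff, mem_subgroupOf]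
      exact hg
    exact ⟨x.2, hx, h3⟩
  have hAR : ∀ g ∈ AG C W, g ∈ RG C W := by
    intro g hg
    obtain ⟨a, ha, rfl⟩ := mem_AG.1 hg
    exact ⟨0, zero_mem _, tr_a hW ha⟩
  have e5 : 2 * Nat.card (AG C W) ≤ Nat.card ((P : Subgroup (P0 C W)) ⊓ ψ.ker : Subgroup (P0 C W)) := by
    have h3 : Nat.card (Bool × AG C W) ≤ Nat.card ((P : Subgroup (P0 C W)) ⊓ ψ.ker : Subgroup (P0 C W)) := by
      have hb : ∀ x : Bool × AG C W, (if x.1 then C.t * x.2 else (x.2 : G)) ∈
          (P : Subgroup (P0 C W)).map (P0 C W).subtype ∧ (if x.1 then C.t * x.2 else (x.2 : G)) ∈ RG C W := by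
        rintro ⟨i, x⟩
        cases i
        · exact ⟨hA x.2, hAR _ x.2⟩
        · exact ⟨mul_mem ht (hA x.2), mul_mem t_mem_RG (hAR _ x.2)⟩
      refine Nat.card_le_card_of_injective (fun x => (⟨_, (hmem _ (hb x).1 (hb x).2).choose_spec⟩ :
        ((P : Subgroup (P0 C W)) ⊓ ψ.ker : Subgroup (P0 C W)))) ?_
      rintro ⟨i, x⟩ ⟨j, y⟩ hxy
      have h4 := congrArg (fun z : ((P : Subgroup (P0 C W)) ⊓ ψ.ker : Subgroup (P0 C W)) => ((z : P0 C W) : G)) hxy
      change (if i then C.t * x else (x : G)) = (if j then C.t * y else (y : G)) at h4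
      obtain ⟨a, ha, hxa⟩ := mem_AG.1 x.2
      obtain ⟨c, hc, hyc⟩ := mem_AG.1 y.2
      cases i <;> cases j
      · simp only [Bool.false_eq_true, if_false] at h4
        rw [Prod.mk.injEq]
        exact ⟨rfl, Subtype.ext h4⟩
      · exfalso
        simp only [Bool.false_eq_true, if_false, if_true] at h4
        apply C.tL
        have : C.t = (a : G) * (c : G)⁻¹ := by rw [← hxa, h4, hyc, mul_inv_cancel_right]
        rw [this]
        exact mul_mem a.2 (inv_mem c.2)
      · exfalso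
        simp only [Bool.false_eq_true, if_false, if_true] at h4
        apply C.tL
        have : C.t = (c : G) * (a : G)⁻¹ := by rw [← hyc, ← h4, hxa, mul_inv_cancel_right]
        rw [this]
        exact mul_mem c.2 (inv_mem a.2)
      · simp only [if_true] at h4
        rw [Prod.mk.injEq]
        exact ⟨rfl, Subtype.ext (mul_left_cancel h4)⟩
    rw [Nat.card_prod] at h3
    have h4 : Nat.card Bool = 2 := by simp
    rwa [h4] at h3
  have e6 : Nat.card (K'.map π) ≤ Nat.card ((P : Subgroup (P0 C W)).map ψ) := by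
    have h3 : IsPGroup 2 (K'.map π) := (h2.comap_subtype).map _
    exact card_le_sylow (P.mapSurjective hsurj) h3
  have hpos : 0 < Nat.card (K'.map π) := Nat.card_pos
  have hpos2 : 0 < Nat.card (AG C W) := Nat.card_pos
  have e7 : Nat.card T ≤ Nat.card (AG C W) * Nat.card (K'.map π) := by
    rw [← hc, ← e2, e1]
    exact Nat.mul_le_mul_right _ (e3.trans hM)
  have e8 : 2 * Nat.card (AG C W) * Nat.card (K'.map π) ≤ Nat.card T := by
    rw [← hcP, e4]
    exact Nat.mul_le_mul e5 e6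
  have e9 : 0 < Nat.card (AG C W) * Nat.card (K'.map π) := Nat.mul_pos hpos2 hpos
  have e10 : 2 * Nat.card (AG C W) * Nat.card (K'.map π) = 2 * (Nat.card (AG C W) * Nat.card (K'.map π)) := by ring
  omega

/-- **step 2**: a translation moving `F` is conjugate to `t λ` -/
theorem exists_conj {d : G} (hd : d ∈ RG C W) (hd1 : (⟨d, RG_le_HG hd⟩ : HG C W) ∉ H1 hW hr hE f)
    (hdd : d * d = 1) : ∃ k ∈ HG C W, ∃ l : C.L, l ∈ AW C.S W ∧ δ C.S l = 0 ∧ k * d * k⁻¹ = C.t * l := by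
  obtain ⟨w, hw, hTr⟩ := id hd
  obtain ⟨z, hz⟩ := f.exists_mem hW hr hE hw
  have h2 : Tr C W 0 (z * d) := by
    have := hz.2.1.1.mul hw hTr
    rwa [aa] at this
  obtain ⟨a, ha, h3 | h3⟩ := h2.zero
  · -- `d = z a` normalises `F`
    exfalso
    apply hd1
    rw [mem_H1_iff]
    intro w' z' hz'
    refine ⟨w', ?_⟩
    have h4 : d = z * a := by rw [← h3, ← mul_assoc, hz.2.1.2, one_mul]
    have h5 := a_mem_H1 hW f hr hE ha hz'
    have h6 := f.commute hW hr hE hz h5
    have h7 : d * z' * d⁻¹ = a * z' * (a : G)⁻¹ := by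
      calc d * z' * d⁻¹ = z * (a * z' * (a : G)⁻¹) * z⁻¹ := by rw [h4]; group
        _ = _ := by rw [h6.eq, mul_inv_cancel_right]
    change F C W y0 y1 w' (d * z' * d⁻¹)
    rw [h7]
    exact h5
  · have h4 : d = z * (C.t * a) := by rw [← h3, ← mul_assoc, hz.2.1.2, one_mul]
    have hw0 : w = 0 := by
      by_contra hw0
      apply sq_yta hW hw hw0 hz.2.1 ha
      rw [← h4, hdd]
    subst hw0
    obtain ⟨c, hc, hc0, hzc⟩ := f.zero hW hz
    have h5 : d = C.t * ((c * a : C.L) : G) := by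
      rw [h4, hzc, ← mul_assoc, Lt, Subgroup.coe_mul, mul_assoc]
    have hca : c * a ∈ AW C.S W := mul_mem hc ha
    obtain ⟨k, hk⟩ := f.exists_mem hW hr hE (hW.δ_mem hca)
    refine ⟨k, RG_le_HG ⟨_, hk.1, hk.2.1.1⟩, C.S.τ (δ C.S (c * a)) * (c * a),
      mul_mem (hW.τ_mem hk.1) hca, ?_, ?_⟩
    · rw [hW.δ_mul (hW.τ_mem hk.1) hca, δ_τ, aa]
    · have h6 := hk.2.1.1.conj_t
      have h7 := hk.2.1.1.conj_a hW hk.1 hca
      rw [s_self, mul_one] at h7
      rw [h5]
      calc k * (C.t * ((c * a : C.L) : G)) * k⁻¹ = (k * C.t * k⁻¹) * (k * ((c * a : C.L) : G) * k⁻¹) := by group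
        _ = C.t * C.b (δ C.S (c * a)) * ((c * a : C.L) : G) := by rw [h6, h7]
        _ = _ := by rw [mul_assoc]; rfl

end frame

omit [Finite G] in
/-- **step 3a**: an element of `H` commuting with `t λ` commutes with `t` -/
theorem mem_P0_of_commute (hW : Max C.S W) (hE : ∀ v ∈ W, v ≠ 0 → ∃ y, E C W v y) {l : C.L} (hl : l ∈ AW C.S W)
    (hl0 : δ C.S l = 0) {x : G} (hx : x ∈ HG C W) (hc : Commute x (C.t * l)) : x ∈ P0 C W := by
  obtain ⟨n, hn, v, hv, h1⟩ := id hx
  obtain ⟨c, hcA, hc1, hc2⟩ := Aff.conj_a hW hE hn hv h1 hl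
  have h2 := h1 0 (zero_mem _)
  rw [C.b_zero, mul_one, map_zero, zero_add] at h2
  have h3 : x * (C.t * l) * x⁻¹ = C.t * l := by rw [hc.eq, mul_inv_cancel_right]
  have h4 : x * (C.t * l) * x⁻¹ = (x * C.t * x⁻¹) * (x * l * x⁻¹) := by group
  rw [h4, h2, hc1, mul_assoc] at h3
  have h5 := mul_left_cancel h3
  have h6 : C.S.τ v * c = l := Subtype.ext h5
  have h7 := congrArg (δ C.S) h6
  rw [hW.δ_mul (hW.τ_mem hv) hcA, δ_τ, hc2, hl0, map_zero, add_zero] at h7
  refine mem_P0.2 ⟨hx, ?_⟩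
  rw [h7, C.b_zero, mul_one] at h2
  exact mul_inv_eq_iff_eq_mul.1 h2

omit [Finite V] [Finite G] in
/-- an element of `C_H(t)` acts linearly on `Ω` -/
theorem P0.conj_b {x : G} (hx : x ∈ P0 C W) : ∃ m : C.L, (x = m ∨ x = C.t * m) ∧
    (∀ w, w ∈ W ↔ C.S.ρ m w ∈ W) ∧ ∀ w, x * C.b w * x⁻¹ = C.b (C.S.ρ m w) := by
  obtain ⟨⟨n, hn, v, hv, h1⟩, h2⟩ := mem_P0.1 hx
  have h3 : v = 0 := by
    have h4 := h1 0 (zero_mem _)
    rw [C.b_zero, mul_one, map_zero, zero_add, h2, mul_inv_cancel_right] at h4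
    apply C.b_inj
    rw [C.b_zero]
    have : C.t * 1 = C.t * C.b v := by rw [mul_one]; exact h4
    exact (mul_left_cancel this).symm
  subst h3
  obtain ⟨m, hm, hmn⟩ := Aff.exists_L h1
  refine ⟨m, hm, ?_, ?_⟩
  · intro x
    constructor
    · intro hx
      rw [hmn x hx]
      exact (hn x).1 hx
    · intro hx
      have hx' : C.S.ρ n⁻¹ (C.S.ρ m x) ∈ W := (hn.inv _).1 hx
      have h3 := hmn _ hx'
      rw [C.S.ρ_apply_inv] at h3
      have h4 := C.S.ρ_inj m h3
      rwa [← h4]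
  · intro w
    rw [← C.b_conj]
    rcases hm with h4 | h4
    · rw [h4]
    · rw [h4]
      have h5 := Lt (C := C) (m * C.S.τ w * m⁻¹)
      have h6 : ((m * C.S.τ w * m⁻¹ : C.L) : G) = (m : G) * C.b w * (m : G)⁻¹ := rfl
      rw [h6] at h5
      calc C.t * m * C.b w * (C.t * m)⁻¹ = C.t * ((m : G) * C.b w * (m : G)⁻¹) * C.t⁻¹ := by group
        _ = ((m : G) * C.b w * (m : G)⁻¹) * (C.t * C.t⁻¹) := by rw [← h5]; group
        _ = _ := by rw [mul_inv_cancel, mul_one]

/-- a 2-subgroup of `C_H(t)` fixes a nonzero vector of `W` -/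
theorem exists_fixed (hr : 4 ≤ Module.finrank (ZMod 2) W) {T : Subgroup G} (hT : T ≤ P0 C W) (h2 : IsPGroup 2 T) :
    ∃ e ∈ W, e ≠ 0 ∧ ∀ x ∈ T, x * C.b e * x⁻¹ = C.b e := by
  have : Fact (Nat.Prime 2) := ⟨Nat.prime_two⟩
  let X := {g : G // ∃ w ∈ W, g = C.b w}
  let act : MulAction T X :=
    { smul := fun x g => ⟨x * g * (x : G)⁻¹, by
        obtain ⟨w, hw, h⟩ := g.2
        obtain ⟨m, -, hm, h3⟩ := P0.conj_b (hT x.2)
        exact ⟨_, (hm w).1 hw, by rw [h, h3]⟩⟩
      one_smul := fun g => Subtype.ext (by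
        change ((1 : T) : G) * g * ((1 : T) : G)⁻¹ = g
        rw [Subgroup.coe_one]; group)
      mul_smul := fun x y g => Subtype.ext (by
        change ((x * y : T) : G) * g * ((x * y : T) : G)⁻¹ = x * (y * g * (y : G)⁻¹) * (x : G)⁻¹
        rw [Subgroup.coe_mul]; group) }
  have h3 := h2.card_modEq_card_fixedPoints X
  have h4 : Nat.card X = Nat.card W := by
    symm
    refine Nat.card_congr (Equiv.ofBijective (fun w : W => (⟨C.b w, w, w.2, rfl⟩ : X)) ⟨?_, ?_⟩)
    · intro u w huw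
      have h5 : C.b u = C.b w := congrArg (fun g : X => (g : G)) huw
      exact Subtype.ext (C.b_inj h5)
    · rintro ⟨g, w, hw, rfl⟩
      exact ⟨⟨w, hw⟩, rfl⟩
  have h5 : 2 ∣ Nat.card W := by
    have h6 : Nat.card W = 2 ^ Module.finrank (ZMod 2) W := by
      have := Fintype.ofFinite W
      have h7 := Module.card_eq_pow_finrank (K := ZMod 2) (V := W)
      rw [Nat.card_eq_fintype_card, h7, ZMod.card]
    rw [h6]
    exact dvd_pow_self 2 (by omega)
  have h6 : 2 ∣ Nat.card (MulAction.fixedPoints T X) := by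
    rw [← h4] at h5
    exact (Nat.ModEq.dvd_iff h3 (dvd_refl 2)).1 h5
  have hone : (⟨C.b 0, 0, zero_mem _, rfl⟩ : X) ∈ MulAction.fixedPoints T X := by
    intro x
    apply Subtype.ext
    change (x : G) * C.b 0 * (x : G)⁻¹ = C.b 0
    rw [C.b_zero]; group
  have : ∃ g ∈ MulAction.fixedPoints T X, (g : G) ≠ 1 := by
    by_contra hcon
    push Not at hcon
    have h7 : Nat.card (MulAction.fixedPoints T X) = 1 := by
      rw [Nat.card_eq_one_iff_exists]
      refine ⟨⟨_, hone⟩, fun g => ?_⟩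
      apply Subtype.ext
      apply Subtype.ext
      rw [hcon g g.2]
      exact C.b_zero.symm
    rw [h7] at h6
    omega
  obtain ⟨g, hg, hg1⟩ := this
  obtain ⟨e, he, hge⟩ := g.2
  refine ⟨e, he, ?_, fun x hx => ?_⟩
  · intro h
    apply hg1
    rw [hge, h, C.b_zero]
  · have h7 := hg ⟨x, hx⟩
    have h8 : x * (g : G) * x⁻¹ = g := congrArg Subtype.val h7
    rwa [hge] at h8

variable (C) in
/-- the short root elements through a point -/
def QG (e : V) : Subgroup G where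
  carrier := {g | ∃ f, C.S.B e f = 0 ∧ (g = s C e f ∨ g = C.b e * s C e f)}
  one_mem' := ⟨0, map_zero _, Or.inl (s_zero e).symm⟩
  mul_mem' := by
    rintro _ _ ⟨f, hf, h1⟩ ⟨f', hf', h2⟩
    have h3 : C.S.B e (f + f') = 0 := by rw [map_add, hf, hf', add_zero]
    have h4 : s C e f * s C e f' = C.b (C.S.B f f' • e) * s C e (f + f') := congrArg Subtype.val (sg_mul C.S hf hf')
    have h5 : C.b e * s C e f = s C e f * C.b e := congrArg Subtype.val (commute_τ_sg C.S (C.S.alt e) hf).eq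
    have h6 := C.b_sq e
    refine ⟨f + f', h3, ?_⟩
    rcases z2 (C.S.B f f') with h7 | h7
    · rw [h7, zero_smul, C.b_zero, one_mul] at h4
      rcases h1 with rfl | rfl <;> rcases h2 with rfl | rfl
      · left; exact h4
      · right; rw [← h4, ← mul_assoc, ← h5, mul_assoc]
      · right; rw [← h4, mul_assoc]
      · left
        calc C.b e * s C e f * (C.b e * s C e f') = (C.b e * s C e f) * C.b e * s C e f' := by group
          _ = s C e f * (C.b e * C.b e) * s C e f' := by rw [h5]; group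
          _ = _ := by rw [h6, mul_one, h4]
    · rw [h7, one_smul] at h4
      rcases h1 with rfl | rfl <;> rcases h2 with rfl | rfl
      · right; exact h4
      · left
        calc s C e f * (C.b e * s C e f') = (s C e f * C.b e) * s C e f' := by group
          _ = C.b e * (s C e f * s C e f') := by rw [← h5]; group
          _ = (C.b e * C.b e) * s C e (f + f') := by rw [h4]; group
          _ = _ := by rw [h6, one_mul]
      · left
        rw [mul_assoc, h4, ← mul_assoc, h6, one_mul]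
      · right
        calc C.b e * s C e f * (C.b e * s C e f') = (C.b e * s C e f) * C.b e * s C e f' := by group
          _ = s C e f * (C.b e * C.b e) * s C e f' := by rw [h5]; group
          _ = _ := by rw [h6, mul_one, h4]
  inv_mem' := by
    rintro _ ⟨f, hf, h1⟩
    have h2 : (s C e f)⁻¹ = s C e f := congrArg Subtype.val (sg_inv C.S hf)
    have h5 : C.b e * s C e f = s C e f * C.b e := congrArg Subtype.val (commute_τ_sg C.S (C.S.alt e) hf).eq
    refine ⟨f, hf, ?_⟩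
    rcases h1 with rfl | rfl
    · left; exact h2
    · right; rw [mul_inv_rev, h2, b_inv, h5]

omit [Finite V] [Finite G] in
theorem isPGroup_QG (e : V) : IsPGroup 2 (QG C e) := by
  intro x
  refine ⟨1, ?_⟩
  obtain ⟨f, hf, h⟩ := x.2
  have h1 : s C e f * s C e f = 1 := congrArg Subtype.val (sg_sq C.S hf)
  have h5 : C.b e * s C e f = s C e f * C.b e := congrArg Subtype.val (commute_τ_sg C.S (C.S.alt e) hf).eq
  apply Subtype.ext
  rw [pow_one, pow_two]
  change (x : G) * x = 1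
  rcases h with h | h
  · rw [h, h1]
  · rw [h]
    calc C.b e * s C e f * (C.b e * s C e f) = (C.b e * s C e f) * C.b e * s C e f := by group
      _ = s C e f * (C.b e * C.b e) * s C e f := by rw [h5]; group
      _ = 1 := by rw [C.b_sq, mul_one, h1]

omit [Finite V] [Finite G] in
theorem QG_le (hW : Max C.S W) {e : V} (he : e ∈ W) : QG C e ≤ P0 C W := by
  have key : ∀ f, C.S.B e f = 0 → s C e f ∈ P0 C W := by
    intro f hf
    have hx : ∀ x ∈ W, C.S.ρ (sg C.S e f) x = x + C.S.B x f • e := by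
      intro x hx
      rw [ρ_sg C.S hf, hW.perp hx he, zero_smul, add_zero]
    have h1 : ∀ x ∈ W, C.S.ρ (sg C.S e f) x ∈ W := by
      intro x hxW
      rw [hx x hxW]
      exact add_mem hxW (Submodule.smul_mem _ _ he)
    refine mem_P0.2 ⟨⟨sg C.S e f, fun x => ⟨h1 x, fun h => ?_⟩, 0, zero_mem _, aff_L _⟩, Lt _⟩
    have h2 := h1 _ h
    rwa [← C.S.ρ_mul, sg_sq C.S hf, C.S.ρ_one] at h2
  rintro _ ⟨f, hf, rfl | rfl⟩
  · exact key f hf
  · exact mul_mem (b_mem_P0 hW (hW.τ_mem he)) (key f hf)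

/-- **step 3b**: an alternating element of `A` commuting with a Sylow 2-subgroup of `C_H(t)` is short -/
theorem alt_cases (hW : Max C.S W) (hr : 4 ≤ Module.finrank (ZMod 2) W) {T : Subgroup G} (hT : IsSyl (P0 C W) T)
    {l : C.L} (hl : l ∈ AW C.S W) (hl0 : δ C.S l = 0) (hc : ∀ x ∈ T, Commute x (l : G)) (hl1 : l ≠ 1) :
    ∃ e u, e ≠ 0 ∧ u ≠ 0 ∧ e ≠ u ∧ C.S.B e u = 0 ∧ l = sg C.S e u := by
  obtain ⟨e, he, he0, hfix⟩ := exists_fixed hr hT.le hT.two
  -- `T` contains the group of the point `e`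
  have hQ : QG C e ≤ T := by
    apply hT.le_of_norm (QG_le hW he) (isPGroup_QG e)
    rintro x hx _ ⟨f, hf, h1⟩
    obtain ⟨m, -, -, h2⟩ := P0.conj_b (hT.le hx)
    have h3 : C.S.ρ m e = e := by
      apply C.b_inj
      rw [← h2, hfix x hx]
    have h4 : x * s C e f * x⁻¹ = s C e (C.S.ρ m f) := by
      have e1 : x * s C e f * x⁻¹ = (x * C.b e * x⁻¹) * (x * C.b f * x⁻¹) * (x * C.b (e + f) * x⁻¹) := by
        change x * (C.b e * C.b f * C.b (e + f)) * x⁻¹ = _
        group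
      rw [e1, h2, h2, h2, map_add, h3]
      rfl
    refine ⟨C.S.ρ m f, ?_, ?_⟩
    · rw [← h3, C.S.inv, hf]
    · rcases h1 with rfl | rfl
      · left; exact h4
      · right
        calc x * (C.b e * s C e f) * x⁻¹ = (x * C.b e * x⁻¹) * (x * s C e f * x⁻¹) := by group
          _ = _ := by rw [h4, hfix x hx]
  have hcomm : ∀ f, C.S.B e f = 0 → C.S.ρ l f + f = 0 ∨ C.S.ρ l f + f = e := by
    intro f hf
    have h1 : Commute (s C e f) (l : G) := hc _ (hQ ⟨f, hf, Or.inl rfl⟩)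
    have h2 : l * sg C.S e f * l⁻¹ = sg C.S e f := by
      apply Subtype.ext
      change (l : G) * s C e f * (l : G)⁻¹ = s C e f
      rw [← h1.eq, mul_inv_cancel_right]
    rw [conj_sg, hl e he] at h2
    have hf' : C.S.B e (C.S.ρ l f) = 0 := by
      have := C.S.inv l e f
      rw [hl e he] at this
      rw [this, hf]
    have h3 := sg_mul C.S hf' hf
    rw [h2, sg_sq C.S hf] at h3
    rcases z2 (C.S.B (C.S.ρ l f) f) with h4 | h4
    · rw [h4, zero_smul, C.S.τ_zero, one_mul] at h3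
      have h5 : C.S.B e (C.S.ρ l f + f) = 0 := by rw [map_add, hf', hf, add_zero]
      rcases sg_eq_one C.S h5 h3.symm with h6 | h6 | h6
      · exact absurd h6 he0
      · exact Or.inl h6
      · exact Or.inr h6.symm
    · exfalso
      rw [h4, one_smul] at h3
      have h5 : C.S.B e (C.S.ρ l f + f) = 0 := by rw [map_add, hf', hf, add_zero]
      apply τ_ne_sg C.S he0 h5
      have h6 := (eq_inv_of_mul_eq_one_left h3.symm)
      rw [h6, sg_inv C.S h5]
  -- a vector not perpendicular to `e`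
  have : ∃ h, C.S.B e h = 1 := by
    by_contra hn
    push Not at hn
    apply he0
    apply C.S.nondeg
    intro w
    rcases z2 (C.S.B e w) with h | h
    · exact h
    · exact absurd h (hn w)
  obtain ⟨h, heh⟩ := this
  have hsq := hW.sq hl
  set u := C.S.n l h with hu
  have huW : u ∈ W := hW.n_mem hl h
  have halt : ∀ x, C.S.B x (C.S.n l x) = 0 := by
    intro x
    have h1 := B_δ (D := C.S) hsq x
    rw [hl0, map_zero, C.S.ρ_eq l x, map_add, C.S.alt, zero_add] at h1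
    exact h1.symm
  have heu : C.S.B e u = 0 := hW.perp he huW
  have key : ∀ x, C.S.n l x = C.S.B x u • e + C.S.B x e • u := by
    intro x
    set x' := x + C.S.B x e • h with hx'
    have h1 : C.S.B e x' = 0 := by
      rw [hx', map_add, map_smul, heh, smul_eq_mul, mul_one, C.S.symm e x]
      rcases z2 (C.S.B x e) with h | h <;> rw [h] <;> decide
    have h2 : C.S.n l x = C.S.n l x' + C.S.B x e • u := by
      rw [hx', map_add, map_smul, ← hu, aab]
    have h3 : C.S.n l x' = C.S.B x' u • e := by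
      have h4 : C.S.B x' u = C.S.B (C.S.n l x') h := C.S.n_adj hsq x' h
      rcases hcomm x' h1 with h5 | h5
      · have h6 : C.S.n l x' = 0 := h5
        rw [h4, h6, map_zero, LinearMap.zero_apply, zero_smul]
      · have h6 : C.S.n l x' = e := h5
        rw [h4, h6, heh, one_smul]
    have h4 : C.S.B x' u = C.S.B x u := by
      rw [hx', map_add, LinearMap.add_apply, map_smul, LinearMap.smul_apply, hu, halt h, smul_zero, add_zero]
    rw [h2, h3, h4]
  have hlsg : l = sg C.S e u := by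
    apply C.S.ext_iff
    intro x
    rw [ρ_sg C.S heu, C.S.ρ_eq, key]
  refine ⟨e, u, he0, ?_, ?_, heu, hlsg⟩
  · intro h0
    apply hl1
    rw [hlsg, h0, sg_zero_right]
  · intro h0
    apply hl1
    rw [hlsg, ← h0, sg_self]

/-- **step 4** -/
theorem mem_HG_of (hW : Max C.S W) {T : Subgroup G} (hT : IsSyl (P0 C W) T) {g : G} (hg : g⁻¹ * C.t * g = C.t)
    (hTg : ∀ x ∈ T, g⁻¹ * x * g ∈ HG C W) : g ∈ HG C W := by
  have h1 : Commute g C.t := by
    change g * C.t = C.t * g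
    calc g * C.t = g * (g⁻¹ * C.t * g) := by rw [hg]
      _ = _ := by group
  have key : ∀ m : C.L, (∀ w ∈ W, (m : G)⁻¹ * C.b w * m ∈ HG C W) → (m : G) ∈ HG C W := by
    intro m hm
    have h2 : ∀ w ∈ W, C.S.ρ m⁻¹ w ∈ W := by
      intro w hw
      set u := C.S.ρ m⁻¹ w with hu
      have h3 : C.b u ∈ HG C W := by
        rw [hu, ← C.b_conj, Subgroup.coe_inv, inv_inv]
        exact hm w hw
      have h4 : C.b u ∈ P0 C W := mem_P0.2 ⟨h3, Lt _⟩
      obtain ⟨m', hm', h5, h6⟩ := P0.conj_b h4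
      by_contra huW
      have : ∃ x ∈ W, C.S.B u x = 1 := by
        by_contra hn
        push Not at hn
        apply huW
        rw [hW]
        intro x hx
        rcases z2 (C.S.B u x) with h | h
        · exact h
        · exact absurd h (hn x hx)
      obtain ⟨x, hx, hux⟩ := this
      have h7 : C.S.ρ m' x = C.S.ρ (C.S.τ u) x := by
        apply C.b_inj
        rw [← h6 x]
        exact C.b_conj (C.S.τ u) x
      have h8 := (h5 x).1 hx
      rw [h7, C.S.hτ, C.S.symm x u, hux, one_smul] at h8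
      apply huW
      have := add_mem hx h8
      rwa [aac] at this
    -- finiteness
    have h3 : W.map (C.S.ρ m⁻¹) ≤ W := by
      rintro _ ⟨w, hw, rfl⟩
      exact h2 w hw
    have h4 : W.map (C.S.ρ m⁻¹) = W := by
      apply Submodule.eq_of_le_of_finrank_eq h3
      exact ((Submodule.equivMapOfInjective (C.S.ρ m⁻¹) (fun a b h => C.S.ρ_inj m⁻¹ h) W).finrank_eq).symm
    refine ⟨m, fun x => ?_, 0, zero_mem _, aff_L m⟩
    constructor
    · intro hx
      rw [← h4] at hx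
      obtain ⟨w, hw, rfl⟩ := hx
      rwa [C.S.ρ_apply_inv]
    · intro hx
      have := h2 _ hx
      rwa [C.S.ρ_inv_apply] at this
  have hAT := AG_le hW hT
  rcases (C.cent g).1 h1 with h2 | h2
  · refine key ⟨g, h2⟩ fun w hw => ?_
    exact hTg _ (hAT (mem_AG.2 ⟨_, hW.τ_mem hw, rfl⟩))
  · have h3 := key ⟨C.t * g, h2⟩ fun w hw => by
      have h4 := hTg _ (hAT (mem_AG.2 ⟨_, hW.τ_mem hw, rfl⟩))
      have h5 : C.t * C.b w * C.t = C.b w := by
        have := Lt (C := C) (C.S.τ w)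
        change C.b w * C.t = C.t * C.b w at this
        rw [← this, mul_assoc, C.tt, mul_one]
      change (C.t * g)⁻¹ * C.b w * (C.t * g) ∈ HG C W
      have h6 : (C.t * g)⁻¹ * C.b w * (C.t * g) = g⁻¹ * C.b w * g := by
        rw [mul_inv_rev, C.t_inv]
        calc g⁻¹ * C.t * C.b w * (C.t * g) = g⁻¹ * (C.t * C.b w * C.t) * g := by group
          _ = _ := by rw [h5]
      rw [h6]
      exact h4
    have h4 : g = C.t * (C.t * g) := by rw [← mul_assoc, C.tt, one_mul]
    rw [h4]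
    exact mul_mem t_mem_HG h3

/-- **Pattern "long only"**: if no `t s_{u,v}` is conjugate to `t` and all translations of `Ω = {t b_x : x ∈ W}` are
induced by involutions, then there is a sign with value `-1` at `t`. -/
theorem main (hW : Max C.S W) (hr : 4 ≤ Module.finrank (ZMod 2) W) (hE : ∀ v ∈ W, v ≠ 0 → ∃ y, E C W v y)
    (hs : ∀ e u, e ≠ 0 → u ≠ 0 → e ≠ u → C.S.B e u = 0 → C.t * s C e u ∉ C.D) : ∃ m : G →* ℤˣ, m C.t = -1 := by
  obtain ⟨v0, v1, y0, y1, f⟩ := exists_frame hW hr hE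
  obtain ⟨T, hT⟩ := exists_isSyl (P0 C W)
  set l : HG C W →* ℤˣ := sgn (H1 hW hr hE f) (index_H1 hW hr hE f) with hl
  have hTP : ∀ x ∈ T, Commute x C.t := fun x hx => (mem_P0.1 (hT.le hx)).2
  apply StdSpSix.TR.exists_hom_of_fixed l C.tt T hT.two hTP
  have huniq : ∀ g : G, ∀ h : g⁻¹ * C.t * g ∈ HG C W, l ⟨g⁻¹ * C.t * g, h⟩ = -1 →
      (∀ x ∈ T, g⁻¹ * x * g ∈ HG C W) → g ∈ HG C W := by
    intro g h hlg hTg
    rw [hl, sgn_eq_neg] at hlg
    have hd2 : (g⁻¹ * C.t * g) * (g⁻¹ * C.t * g) = 1 := by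
      calc (g⁻¹ * C.t * g) * (g⁻¹ * C.t * g) = g⁻¹ * (C.t * C.t) * g := by group
        _ = 1 := by rw [C.tt]; group
    -- the conjugate of `T`
    have hconj : ∀ k : G, Nat.card (T.map (MulAut.conj k).toMonoidHom) = Nat.card T := fun k =>
      Subgroup.card_map_of_injective (MulAut.conj k).injective
    have h1 : T.map (MulAut.conj g⁻¹).toMonoidHom ≤ HG C W := by
      rintro _ ⟨x, hx, rfl⟩
      have := hTg x hx
      change g⁻¹ * x * g⁻¹⁻¹ ∈ HG C W
      rwa [inv_inv]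
    have h2 : g⁻¹ * C.t * g ∈ RG C W := by
      refine mem_RG hW hr hE f hT h1 (hT.two.map _) (hconj _) h hlg ?_
      rintro _ ⟨x, hx, rfl⟩
      have h3 : x * C.t = C.t * x := hTP x hx
      change g⁻¹ * x * g⁻¹⁻¹ * (g⁻¹ * C.t * g) = g⁻¹ * C.t * g * (g⁻¹ * x * g⁻¹⁻¹)
      calc g⁻¹ * x * g⁻¹⁻¹ * (g⁻¹ * C.t * g) = g⁻¹ * (x * C.t) * g := by group
        _ = _ := by rw [h3]; group
    obtain ⟨k, hk, c, hc, hc0, hkd⟩ := exists_conj hW hr hE f h2 hlg hd2
    -- replace `g` by `g k⁻¹`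
    set g' := g * k⁻¹ with hg'
    have e1 : g'⁻¹ * C.t * g' = C.t * c := by
      rw [← hkd, hg']; group
    have e2 : ∀ x ∈ T, g'⁻¹ * x * g' ∈ HG C W := by
      intro x hx
      have : g'⁻¹ * x * g' = k * (g⁻¹ * x * g) * k⁻¹ := by rw [hg']; group
      rw [this]
      exact mul_mem (mul_mem hk (hTg x hx)) (inv_mem hk)
    have e3 : ∀ x ∈ T, Commute (g'⁻¹ * x * g') (C.t * c) := by
      intro x hx
      rw [← e1]
      have h3 : x * C.t = C.t * x := hTP x hx
      change g'⁻¹ * x * g' * (g'⁻¹ * C.t * g') = g'⁻¹ * C.t * g' * (g'⁻¹ * x * g')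
      calc g'⁻¹ * x * g' * (g'⁻¹ * C.t * g') = g'⁻¹ * (x * C.t) * g' := by group
        _ = _ := by rw [h3]; group
    have e4 : ∀ x ∈ T, g'⁻¹ * x * g' ∈ P0 C W := fun x hx => mem_P0_of_commute hW hE hc hc0 (e2 x hx) (e3 x hx)
    have e5 : IsSyl (P0 C W) (T.map (MulAut.conj g'⁻¹).toMonoidHom) := by
      refine hT.of_card ?_ (hT.two.map _) (hconj _)
      rintro _ ⟨x, hx, rfl⟩
      have := e4 x hx
      change g'⁻¹ * x * g'⁻¹⁻¹ ∈ P0 C W
      rwa [inv_inv]
    have e6 : c = 1 := by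
      by_contra hc1
      have h3 : ∀ x ∈ T.map (MulAut.conj g'⁻¹).toMonoidHom, Commute x (c : G) := by
        rintro _ ⟨x, hx, rfl⟩
        have h4 := e3 x hx
        have h5 : Commute (g'⁻¹ * x * g') C.t := (mem_P0.1 (e4 x hx)).2
        have h6 : (c : G) = C.t * (C.t * c) := by rw [← mul_assoc, C.tt, one_mul]
        change Commute (g'⁻¹ * x * g'⁻¹⁻¹) (c : G)
        rw [inv_inv, h6]
        exact h5.mul_right h4
      obtain ⟨e, u, he, hu, heu, hB, hcs⟩ := alt_cases hW hr e5 hc hc0 h3 hc1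
      apply hs e u he hu heu hB
      refine ⟨g'⁻¹, ?_⟩
      rw [inv_inv, e1, hcs]
      rfl
    rw [e6, Subgroup.coe_one, mul_one] at e1
    have e7 := mem_HG_of hW hT e1 e2
    have : g = g' * k := by rw [hg']; group
    rw [this]
    exact mul_mem e7 hk
  have hcard : Nat.card {q : G ⧸ HG C W // StdSpSix.TR.Bad l C.t q ∧ ∀ x ∈ T, x • q = q} = 1 := by
    rw [Nat.card_eq_one_iff_exists]
    refine ⟨⟨((1 : G) : G ⧸ HG C W), ⟨1, rfl, by rw [inv_one, one_mul, mul_one]; exact t_mem_HG, ?_⟩, ?_⟩, ?_⟩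
    · rw [hl, sgn_eq_neg]
      have h1 : (⟨1⁻¹ * C.t * 1, by rw [inv_one, one_mul, mul_one]; exact t_mem_HG⟩ : HG C W) = ⟨C.t, t_mem_HG⟩ :=
        Subtype.ext (by change 1⁻¹ * C.t * 1 = C.t; group)
      rw [h1]
      exact t_notMem hW hr hE f
    · intro x hx
      rw [MulAction.Quotient.smul_mk, smul_eq_mul, mul_one, eq_comm, QuotientGroup.eq, inv_one, one_mul]
      exact (mem_P0.1 (hT.le hx)).1
    · rintro ⟨q, ⟨g, rfl, h, hlg⟩, hfix⟩
      apply Subtype.ext
      change (g : G ⧸ HG C W) = ((1 : G) : G ⧸ HG C W)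
      rw [eq_comm, QuotientGroup.eq, inv_one, one_mul]
      apply huniq g h hlg
      intro x hx
      have := hfix x hx
      rw [MulAction.Quotient.smul_mk, smul_eq_mul, eq_comm, QuotientGroup.eq] at this
      rwa [← mul_assoc] at this
  rw [hcard]
  exact odd_one

end Cfsg.Agent.OddHalf.SpTwoN.LongMain

end

-- merged: Cfsg.Agent.OddHalf.SpTwoN.PatL
section

/-!
# Pattern `{L}`: only the transvections are moved

`patL`: then there is a homomorphism to `{1, -1}` with value `-1` at `t`.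
-/

set_option autoImplicit false

namespace Cfsg.Agent.OddHalf.SpTwoN.PatL

open Cfsg.Agent.StandardComponent.SpTwo
open Cfsg.Agent.OddHalf.SpTwo
open Cfsg.Agent.OddHalf.SpTwoN
open Cfsg.Agent.OddHalf.SpTwoN.LBStart

section Sp

variable {X V : Type*} [Group X] [AddCommGroup V] [Module (ZMod 2) V] (D : SpData X V)

/-- a maximal totally isotropic subspace -/
theorem exists_max [Finite V] (h256 : 256 ≤ Nat.card V) :
    ∃ W : Submodule (ZMod 2) V, Iso.Max D W ∧ 4 ≤ Module.finrank (ZMod 2) W := by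
  obtain ⟨W, hW, hmax⟩ := (wellFounded_gt (α := Submodule (ZMod 2) V)).has_min
    {A : Submodule (ZMod 2) V | A ≤ perp D A} ⟨⊥, (bot_le : (⊥ : Submodule (ZMod 2) V) ≤ perp D ⊥)⟩
  have hW' : W ≤ perp D W := hW
  have hperp : perp D W ≤ W := by
    intro x hx
    by_contra hxW
    refine hmax (W ⊔ ln x) ?_ ?_
    · change W ⊔ ln x ≤ perp D (W ⊔ ln x)
      refine sup_le ?_ ?_
      · intro w hw
        rw [mem_perp_sup]
        refine ⟨hW' hw, (mem_perp_ln D).2 ?_⟩
        rw [D.symm]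
        exact hx w hw
      · intro y hy
        rcases mem_ln.1 hy with rfl | rfl
        · exact zero_mem _
        · exact (mem_perp_sup D).2 ⟨hx, (mem_perp_ln D).2 (D.alt _)⟩
    · refine lt_of_le_of_ne le_sup_left ?_
      intro h
      apply hxW
      rw [h]
      exact Submodule.mem_sup_right (self_mem_ln x)
  refine ⟨W, fun x => ⟨fun hx => hW' hx, fun hx => hperp hx⟩, ?_⟩
  have h1 := finrank_perp D W
  rw [le_antisymm hperp hW'] at h1
  have h2 := finrank_ge h256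
  omega

end Sp

variable {G V : Type*} [Group G] [AddCommGroup V] [Module (ZMod 2) V] {C : Ctx G V}

theorem bb_eq_q {x y : V} (hB : C.S.B x y = 0) : C.b x * C.b y = (q C.S (x + y) x 1 : C.L) := by
  have h3 : C.S.B x (x + y) = 0 := by rw [map_add, C.S.alt, hB, add_zero]
  rw [← τ_mul_τ_add C.S h3, show x + (x + y) = y from aac _ _]
  rfl

theorem not_bb (h1 : NQ C 1) {x y : V} (hx : x ≠ 0) (hy : y ≠ 0) (hxy : x ≠ y) (hB : C.S.B x y = 0) :
    C.t * (C.b x * C.b y) ∉ C.D := by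
  rw [bb_eq_q hB]
  refine h1 _ _ ?_ ?_ ?_
  · intro h
    exact hxy (eq_of_add _ _ h)
  · rw [C.S.symm, map_add, C.S.alt, hB, add_zero]
  · rw [mem_ln]
    rintro (h | h)
    · exact hx h
    · exact hy (add_eq_left.1 h.symm)

/-- the type of the elements `y` is `1` -/
theorem kappa_one (hL : PL C) (h1 : NQ C 1) {v : V} (hv : v ≠ 0) {y : G} (hy : IsY C v y) {κ : ZMod 2}
    {Q : V → ZMod 2} (ht : HasType C v y κ Q) : κ = 1 := by
  have hfinV := C.finV
  have h256 := C.cardV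
  rcases z2 κ with hκ | hκ
  · exfalso
    obtain ⟨w, hw, hwl⟩ := room C.S h256 (A := ln v) (A' := ln v) (by
      have := finrank_ln_le v; omega)
    rw [mem_perp_ln] at hw
    have hvw : C.S.B v w = 0 := by rw [C.S.symm]; exact hw
    have hw0 : w ≠ 0 := ne_zero_of_notMem hwl
    have hwv : w ≠ v := fun h => hwl (by rw [h]; exact self_mem_ln v)
    have h2 : y * (C.t * C.b w) * y⁻¹ ∈ C.D := C.D_conj (hL w hw0) y
    have h3 : y * (C.t * C.b w) * y⁻¹ = C.t * (C.b v * (y * C.b w * y)) := by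
      rw [hy.inv_eq, hy.mul_conj, hy.conj_t, mul_assoc]
    rw [h3, ht.form w hw, hκ, add_zero] at h2
    rcases z2 (Q w) with hQ | hQ
    · rw [hQ, zero_smul, q_zero, one_mul] at h2
      exact not_bb h1 hv hw0 hwv.symm hvw h2
    · rw [hQ, one_smul, q_mul_τ C.S hw] at h2
      refine not_bb h1 (y := w + v) hv ?_ ?_ ?_ h2
      · intro h
        exact hwv (eq_of_add _ _ h)
      · intro h
        exact hw0 (add_eq_right.1 h.symm)
      · rw [map_add, hvw, C.S.alt, add_zero]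
  · exact hκ

/-- the elements `y` inducing the translations of `t W` -/
theorem exists_E [Finite G] (hL : PL C) (h1 : NQ C 1) {W : Submodule (ZMod 2) V} (hW : Iso.Max C.S W) {v : V}
    (hvW : v ∈ W) (hv : v ≠ 0) : ∃ y, Transl.E C W v y := by
  have hfinV := C.finV
  have hex : ∃ g v, v ≠ 0 ∧ g * C.t * g⁻¹ = C.t * C.b v := by
    obtain ⟨g, hg⟩ := hL v hv
    exact ⟨g, v, hv, hg.symm⟩
  obtain ⟨y, hy⟩ := SpTwo.exists_y C hex hv
  obtain ⟨κ, Q, ht⟩ := hy.hasType hv
  obtain rfl := kappa_one hL h1 hv hy ht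
  have hWv : ∀ x ∈ W, C.S.B x v = 0 := fun x hx => hW.perp hx hvW
  have hQ0 : Q 0 = 0 := by
    have h := ht.quad 0 0 (B_zero C.S v) (B_zero C.S v)
    rw [add_zero, B_zero, mul_zero, add_zero, z2_add] at h
    exact h
  let f : W →+ ZMod 2 :=
    { toFun := fun w => Q w
      map_zero' := hQ0
      map_add' := fun a b => by
        change Q ((a : V) + b) = Q a + Q b
        rw [ht.quad a b (hWv a a.2) (hWv b b.2), hW.perp a.2 b.2, mul_zero, add_zero] }
  obtain ⟨p, hp⟩ := B_surj_on C.S W (f.toZModLinearMap 2)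
  have hp' : ∀ u ∈ W, C.S.B p u = Q u := fun u hu => hp ⟨u, hu⟩
  have hpv : C.S.B p v = 0 := by rw [hp' v hvW, ht.zero]
  have hy' := hy.mul_q hpv 0
  have ht' := ht.mul_q hy hpv 0
  refine ⟨_, ?_, hy'.sq⟩
  intro x hx
  have h3 := ht'.form x (hWv x hx)
  have h4 : Q x + C.S.B p x = 0 := by rw [hp' x hx, z2_add]
  rw [h4, zero_add, one_smul] at h3
  rw [hy'.inv_eq, hy'.mul_conj, hy'.conj_t, h3, mul_assoc]
  congr 1
  change ((C.S.τ v * (q C.S v x 0 * C.S.τ x) : C.L) : G) = C.S.τ (x + v)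
  rw [← q_mul_τ C.S (hWv x hx), ← mul_assoc, ← q_zero_one, q_mul C.S (B_zero C.S v) (hWv x hx), zero_add,
    add_zero, B_zero, add_zero]

/-- **Pattern `{L}`** -/
theorem patL [Finite G] (hL : PL C) (h0 : NQ C 0) (h1 : NQ C 1) : ∃ m : G →* ℤˣ, m C.t = -1 := by
  have hfinV := C.finV
  obtain ⟨W, hW, hr⟩ := exists_max C.S C.cardV
  refine LongMain.main hW hr (fun v hvW hv => exists_E hL h1 hW hvW hv) ?_
  intro e u he hu heu hB
  have h2 := h0 e u he hB (notMem_ln hu heu.symm)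
  have h3 : Transl.s C e u = (q C.S e u 0 : C.L) := by
    change ((Words.sg C.S e u : C.L) : G) = _
    rw [Words.sg, q, zero_smul, C.S.τ_zero, mul_one]
  rw [h3]
  exact h2

end Cfsg.Agent.OddHalf.SpTwoN.PatL

end
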