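import Cfsg.Agent.OddHalf.SpTwoN.Defs
import Cfsg.Agent.ClassicalGeometry.SympBasic
import Cfsg.Agent.OddHalf.SpTwo.LongOut
import Cfsg.Agent.OddHalf.D4.Sp2.Inst
import Cfsg.Agent.OddHalf.D7Out.FrGen
import Cfsg.Agent.OddHalf.D7Out.Front
import Cfsg.Agent.OddHalf.D7Out.Iso
import Cfsg.Agent.OddHalf.D7.Cases
import Cfsg.Agent.OddHalf.SpTwoN.CCRel
import Cfsg.Agent.OddHalf.SpTwoN.SemiGrow
import Cfsg.Agent.OddHalf.SpTwo.Syl
import Cfsg.Agent.OddHalf.SpTwoN.Words
import Cfsg.Agent.OddHalf.SpTwo.PatSRes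
import Cfsg.Agent.StdSpSix.TR
import Cfsg.Agent.OddHalf.SpTwoN.PatL

-- merged: Cfsg.Agent.OddHalf.SpTwoN.Model
section

/-!
# The concrete group `Sp_2m(2)` as a `SpData`
-/

set_option autoImplicit false

open Cfsg
open scoped Matrix

namespace Cfsg.Agent.OddHalf.SpTwoN.Model

open Cfsg.Agent.StandardComponent.SpTwo Cfsg.Agent.ClassicalGeometry.SympBasic
open Cfsg.Agent.OddHalf.SpTwoN

/-- `Sp_2m(2)` -/
abbrev X (m : ℕ) := Matrix.symplecticGroup (Fin m) (ZMod 2)

/-- the space -/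
abbrev W (m : ℕ) := Fin m ⊕ Fin m → ZMod 2

variable {m : ℕ}

/-- `Sp_2m(2)` with its natural module. -/
noncomputable def data (m : ℕ) : SpData (X m) (W m) where
  B := sympBilin m (ZMod 2)
  ρ :=
    { toFun := fun g => Matrix.mulVecLin (g : Matrix (Fin m ⊕ Fin m) (Fin m ⊕ Fin m) (ZMod 2))
      map_one' := Matrix.mulVecLin_one
      map_mul' := fun g h => Matrix.mulVecLin_mul _ _ }
  alt v := sympForm_self v
  nondeg v h := eq_zero_of_forall_sympForm_right h
  inv g u v := sympForm_mulVec g.2 u v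
  inj g h hgh := by
    apply Subtype.ext
    rw [← Matrix.mulVec_injective.eq_iff]
    funext v
    exact LinearMap.congr_fun hgh v
  τ w := transv w 1
  hτ w v := by
    change (transv w 1 : Matrix (Fin m ⊕ Fin m) (Fin m ⊕ Fin m) (ZMod 2)) *ᵥ v = v + sympForm m (ZMod 2) v w • w
    rw [coe_transv, sympTransvection_mulVec, one_mul]

theorem full (f : W m →ₗ[ZMod 2] W m) (hf : ∀ u v, (data m).B (f u) (f v) = (data m).B u v) :
    ∃ x, (data m).ρ x = f := by
  refine ⟨⟨LinearMap.toMatrix' f, mem_symplecticGroup_iff.2 fun u v => ?_⟩, LinearMap.ext fun v => ?_⟩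
  · rw [LinearMap.toMatrix'_mulVec, LinearMap.toMatrix'_mulVec]
    exact hf u v
  · change LinearMap.toMatrix' f *ᵥ v = f v
    rw [LinearMap.toMatrix'_mulVec]

theorem card_V : Nat.card (W m) = 2 ^ (2 * m) := by
  rw [Nat.card_eq_fintype_card, Fintype.card_fun, ZMod.card, Fintype.card_sum, Fintype.card_fin, two_mul]

theorem card_V_ge (hm : 4 ≤ m) : 256 ≤ Nat.card (W m) := by
  rw [card_V]
  calc 256 = 2 ^ 8 := by norm_num
    _ ≤ 2 ^ (2 * m) := Nat.pow_le_pow_right (by norm_num) (by omega)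

end Cfsg.Agent.OddHalf.SpTwoN.Model

end

-- merged: Cfsg.Agent.OddHalf.SpTwoN.OfStd
section

/-!
# From a standard subgroup `Sp_2n(2)` to the context `Ctx`

`exists_ctx`: `G` perfect, `t`, `q`, `K` as in the starting position (`Front.FE.Start`), `K` the full symplectic group over
`F₂` of dimension at least 8, all automorphisms of `K` inner. Then `C_G(t) = ⟨t⟩ × K` (`Ctx`) and for a Sylow 2-subgroup `P`
of `K`, stabilising the flag `⟨v⟩ < ⟨v, w⟩`, some `n` normalises `⟨t⟩ × P` and `n t n⁻¹ = t z`, `z` one of `b_v`, `s_{v,w}`,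
`b_v s_{v,w}`.
-/

set_option autoImplicit false

namespace Cfsg.Agent.OddHalf.SpTwoN.OfStd

open Subgroup Cfsg.Agent.StandardComponent.SpTwo Cfsg.Agent.OddHalf Cfsg.Agent.OddHalf.SpTwo
open Cfsg.Agent.OddHalf.SpTwoN

section

variable {G : Type*} [Group G] {K : Subgroup G} {t r₀ : G}

/-- `C(t) = R × K` -/
theorem exists_dec (S : Front.FE.Start0 K t r₀) (inner : ∀ α : MulAut K, ∃ x, α = MulAut.conj x) {c : G}
    (hc : c * t = t * c) : ∃ r ∈ zpowers r₀, ∃ k ∈ K, c = r * k := by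
  obtain ⟨x, hx⟩ := inner (D7Out.FrGen.cjK (S.nK c hc))
  have hr : c * (x : G)⁻¹ ∈ zpowers r₀ := by
    apply S.cK
    · have h1 := S.Kt x x.2
      have h2 : (x : G)⁻¹ * t = t * (x : G)⁻¹ := by
        rw [inv_mul_eq_iff_eq_mul, ← mul_assoc, h1, mul_inv_cancel_right]
      rw [mul_assoc, h2, ← mul_assoc, hc, mul_assoc]
    · intro k hk
      have h1 : c * k * c⁻¹ = x * k * (x : G)⁻¹ :=
        congrArg Subtype.val (DFunLike.congr_fun hx (⟨k, hk⟩ : K))
      have h2 : ((x : G)⁻¹ * k * x) ∈ K := K.mul_mem (K.mul_mem (K.inv_mem x.2) hk) x.2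
      have h3 : c * ((x : G)⁻¹ * k * x) * c⁻¹ = x * ((x : G)⁻¹ * k * x) * (x : G)⁻¹ :=
        congrArg Subtype.val (DFunLike.congr_fun hx (⟨_, h2⟩ : K))
      calc k * (c * (x : G)⁻¹) = x * ((x : G)⁻¹ * k * x) * (x : G)⁻¹ * c * (x : G)⁻¹ := by group
        _ = c * ((x : G)⁻¹ * k * x) * c⁻¹ * c * (x : G)⁻¹ := by rw [h3]
        _ = c * (x : G)⁻¹ * k := by group
  exact ⟨_, hr, x, x.2, by group⟩

theorem t_notMem (S : Front.FE.Start K t r₀) : t ∉ K := fun h => S.t1 (S.cen t h fun y hy => S.Kt y hy)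

theorem K_inf_R (S : Front.FE.Start K t r₀) {x : G} (hx : x ∈ K) (hr : x ∈ zpowers r₀) : x = 1 :=
  S.cen x hx fun y hy => S.QK x hr y hy

/-- the commutator of two elements of `C(t)` lies in `K` -/
theorem comm_mem (S : Front.FE.Start0 K t r₀) (inner : ∀ α : MulAut K, ∃ x, α = MulAut.conj x) {a b : G}
    (ha : a * t = t * a) (hb : b * t = t * b) : a * b * a⁻¹ * b⁻¹ ∈ K := by
  obtain ⟨r, hr, k, hk, rfl⟩ := exists_dec S inner ha
  obtain ⟨r', hr', k', hk', rfl⟩ := exists_dec S inner hb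
  have h1 : k' * r = r * k' := S.QK r hr k' hk'
  have h2 : k * r' = r' * k := S.QK r' hr' k hk
  have h3 : r * r' = r' * r := by
    obtain ⟨i, rfl⟩ := mem_zpowers_iff.1 hr
    obtain ⟨j, rfl⟩ := mem_zpowers_iff.1 hr'
    rw [← zpow_add, ← zpow_add, add_comm]
  have e : r * k * (r' * k') * (r * k)⁻¹ * (r' * k')⁻¹ = k * k' * k⁻¹ * k'⁻¹ := by
    have e1 : r * k * (r' * k') = r * r' * (k * k') := by
      calc r * k * (r' * k') = r * (k * r') * k' := by group
        _ = _ := by rw [h2]; group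
    have e2 : (r * k)⁻¹ * (r' * k')⁻¹ = (k' * k)⁻¹ * (r * r')⁻¹ := by
      calc (r * k)⁻¹ * (r' * k')⁻¹ = (r' * (k' * r) * k)⁻¹ := by group
        _ = ((r' * r) * (k' * k))⁻¹ := by rw [h1]; group
        _ = _ := by rw [← h3]; group
    have h4 : ∀ y ∈ K, y * (r * r') = r * r' * y := fun y hy => by
      rw [← mul_assoc, S.QK r hr y hy, mul_assoc, S.QK r' hr' y hy, ← mul_assoc]
    calc r * k * (r' * k') * (r * k)⁻¹ * (r' * k')⁻¹ = r * k * (r' * k') * ((r * k)⁻¹ * (r' * k')⁻¹) := by group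
      _ = r * r' * (k * k' * (k' * k)⁻¹) * (r * r')⁻¹ := by rw [e1, e2]; group
      _ = k * k' * (k' * k)⁻¹ := by
        rw [← h4 _ (K.mul_mem (K.mul_mem hk hk') (K.inv_mem (K.mul_mem hk' hk)))]; group
      _ = _ := by group
  rw [e]
  exact K.mul_mem (K.mul_mem (K.mul_mem hk hk') (K.inv_mem hk)) (K.inv_mem hk')

/-- `t` is not conjugate to an element of `[P, P]` centralised by `P` -/
theorem not_conj (S : Front.FE.Start K t r₀) (inner : ∀ α : MulAut K, ∃ x, α = MulAut.conj x) {P : Subgroup G} {g : G}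
    (h1 : g * t * g⁻¹ ∈ ⁅P, P⁆) (h2 : ∀ x ∈ P, g * t * g⁻¹ * x = x * (g * t * g⁻¹)) : False := by
  apply t_notMem S
  have hle : ⁅P, P⁆ ≤ K.map (MulAut.conj g).toMonoidHom := by
    rw [commutator_le]
    intro a ha b hb
    have key : ∀ x ∈ P, g⁻¹ * x * g * t = t * (g⁻¹ * x * g) := by
      intro x hx
      calc g⁻¹ * x * g * t = g⁻¹ * (x * (g * t * g⁻¹)) * g := by group
        _ = g⁻¹ * (g * t * g⁻¹ * x) * g := by rw [h2 x hx]
        _ = _ := by group
    refine ⟨_, comm_mem S.toStart0 inner (key a ha) (key b hb), ?_⟩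
    change g * (g⁻¹ * a * g * (g⁻¹ * b * g) * (g⁻¹ * a * g)⁻¹ * (g⁻¹ * b * g)⁻¹) * g⁻¹ = a * b * a⁻¹ * b⁻¹
    group
  obtain ⟨x, hx, hxt⟩ := hle h1
  have hxt' : g * x * g⁻¹ = g * t * g⁻¹ := hxt
  rw [← mul_left_cancel (mul_right_cancel hxt')]
  exact hx

end

section

variable {G V : Type*} [Group G] [AddCommGroup V] [Module (ZMod 2) V] {K : Subgroup G} {t r₀ : G}

/-- **The context**: `C_G(t) = ⟨t⟩ × K` and an element of `N(T)` moving `t`. -/
theorem exists_ctx [Finite G] [Finite V] (hG : commutator G = ⊤) (S : Front.FE.Start K t r₀) (D : SpData K V)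
    (full : ∀ f : V →ₗ[ZMod 2] V, (∀ u v, D.B (f u) (f v) = D.B u v) → ∃ x, D.ρ x = f)
    (h256 : 256 ≤ Nat.card V) (inner : ∀ α : MulAut K, ∃ x, α = MulAut.conj x) :
    ∃ C : Ctx G V, ∃ (P : Sylow 2 C.L) (v w : V) (f e : ZMod 2) (n : G), v ≠ 0 ∧ C.S.B v w = 0 ∧ w ∉ ln v ∧
      (P : Subgroup C.L) ≤ PU C.S (ln v) ∧ (P : Subgroup C.L) ≤ PU C.S (pl v w) ∧ (f ≠ 0 ∨ e ≠ 0) ∧
      (TX C (P : Subgroup C.L)).map (MulAut.conj n).toMonoidHom = TX C (P : Subgroup C.L) ∧
      n * C.t * n⁻¹ = C.t * (q C.S v (f • w) e : C.L) := by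
  classical
  have : Fact (Nat.Prime 2) := ⟨Nat.prime_two⟩
  obtain ⟨P⟩ : Nonempty (Sylow 2 K) := inferInstance
  obtain ⟨v, w, hv, hvw, hw, hP1, hP2⟩ := exists_flag D h256 P
  have hQ1 : QU D (ln v) ≤ P := QU_le_of_sylow D P (ln_ti D v) hP1
  have hQ2 : QU D (pl v w) ≤ P := QU_le_of_sylow D P (pl_ti D hvw) hP2
  have hcen : ∀ z : K, (∀ s ∈ (P : Subgroup K), z * s = s * z) → ∃ f e : ZMod 2, z = q D v (f • w) e :=
    fun z hz => of_commute_S D h256 hv hvw hw hQ1 hQ2 hz
  obtain ⟨U, hUdef⟩ : ∃ U : Subgroup G, U = (P : Subgroup K).map K.subtype := ⟨_, rfl⟩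
  have memU : ∀ {x : G}, x ∈ U ↔ ∃ hx : x ∈ K, (⟨x, hx⟩ : K) ∈ (P : Subgroup K) := by
    intro x
    rw [hUdef]
    exact D7Out.FrGen.mem_map
  have hUp : IsPGroup 2 U := by rw [hUdef]; exact P.isPGroup'.map _
  have hUK : U ≤ K := fun x hx => (memU.1 hx).1
  have hUm : ∀ Q : Subgroup G, IsPGroup 2 Q → U ≤ Q → Q ≤ K → Q ≤ U := by
    intro Q hQ hle hQK
    have h1 : IsPGroup 2 (Q.subgroupOf K) := hQ.comap_of_injective K.subtype K.subtype_injective
    have h2 := P.is_maximal' h1 (fun x hx => by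
      rw [mem_subgroupOf]
      exact hle (memU.2 ⟨x.2, hx⟩))
    intro x hx
    refine memU.2 ⟨hQK hx, ?_⟩
    have h3 : (⟨x, hQK hx⟩ : K) ∈ Q.subgroupOf K := hx
    rw [h2] at h3
    exact h3
  -- the centre of `U`
  have hcU : ∀ z : G, ∀ hz : z ∈ K, (∀ u ∈ U, z * u = u * z) → ∃ f e : ZMod 2, (⟨z, hz⟩ : K) = q D v (f • w) e := by
    intro z hz h
    apply hcen
    intro s hs
    exact Subtype.ext (h s (memU.2 ⟨s.2, hs⟩))
  have hcom : ∀ z : G, z ∈ K → (∀ u ∈ U, z * u = u * z) → z ∈ ⁅U, U⁆ := by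
    intro z hz h
    obtain ⟨f, e, hfe⟩ := hcU z hz h
    have h1 : (⟨z, hz⟩ : K) ∈ ⁅(P : Subgroup K), (P : Subgroup K)⁆ := by
      rw [hfe]
      exact mem_commutator D h256 hv hvw hw hQ1 hQ2 f e
    rw [hUdef, ← map_commutator]
    exact ⟨_, h1, rfl⟩
  have hsq : ∀ z : G, z ∈ K → (∀ u ∈ U, z * u = u * z) → z * z = 1 := by
    intro z hz h
    obtain ⟨f, e, hfe⟩ := hcU z hz h
    have h1 : D.B (f • w) v = 0 := by
      rw [D.symm, map_smul, hvw, smul_zero]
    have h2 := q_sq D h1 e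
    rw [← hfe] at h2
    exact congrArg Subtype.val h2
  obtain ⟨T, pT, vT, tc, max, hTK⟩ := D7Out.FrGen.exists_T S.toStart0 hUp hUK hUm
  have hRT : zpowers r₀ ≤ T := zpowers_le.2 vT
  have memTK : ∀ {x : G}, x ∈ T → x ∈ K → x ∈ U := fun hx hK => by
    rw [← hTK]
    exact ⟨hx, hK⟩
  have hUT : U ≤ T := by
    rw [← hTK]
    exact inf_le_left
  have hdec : ∀ x ∈ T, ∃ r ∈ zpowers r₀, ∃ k ∈ U, x = r * k := by
    intro x hx
    obtain ⟨r, hr, k, hk, rfl⟩ := exists_dec S.toStart0 inner (tc x hx)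
    refine ⟨r, hr, k, memTK ?_ hk, rfl⟩
    have h1 := T.mul_mem (T.inv_mem (hRT hr)) hx
    rwa [inv_mul_cancel_left] at h1
  have hnotz : ∀ g : G, g * t * g⁻¹ ∈ K → (∀ u ∈ U, g * t * g⁻¹ * u = u * (g * t * g⁻¹)) → False := by
    intro g hg hc
    exact not_conj S inner (hcom _ hg hc) hc
  -- the isolated case
  have hIso : ¬ D7Out.Defs.Iso t T := by
    intro hiso
    have hI : D7Out.Iso.Isol t r₀ K T :=
      { t1 := S.t1
        tt := S.tt
        tv := S.tQ
        pv := S.pQ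
        vn := by
          intro m hm
          apply S.cK
          · have h1 := S.Qt r₀ (mem_zpowers r₀)
            have h2 : m⁻¹ * t = t * m⁻¹ := by
              rw [inv_mul_eq_iff_eq_mul, ← mul_assoc, hm, mul_inv_cancel_right]
            calc m * r₀ * m⁻¹ * t = m * r₀ * (m⁻¹ * t) := by group
              _ = m * (r₀ * t) * m⁻¹ := by rw [h2]; group
              _ = m * t * r₀ * m⁻¹ := by rw [h1]; group
              _ = t * (m * r₀ * m⁻¹) := by rw [hm]; group
          · intro k hk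
            have hmN := S.nK m hm
            have h1 : m⁻¹ * k * m ∈ K := by
              apply (mem_normalizer_iff.1 hmN (m⁻¹ * k * m)).2
              have e : m * (m⁻¹ * k * m) * m⁻¹ = k := by group
              rw [e]; exact hk
            have h2 := S.qK _ h1
            calc k * (m * r₀ * m⁻¹) = m * (m⁻¹ * k * m * r₀) * m⁻¹ := by group
              _ = m * (r₀ * (m⁻¹ * k * m)) * m⁻¹ := by rw [h2]
              _ = m * r₀ * m⁻¹ * k := by group
        kn := fun m hm x hx => (mem_normalizer_iff.1 (S.nK m hm) x).1 hx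
        kv := S.qK
        inf := fun x hx hr => K_inf_R S hx hr
        pT := pT
        vT := vT
        tc := tc
        max := max
        t1s := by
          intro x hx _
          obtain ⟨r, hr, k, hk, rfl⟩ := hdec x hx
          exact ⟨r, hr, k, hUK hk, rfl⟩
        notz := by
          intro g _ hg hc
          exact hnotz g hg fun u hu => hc u (hUT hu) (hUK hu)
        iso := hiso }
    refine D7Out.Iso.Isol.false_of_cyc hI hG (one_mem T) ?_
    intro x hx
    obtain ⟨r, hr, k, hk, rfl⟩ := hdec x hx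
    obtain ⟨j, rfl⟩ := mem_zpowers_iff.1 hr
    exact ⟨0, j, k, hUT hk, hUK hk, by rw [zpow_zero, one_mul]⟩
  -- the frame
  have hFr : D7Out.Defs.Fr t r₀ K U (U ⊓ centralizer (U : Set G)) T :=
    { tt := S.tt
      t1 := S.t1
      pR := S.pQ
      tR := S.tQ
      nK := S.nK
      vK := S.qK
      cK := S.cK
      KR := fun x hx hr => K_inf_R S hx hr
      pT := pT
      vT := vT
      tc := tc
      max := max
      U_eq := hTK.symm
      ZU := inf_le_left
      Zc := fun z hz u hu => mem_centralizer_iff.1 hz.2 u hu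
      Zsq := fun z hz => hsq z (hUK hz.1) fun u hu => (mem_centralizer_iff.1 hz.2 u hu).symm
      Z1 := by
        intro h0
        have h1 : D.τ v ∈ QU D (ln v) := τ_mem_QU D (ln_ti D v) (self_mem_ln v)
        have h2 : ∀ s ∈ (P : Subgroup K), D.τ v * s = s * D.τ v := by
          intro s hs
          have h3 := (mem_PU_ln D hv).1 (hP1 hs)
          exact ((commute_τ_iff D).2 h3).symm
        have h4 : ((D.τ v : K) : G) ∈ U ⊓ centralizer (U : Set G) := by
          refine ⟨memU.2 ⟨(D.τ v).2, hQ1 h1⟩, mem_centralizer_iff.2 fun u hu => ?_⟩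
          obtain ⟨huK, huP⟩ := memU.1 hu
          exact (congrArg Subtype.val (h2 ⟨u, huK⟩ huP)).symm
        rw [h0, mem_bot] at h4
        have h5 : D.τ v = 1 := Subtype.ext h4
        exact hv (by simpa using D.τ_injective (h5.trans D.τ_zero.symm))
      cU := by
        intro x hx hxU
        obtain ⟨r, hr, k, hk, rfl⟩ := hdec x hx
        refine ⟨r, hr, k, ⟨hk, mem_centralizer_iff.2 fun u hu => ?_⟩, rfl⟩
        have h1 := hxU u hu
        have h2 := S.QK r hr u (hUK hu)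
        have h3 : r * (k * u) = r * (u * k) := by
          calc r * (k * u) = r * k * u := by group
            _ = u * r * k := by rw [h1]; group
            _ = r * (u * k) := by rw [h2]; group
        exact (mul_left_cancel h3).symm
      nconj := by
        intro z hz g hg
        apply hnotz g
        · rw [hg]; exact hUK hz.1
        · intro u hu
          rw [hg]
          exact (mem_centralizer_iff.1 hz.2 u hu).symm }
  obtain ⟨⟨n, hnN, z, hz, hz1, -, hnt⟩, hR⟩ := D7Out.Front.exists_swap hFr hIso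
  -- the context
  have hcent : ∀ g : G, Commute g t ↔ g ∈ K ∨ t * g ∈ K := by
    intro g
    constructor
    · intro hg
      obtain ⟨r, hr, k, hk, rfl⟩ := exists_dec S.toStart0 inner hg
      rcases hR r hr with rfl | rfl
      · left; rwa [one_mul]
      · right; rw [← mul_assoc, S.tt, one_mul]; exact hk
    · rintro (hg | hg)
      · exact S.Kt g hg
      · have h1 := S.Kt _ hg
        have h2 : t * (g * t) = t * (t * g) := by
          rw [← mul_assoc]; exact h1
        exact mul_left_cancel h2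
  let C : Ctx G V :=
    { t := t
      tt := S.tt
      L := K
      S := D
      full := full
      finV := inferInstance
      cardV := h256
      cent := hcent
      tL := t_notMem S }
  obtain ⟨f, e, hfe⟩ := hcU z (hUK hz.1) fun u hu => (mem_centralizer_iff.1 hz.2 u hu).symm
  have hTX : TX C (P : Subgroup C.L) = T := by
    ext x
    rw [mem_TX]
    constructor
    · rintro ⟨y, hy, hxy⟩
      have h1 : (y : G) ∈ T := hUT (memU.2 ⟨y.2, hy⟩)
      rcases hxy with rfl | rfl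
      · exact h1
      · exact T.mul_mem (hRT S.tQ) h1
    · intro hx
      obtain ⟨r, hr, k, hk, rfl⟩ := hdec x hx
      obtain ⟨hkK, hkP⟩ := memU.1 hk
      refine ⟨⟨k, hkK⟩, hkP, ?_⟩
      rcases hR r hr with rfl | rfl
      · left; exact one_mul k
      · right; rfl
  refine ⟨C, P, v, w, f, e, n, hv, hvw, hw, hP1, hP2, ?_, ?_, ?_⟩
  · by_contra hfe0
    push Not at hfe0
    apply hz1
    have h1 : (⟨z, hUK hz.1⟩ : K) = 1 := by
      rw [hfe, hfe0.1, hfe0.2, zero_smul, q_zero]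
    exact congrArg Subtype.val h1
  · rw [hTX]
    exact (Front.FE.mem_normalizer_iff_map).1 hnN
  · have h1 : (((q D v (f • w) e : K)) : G) = z := congrArg Subtype.val hfe.symm
    change n * t * n⁻¹ = t * ((q D v (f • w) e : K) : G)
    rw [h1]
    exact hnt

end

/-! ### From the interface -/

section

universe u

variable {G : Type u} [Group G]

/-- The reduction for `K = Sp_2n(2)`. -/
theorem exists_ctx_of_std (C₀ : Iface.Ctx G) {K : Subgroup G} (S : Iface.Std G K) (hcyc : Iface.Cyc K) {m : ℕ}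
    (hm : 4 ≤ m) (e : K ≃* Model.X m) :
    ∃ C : Ctx G (Model.W m), ∃ (P : Sylow 2 C.L) (v w : Model.W m) (f e : ZMod 2) (n : G), v ≠ 0 ∧ C.S.B v w = 0 ∧
      w ∉ ln v ∧ (P : Subgroup C.L) ≤ PU C.S (ln v) ∧ (P : Subgroup C.L) ≤ PU C.S (pl v w) ∧ (f ≠ 0 ∨ e ≠ 0) ∧
      (TX C (P : Subgroup C.L)).map (MulAut.conj n).toMonoidHom = TX C (P : Subgroup C.L) ∧
      n * C.t * n⁻¹ = C.t * (q C.S v (f • w) e : C.L) := by
  have := C₀.fin
  have hcen : center K = ⊥ := by
    have h1 := D4.Sp2.Inst.center_eq_bot (m := m) (by omega)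
    rw [eq_bot_iff] at h1 ⊢
    intro x hx
    have h2 : e x ∈ center (Model.X m) := by
      rw [mem_center_iff] at hx ⊢
      intro g
      have h3 := congrArg e (hx (e.symm g))
      rwa [map_mul, map_mul, e.apply_symm_apply] at h3
    have h3 := h1 h2
    rw [mem_bot] at h3 ⊢
    exact e.injective (h3.trans (map_one e).symm)
  obtain ⟨t, r₀, hst⟩ := Front.FE.exists_start C₀ S hcyc hcen
  refine exists_ctx (Front.FE.commutator_eq_top C₀) hst (mapData (Model.data m) e.symm) ?_ (Model.card_V_ge hm)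
    (D4.Sp2.Inst.inner_of_equiv (by omega) e)
  intro f hf
  obtain ⟨x, hx⟩ := Model.full f hf
  refine ⟨e.symm x, ?_⟩
  change (Model.data m).ρ (e.symm.symm (e.symm x)) = f
  rw [MulEquiv.symm_apply_apply, hx]

theorem exists_ctx_of_psp (C₀ : Iface.Ctx G) {K : Subgroup G} (S : Iface.Std G K) (hcyc : Iface.Cyc K) {m : ℕ}
    (hm : 4 ≤ m) {F : Type*} [Field F] [Fintype F] (hF : Fintype.card F = 2) (e : K ≃* PSp m F) :
    ∃ C : Ctx G (Model.W m), ∃ (P : Sylow 2 C.L) (v w : Model.W m) (f e : ZMod 2) (n : G), v ≠ 0 ∧ C.S.B v w = 0 ∧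
      w ∉ ln v ∧ (P : Subgroup C.L) ≤ PU C.S (ln v) ∧ (P : Subgroup C.L) ≤ PU C.S (pl v w) ∧ (f ≠ 0 ∨ e ≠ 0) ∧
      (TX C (P : Subgroup C.L)).map (MulAut.conj n).toMonoidHom = TX C (P : Subgroup C.L) ∧
      n * C.t * n⁻¹ = C.t * (q C.S v (f • w) e : C.L) := by
  obtain ⟨e'⟩ := D4.Sp2.Inst.exists_equiv (m := m) (by omega) hF
  exact exists_ctx_of_std C₀ S hcyc hm (e.trans e')

end

end Cfsg.Agent.OddHalf.SpTwoN.OfStd

end

-- merged: Cfsg.Agent.OddHalf.SpTwoN.CCNorm
section

/-!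
# `y w` normalises the group generated by the `q u x`, `r u x`
-/

set_option autoImplicit false

namespace Cfsg.Agent.OddHalf.SpTwoN

open Subgroup
open Cfsg.Agent.StandardComponent.SpTwo

variable {G V : Type*} [Group G] [AddCommGroup V] [Module (ZMod 2) V]

namespace YData

variable {C : Ctx G V} {y : V → G} (Y : YData C y)
include Y

/-- All `r u x` commute. -/
theorem r_comm {u v w : V} (hu : u ≠ 0) (hv : C.S.B u v = 0) (hw : C.S.B u w = 0) :
    Commute (r y u v) (r y u w) := by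
  rcases z2 (C.S.B v w) with h | h
  · exact (Y.r_comm_y hw h).mul_right (Y.r_comm_y (by rw [C.B_add_right, C.B_self, hw, add_zero])
      (by rw [C.B_add_right, h, C.symm v u, hv, add_zero]))
  · exact (Y.hyp hu hv hw h).1

/-- The commutator of `r u v` and `y w`, `B v w = 1`. -/
theorem comm_r_y {u v w : V} (hu : u ≠ 0) (hv : C.S.B u v = 0) (hw : C.S.B u w = 0) (hvw : C.S.B v w = 1)
    (R : Subgroup G) (h1 : r y u w ∈ R) (h2 : C.q u w ∈ R) (h3 : y u ∈ R) (h4 : C.b u ∈ R) :
    r y u v * y w * r y u v * y w ∈ R := by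
  have huvw : C.S.B u (v + w) = 0 := by rw [C.B_add_right, hv, hw, add_zero]
  have hvu : C.S.B v u = 0 := by rw [C.symm]; exact hv
  have hwu : C.S.B w u = 0 := by rw [C.symm]; exact hw
  have hwv : C.S.B w v = 1 := by rw [C.symm]; exact hvw
  set a := r y u v with ha
  set b := r y u w with hb
  set d := r y u (v + w) with hd
  set s := y w with hs
  have aa' : a * a = 1 := Y.r_sq hv
  have bb' : b * b = 1 := Y.r_sq hw
  have ss' : s * s = 1 := Y.sq w
  have cab : Commute a b := Y.r_comm hu hv hw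
  have cad : Commute a d := Y.r_comm hu hv huvw
  have cbd : Commute b d := Y.r_comm hu hw huvw
  have csb : Commute s b := (Y.r_comm_y hw (C.B_self w)).symm
  have csyu : Commute s (y u) := Y.y_comm hwu
  have csbw : Commute s (C.b w) := Y.y_comm_b (C.B_self w)
  have csbu : Commute s (C.b u) := Y.y_comm_b hwu
  have cab_u : Commute a (C.b u) := Y.r_comm_b (C.B_self u) hvu
  have cbb_u : Commute b (C.b u) := Y.r_comm_b (C.B_self u) hwu
  have cay_u : Commute a (y u) := Y.r_comm_y (C.B_self u) hvu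
  have cby_u : Commute b (y u) := Y.r_comm_y (C.B_self u) hwu
  have cb_bw : Commute b (C.b w) := Y.r_comm_b hw (C.B_self w)
  have qvi : (C.q u v)⁻¹ = C.q u v := C.q_inv hv
  obtain ⟨-, hF⟩ := Y.hyp hu hv hw hvw
  rw [← ha, ← hb, ← hd] at hF
  -- (A1)
  have A1 : s * C.q u v * s = b * C.q u v := by
    have g := Y.equiv (C.qL u v) w
    rw [C.rho_q hv, hwu, zero_smul, add_zero, hwv, one_smul, C.coe_qL, qvi] at g
    calc s * C.q u v * s = s * (C.q u v * s * C.q u v) * (C.q u v)⁻¹ := by group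
      _ = s * y (w + u) * C.q u v := by rw [qvi, ← g]
      _ = b * C.q u v := by rw [hb, r]
  -- (A2)
  set F := a * b * d with hFd
  have cF : ∀ g, Commute g (C.b u) → Commute g F := by
    intro g hg
    rcases hF with h | h <;> rw [h]
    · exact Commute.one_right g
    · exact hg
  have hadF : a * d = F * b := by
    calc a * d = a * (b * b) * d := by rw [bb', mul_one]
      _ = a * b * (b * d) := by group
      _ = a * b * (d * b) := by rw [cbd.eq]
      _ = F * b := by rw [hFd]; group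
  have A2 : a * C.b w * a = F * b * C.b w := by
    have g : C.b w * a * C.b w = d := by
      rw [ha, Y.r_conj_b hw, hvw, one_smul]
    calc a * C.b w * a = a * (C.b w * a * C.b w) * (C.b w)⁻¹ := by group
      _ = a * d * C.b w := by rw [g, C.b_inv]
      _ = _ := by rw [hadF]
  -- conjugate of `t` under `c`
  set c := a * s * a * s with hc
  have hci : c⁻¹ = s * a * s * a := invol_inv aa' ss'
  have ata : a * C.t * a = C.t * C.q u v := Y.r_conj_t hv
  have sts : s * C.t * s = C.t * C.b w := Y.y_conj_t w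
  have hct : c * C.t * c⁻¹ = C.t * C.q u w * F := by
    have e1 : c * C.t * c⁻¹ = a * (s * (a * (s * C.t * s) * a) * s) * a := by rw [hci, hc]; group
    have e2 : a * (s * C.t * s) * a = C.t * C.q u v * (F * b * C.b w) := by
      rw [sts, ← A2, ← ata]
      calc a * (C.t * C.b w) * a = a * C.t * 1 * C.b w * a := by group
        _ = a * C.t * (a * a) * C.b w * a := by rw [aa']
        _ = _ := by group
    have e3 : s * (C.t * C.q u v * (F * b * C.b w)) * s = C.t * C.q u (v + w) * F := by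
      have csF : Commute s F := cF s csbu
      have cbF : Commute b F := cF b cbb_u
      have cqb : Commute (C.q u v) b := Y.q_comm_r hv hw
      have cbwF : Commute (C.b w) F := cF _ (C.b_comm hwu)
      have g : C.b w * C.q u v * C.b w = C.q u (v + w) := by
        have g := C.q_conj (C.S.τ w) u v
        rw [C.S.hτ, C.S.hτ, hw, zero_smul, add_zero, hvw, one_smul] at g
        have e : ((C.S.τ w : C.L) : G)⁻¹ = C.b w := C.b_inv w
        rwa [e] at g
      have hs' : ∀ p q : G, s * (p * q) * s = (s * p * s) * (s * q * s) := by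
        intro p q
        calc s * (p * q) * s = s * p * 1 * q * s := by group
          _ = s * p * (s * s) * q * s := by rw [ss']
          _ = _ := by group
      rw [hs', hs', sts, A1, hs', hs', commute_inv_of_conj ss' csF.symm, commute_inv_of_conj ss' csb.symm,
        commute_inv_of_conj ss' csbw.symm]
      calc C.t * C.b w * (b * C.q u v) * (F * b * C.b w) =
          C.t * C.b w * (b * C.q u v) * ((F * b) * C.b w) := by group
        _ = C.t * C.b w * (C.q u v * b) * ((b * F) * C.b w) := by rw [← cqb.eq, ← cbF.eq]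
        _ = C.t * C.b w * C.q u v * (b * b) * F * C.b w := by group
        _ = C.t * C.b w * C.q u v * (F * C.b w) := by rw [bb']; group
        _ = C.t * C.b w * C.q u v * (C.b w * F) := by rw [cbwF.eq]
        _ = C.t * (C.b w * C.q u v * C.b w) * F := by group
        _ = _ := by rw [g]
    rw [e1, e2, e3]
    have caq : Commute a (C.q u (v + w)) := (Y.q_comm_r huvw hv).symm
    have caF : Commute a F := cF a cab_u
    calc a * (C.t * C.q u (v + w) * F) * a = a * C.t * C.q u (v + w) * (F * a) := by group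
      _ = a * C.t * C.q u (v + w) * (a * F) := by rw [caF.eq]
      _ = a * C.t * (C.q u (v + w) * a) * F := by group
      _ = a * C.t * (a * C.q u (v + w)) * F := by rw [caq.eq]
      _ = (a * C.t * a) * C.q u (v + w) * F := by group
      _ = C.t * (C.q u v * C.q u (v + w)) * F := by rw [ata]; group
      _ = C.t * C.q u w * F := by
        rw [← C.q_mul_one hv hw hvw, ← mul_assoc (C.q u v), C.q_sq hv, one_mul]
  -- the correcting element
  obtain ⟨p, hpR, hpp, hpa, hps, hpt, hpz⟩ : ∃ p ∈ R, p * p = 1 ∧ Commute p a ∧ Commute p s ∧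
      p * C.t * p = C.t * C.q u w * F ∧ ∀ z, C.S.B u z = 0 → C.S.B w z = 0 → Commute p (C.b z) := by
    rcases hF with h | h
    · refine ⟨b, h1, bb', cab.symm, csb.symm, ?_, fun z h5 h6 => Y.r_comm_b h5 h6⟩
      rw [h, mul_one]
      exact Y.r_conj_t hw
    · refine ⟨b * y u, R.mul_mem h1 h3, ?_, cab.symm.mul_left cay_u.symm, csb.symm.mul_left csyu.symm, ?_,
        fun z h5 h6 => (Y.r_comm_b h5 h6).mul_left (Y.y_comm_b h5)⟩
      · calc b * y u * (b * y u) = b * (y u * b) * y u := by group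
          _ = b * (b * y u) * y u := by rw [cby_u.eq]
          _ = (b * b) * (y u * y u) := by group
          _ = 1 := by rw [bb', Y.sq, one_mul]
      · calc b * y u * C.t * (b * y u) = b * (y u * C.t * (b * y u)) := by group
          _ = b * (y u * C.t * (y u * b)) := by rw [cby_u.eq]
          _ = b * (y u * C.t * y u) * b := by group
          _ = b * C.t * (C.b u * b) := by rw [Y.y_conj_t]; group
          _ = b * C.t * (b * C.b u) := by rw [cbb_u.eq]
          _ = (b * C.t * b) * C.b u := by group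
          _ = C.t * C.q u w * F := by rw [Y.r_conj_t hw, h]
  have hpc : Commute p c := ((hpa.mul_right hps).mul_right hpa).mul_right hps
  set c0 := p * c with hc0
  have hpi : p⁻¹ = p := inv_eq_of_mul_eq_one_left hpp
  have hc0t : c0 * C.t = C.t * c0 := by
    have e1 : c0 * C.t * c0⁻¹ = C.t := by
      calc c0 * C.t * c0⁻¹ = p * (c * C.t * c⁻¹) * p⁻¹ := by rw [hc0]; group
        _ = p * (p * C.t * p) * p := by rw [hct, hpt, hpi]
        _ = (p * p) * C.t * (p * p) := by group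
        _ = C.t := by rw [hpp, one_mul, mul_one]
    exact mul_inv_eq_iff_eq_mul.1 e1
  have hac0 : a * c0 * a = c0⁻¹ := by
    calc a * c0 * a = (a * p) * c * a := by rw [hc0]; group
      _ = (p * a) * c * a := by rw [hpa.eq]
      _ = p * (a * c * a) := by group
      _ = p * c⁻¹ := by rw [hc, invol_left aa' ss']
      _ = c⁻¹ * p⁻¹ := by rw [hpc.inv_right.eq, hpi]
      _ = c0⁻¹ := (mul_inv_rev p c).symm
  have hsc0 : s * c0 * s = c0⁻¹ := by
    calc s * c0 * s = (s * p) * c * s := by rw [hc0]; group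
      _ = (p * s) * c * s := by rw [hps.eq]
      _ = p * (s * c * s) := by group
      _ = p * c⁻¹ := by rw [hc, invol_right aa' ss']
      _ = c⁻¹ * p⁻¹ := by rw [hpc.inv_right.eq, hpi]
      _ = c0⁻¹ := (mul_inv_rev p c).symm
  have hta := tool aa' hc0t hac0
  have hts := tool ss' hc0t hsc0
  rw [ata] at hta
  rw [sts] at hts
  have hqv : Commute c0 (C.q u v) := by
    have h1 : Commute c0 (C.t * C.q u v) := hta
    have h2 : Commute c0 C.t := hc0t
    have h3 := h2.inv_right.mul_right h1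
    rwa [inv_mul_cancel_left] at h3
  have hbw : Commute c0 (C.b w) := by
    have h1 : Commute c0 (C.t * C.b w) := hts
    have h2 : Commute c0 C.t := hc0t
    have h3 := h2.inv_right.mul_right h1
    rwa [inv_mul_cancel_left] at h3
  have hz : ∀ z, C.S.B u z = 0 → C.S.B v z = 0 → C.S.B w z = 0 → Commute c0 (C.b z) := by
    intro z h5 h6 h7
    have h8 : Commute a (C.b z) := Y.r_comm_b h5 h6
    have h9 : Commute s (C.b z) := Y.y_comm_b h7
    exact (hpz z h5 h7).mul_left (((h8.mul_left h9).mul_left h8).mul_left h9)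
  have hbu : Commute c0 (C.b u) := hz u (C.B_self u) hvu hwu
  have hc0L : c0 ∈ C.L := by
    rcases (C.cent c0).1 hc0t with h | h
    · exact h
    · exfalso
      have htc : ∀ g ∈ C.L, Commute c0 g → Commute (C.t * c0) g := fun g h1 h2 =>
        (C.t_comm h1).symm.mul_left h2
      obtain ⟨k1, k2⟩ := C.coset_of_comm hu hv (k := ⟨C.t * c0, h⟩)
        (htc _ (C.b_mem u) hbu) (htc _ (C.q_mem u v) hqv)
      have k3 : C.S.ρ ⟨C.t * c0, h⟩ w = w := C.fix_of_comm (k := ⟨C.t * c0, h⟩) (htc _ (C.b_mem w) hbw)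
      have k4 : Commute (C.t * c0) a := Y.comm_r_of hv k1 k2
      have k5 : Commute (C.t * c0) s := Y.comm_L (k := ⟨C.t * c0, h⟩) k3
      have e0 : c0 = C.t * (C.t * c0) := by rw [← mul_assoc, C.tt, one_mul]
      have e1 : c0⁻¹ = C.t * C.q u v * (C.t * c0) := by
        rw [← hac0, ← ata]
        calc a * c0 * a = a * (C.t * (C.t * c0)) * a := by rw [← e0]
          _ = a * C.t * ((C.t * c0) * a) := by group
          _ = a * C.t * (a * (C.t * c0)) := by rw [k4.eq]
          _ = _ := by group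
      have e2 : c0⁻¹ = C.t * C.b w * (C.t * c0) := by
        rw [← hsc0, ← sts]
        calc s * c0 * s = s * (C.t * (C.t * c0)) * s := by rw [← e0]
          _ = s * C.t * ((C.t * c0) * s) := by group
          _ = s * C.t * (s * (C.t * c0)) := by rw [k5.eq]
          _ = _ := by group
      have e3 : C.q u v = C.b w := mul_left_cancel (mul_right_cancel (e1.symm.trans e2))
      have e4 : Commute (C.q u v) (C.b v) := q_comm_b hv (C.B_self v)
      rw [e3] at e4
      have e5 := C.b_commute_iff.1 e4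
      rw [hwv] at e5
      exact one_ne_zero e5
  obtain ⟨k1, k2⟩ := C.coset_of_comm hu hv (k := ⟨c0, hc0L⟩) hbu hqv
  have k3 : C.S.ρ ⟨c0, hc0L⟩ w = w := C.fix_of_comm (k := ⟨c0, hc0L⟩) hbw
  have k4 : ∀ z, C.S.B u z = 0 → C.S.B v z = 0 → C.S.B w z = 0 → C.S.ρ ⟨c0, hc0L⟩ z = z :=
    fun z h5 h6 h7 => C.fix_of_comm (k := ⟨c0, hc0L⟩) (hz z h5 h6 h7)
  -- vectors of `u^⊥`
  have hdec : ∀ z, C.S.B u z = 0 → C.S.B u (z + C.S.B w z • v + C.S.B v z • w) = 0 ∧
      C.S.B v (z + C.S.B w z • v + C.S.B v z • w) = 0 ∧ C.S.B w (z + C.S.B w z • v + C.S.B v z • w) = 0 := by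
    intro z hz
    refine ⟨?_, ?_, ?_⟩
    · rw [C.B_add_right, C.B_add_right, C.B_smul_right, C.B_smul_right, hz, hv, hw]; simp
    · rw [C.B_add_right, C.B_add_right, C.B_smul_right, C.B_smul_right, C.B_self, hvw]
      rcases z2 (C.S.B v z) with h | h <;> rw [h] <;> simp <;> decide
    · rw [C.B_add_right, C.B_add_right, C.B_smul_right, C.B_smul_right, C.B_self, hwv]
      rcases z2 (C.S.B w z) with h | h <;> rw [h] <;> simp <;> decide
  have hfin : ∀ k : C.L, C.S.ρ k v = v → C.S.ρ k w = w →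
      (∀ z, C.S.B u z = 0 → C.S.B v z = 0 → C.S.B w z = 0 → C.S.ρ k z = z) → (k : G) ∈ R := by
    intro k h5 h6 h7
    have h8 : (k : G) = 1 ∨ (k : G) = C.b u := by
      apply C.eq_one_or_b hu
      intro z hz
      obtain ⟨g1, g2, g3⟩ := hdec z hz
      have hz' := h7 _ g1 g2 g3
      rw [map_add, map_add, map_smul, map_smul, h5, h6] at hz'
      exact add_right_cancel (add_right_cancel hz')
    rcases h8 with h8 | h8 <;> rw [h8]
    · exact R.one_mem
    · exact h4
  have hc0R : c0 ∈ R := by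
    rcases k2 with k2 | k2
    · exact hfin ⟨c0, hc0L⟩ k2 k3 k4
    · have h5 : ((⟨c0, hc0L⟩ * C.qL u w : C.L) : G) ∈ R := by
        apply hfin
        · rw [C.S.ρ_mul, C.rho_q hw, hvu, zero_smul, add_zero, hvw, one_smul, map_add, k2, k1, add_assoc, aa,
            add_zero]
        · rw [C.S.ρ_mul, C.rho_q hw, hwu, zero_smul, add_zero, C.B_self, zero_smul, add_zero, k3]
        · intro z g1 g2 g3
          rw [C.S.ρ_mul, C.rho_q hw, C.symm z u, g1, zero_smul, add_zero, C.symm z w, g3, zero_smul, add_zero]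
          exact k4 z g1 g2 g3
      have h6 : c0 * C.q u w ∈ R := h5
      have h7 := R.mul_mem h6 (R.inv_mem h2)
      rwa [mul_inv_cancel_right] at h7
  have h5 : c = p * c0 := by rw [hc0, ← mul_assoc, hpp, one_mul]
  rw [h5]
  exact R.mul_mem hpR hc0R

end YData

end Cfsg.Agent.OddHalf.SpTwoN

end

-- merged: Cfsg.Agent.OddHalf.SpTwoN.CCEnd
section

/-!
# The end of the case (C, C)

`R W u = ⟨q u x, r u x : x ∈ W ∩ u^⊥⟩` is elementary abelian and good. Induction over non-degenerate subspaces `W`.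
-/

set_option autoImplicit false

namespace Cfsg.Agent.OddHalf.SpTwoN

open Subgroup
open Cfsg.Agent.StandardComponent.SpTwo
open Cfsg.Agent.OddHalf.SpTwoN.SemiGrow

variable {G V : Type*} [Group G] [AddCommGroup V] [Module (ZMod 2) V]

/-- The group generated by the `q u x`, `r u x`, `x ∈ W ∩ u^⊥`. -/
def RR (C : Ctx G V) (y : V → G) (W : Submodule (ZMod 2) V) (u : V) : Subgroup G :=
  closure {g | ∃ x ∈ W, C.S.B u x = 0 ∧ (g = C.q u x ∨ g = r y u x)}

/-- The group generated by the `b x`, `y x`, `x ∈ W`. -/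
def MM (C : Ctx G V) (y : V → G) (W : Submodule (ZMod 2) V) : Subgroup G :=
  closure {g | ∃ x ∈ W, g = C.b x ∨ g = y x}

/-- `W` is the orthogonal space of `E`. -/
structure Perp (C : Ctx G V) (W : Submodule (ZMod 2) V) (E : Set V) : Prop where
  mem_iff : ∀ x, x ∈ W ↔ ∀ z ∈ E, C.S.B z x = 0
  nondeg : ∀ x ∈ W, (∀ w ∈ W, C.S.B x w = 0) → x = 0

namespace Perp

variable {C : Ctx G V} {W : Submodule (ZMod 2) V} {E : Set V} (P : Perp C W E)
include P

theorem B_eq {x z : V} (hx : x ∈ W) (hz : z ∈ E) : C.S.B z x = 0 := (P.mem_iff x).1 hx z hz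

theorem B_eq' {x z : V} (hx : x ∈ W) (hz : z ∈ E) : C.S.B x z = 0 := by
  rw [C.symm]; exact P.B_eq hx hz

/-- An element of `L` fixing `E` moves vectors by elements of `W`. -/
theorem add_mem {k : C.L} (hk : ∀ z ∈ E, C.S.ρ k z = z) (x : V) : C.S.ρ k x + x ∈ W := by
  rw [P.mem_iff]
  intro z hz
  rw [C.B_add_right]
  have := C.S.inv k z x
  rw [hk z hz] at this
  rw [this, ← two_mul, show (2 : ZMod 2) = 0 from rfl, zero_mul]

theorem rho_mem {k : C.L} (hk : ∀ z ∈ E, C.S.ρ k z = z) {x : V} (hx : x ∈ W) : C.S.ρ k x ∈ W := by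
  have h := W.add_mem (P.add_mem hk x) hx
  rwa [add_assoc, aa, add_zero] at h

theorem exists_one {u : V} (hu : u ∈ W) (hu0 : u ≠ 0) : ∃ f ∈ W, C.S.B f u = 1 := by
  by_contra hn
  push Not at hn
  apply hu0
  apply P.nondeg u hu
  intro w hw
  rcases z2 (C.S.B w u) with h | h
  · rw [C.symm]; exact h
  · exact absurd h (hn w hw)

/-- An element of `L` which fixes `E`, `W ∩ u^⊥` and `f` is trivial. -/
theorem eq_one {u f : V} (hf : f ∈ W) (hfu : C.S.B f u = 1) {k : C.L} (hk : ∀ z ∈ E, C.S.ρ k z = z)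
    (hkx : ∀ x ∈ W, C.S.B u x = 0 → C.S.ρ k x = x) (hkf : C.S.ρ k f = f) : k = 1 := by
  apply C.S.ext_iff
  intro v
  rw [C.S.ρ_one]
  apply eq_of_add
  apply P.nondeg _ (P.add_mem hk v)
  intro w hw
  have h1 : ∀ x, C.S.ρ k x = x → C.S.B (C.S.ρ k v + v) x = 0 := by
    intro x hx
    rw [C.B_add_left]
    have := C.S.inv k v x
    rw [hx] at this
    rw [this, ← two_mul, show (2 : ZMod 2) = 0 from rfl, zero_mul]
  rcases z2 (C.S.B u w) with h | h
  · exact h1 w (hkx w hw h)
  · have h2 := h1 (w + f) (by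
      rw [map_add, hkf]
      have h3 := hkx (w + f) (W.add_mem hw hf) (by rw [C.B_add_right, h, C.symm, hfu]; decide)
      rw [map_add, hkf] at h3
      exact h3)
    rw [C.B_add_right, h1 f hkf, add_zero] at h2
    exact h2

end Perp

namespace YData

variable {C : Ctx G V} {y : V → G} (Y : YData C y) {W : Submodule (ZMod 2) V} {E : Set V}

theorem q_mem_RR {u x : V} (hx : x ∈ W) (h : C.S.B u x = 0) : C.q u x ∈ RR C y W u :=
  subset_closure ⟨x, hx, h, Or.inl rfl⟩

theorem r_mem_RR {u x : V} (hx : x ∈ W) (h : C.S.B u x = 0) : r y u x ∈ RR C y W u :=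
  subset_closure ⟨x, hx, h, Or.inr rfl⟩

theorem b_mem_RR (u : V) : C.b u ∈ RR C y W u := by
  rw [← C.q_zero u]
  exact q_mem_RR W.zero_mem (C.B_zero_right u)

include Y

theorem y_mem_RR (u : V) : y u ∈ RR C y W u := by
  rw [← Y.r_zero u]
  exact r_mem_RR W.zero_mem (C.B_zero_right u)

theorem gen_comm {u x z : V} (hu : u ≠ 0) (hx : C.S.B u x = 0) (hz : C.S.B u z = 0) {g h : G}
    (hg : g = C.q u x ∨ g = r y u x) (hh : h = C.q u z ∨ h = r y u z) : Commute g h := by
  rcases hg with rfl | rfl <;> rcases hh with rfl | rfl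
  · exact C.q_comm hx hz
  · exact Y.q_comm_r hx hz
  · exact (Y.q_comm_r hz hx).symm
  · exact Y.r_comm hu hx hz

/-- `RR` is abelian. -/
theorem RR_comm {u : V} (hu : u ≠ 0) {g h : G} (hg : g ∈ RR C y W u) (hh : h ∈ RR C y W u) : Commute g h := by
  have h1 : RR C y W u ≤ centralizer {g | ∃ x ∈ W, C.S.B u x = 0 ∧ (g = C.q u x ∨ g = r y u x)} := by
    refine (closure_le _).2 ?_
    rintro g ⟨x, -, hx, hg⟩
    rw [SetLike.mem_coe, mem_centralizer_iff]
    rintro h ⟨z, -, hz, hh⟩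
    exact (Y.gen_comm hu hx hz hg hh).symm
  have h2 : RR C y W u ≤ centralizer (RR C y W u : Set G) := by
    refine (closure_le _).2 ?_
    intro g hg'
    rw [SetLike.mem_coe, mem_centralizer_iff]
    intro h hh'
    exact (mem_centralizer_iff.1 (h1 hh') g hg').symm
  exact (mem_centralizer_iff.1 (h2 hh) g hg)

theorem RR_sq {u : V} (hu : u ≠ 0) {g : G} (hg : g ∈ RR C y W u) : g * g = 1 := by
  refine closure_induction (p := fun g _ => g * g = 1) ?_ (one_mul 1) ?_ ?_ hg
  · rintro g ⟨x, -, hx, rfl | rfl⟩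
    · exact C.q_sq hx
    · exact Y.r_sq hx
  · intro a b ha hb h1 h2
    have := Y.RR_comm hu ha hb
    rw [this.symm.mul_mul_mul_comm, h1, h2, one_mul]
  · intro a _ h1
    rw [← mul_inv_rev, h1, inv_one]

theorem RR_t {u : V} {g : G} (hg : g ∈ RR C y W u) : C.t * g * C.t ∈ RR C y W u := by
  have hle : RR C y W u ≤ (RR C y W u).comap (MulAut.conj C.t).toMonoidHom := by
    refine (closure_le _).2 ?_
    rintro g ⟨x, hxW, hx, hg⟩
    show C.t * g * C.t⁻¹ ∈ RR C y W u
    rw [C.t_inv]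
    rcases hg with rfl | rfl
    · rw [commute_inv_of_conj C.tt (C.t_comm (C.q_mem u x))]
      exact q_mem_RR hxW hx
    · rw [Y.t_conj_r hx]
      exact mul_mem (q_mem_RR hxW hx) (r_mem_RR hxW hx)
  have h1 : C.t * g * C.t⁻¹ ∈ RR C y W u := hle hg
  rwa [C.t_inv] at h1

theorem MM_t {g : G} (hg : g ∈ MM C y W) : C.t * g * C.t ∈ MM C y W := by
  have hle : MM C y W ≤ (MM C y W).comap (MulAut.conj C.t).toMonoidHom := by
    refine (closure_le _).2 ?_
    rintro g ⟨x, hxW, hg⟩
    show C.t * g * C.t⁻¹ ∈ MM C y W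
    rw [C.t_inv]
    rcases hg with rfl | rfl
    · rw [commute_inv_of_conj C.tt (C.t_comm (C.b_mem x))]
      exact subset_closure ⟨x, hxW, Or.inl rfl⟩
    · rw [Y.conj_t]
      exact mul_mem (subset_closure ⟨x, hxW, Or.inl rfl⟩) (subset_closure ⟨x, hxW, Or.inr rfl⟩)
  have h1 : C.t * g * C.t⁻¹ ∈ MM C y W := hle hg
  rwa [C.t_inv] at h1

omit Y in
theorem MM_comm_b (Y : YData C y) {z : V} (hz : ∀ x ∈ W, C.S.B z x = 0) {g : G} (hg : g ∈ MM C y W) :
    Commute g (C.b z) := by
  have hle : MM C y W ≤ centralizer {C.b z} := by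
    refine (closure_le _).2 ?_
    rintro g ⟨x, hxW, hg⟩
    rw [SetLike.mem_coe, mem_centralizer_singleton_iff]
    have h1 : C.S.B x z = 0 := by rw [C.symm]; exact hz x hxW
    rcases hg with rfl | rfl
    · exact C.b_comm h1
    · exact Y.y_comm_b h1
  exact mem_centralizer_singleton_iff.1 (hle hg)

omit Y in
theorem RR_le_MM {u : V} (hu : u ∈ W) : RR C y W u ≤ MM C y W := by
  refine (closure_le _).2 ?_
  rintro g ⟨x, hxW, hx, hg⟩
  rw [SetLike.mem_coe]
  rcases hg with rfl | rfl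
  · exact mul_mem (subset_closure ⟨x, hxW, Or.inl rfl⟩) (subset_closure ⟨x + u, W.add_mem hxW hu, Or.inl rfl⟩)
  · exact mul_mem (subset_closure ⟨x, hxW, Or.inr rfl⟩) (subset_closure ⟨x + u, W.add_mem hxW hu, Or.inr rfl⟩)

/-- the subgroup of `L` generated by the `q u x` -/
def _root_.Cfsg.Agent.OddHalf.SpTwoN.QL (C : Ctx G V) (W : Submodule (ZMod 2) V) (u : V) : Subgroup C.L :=
  closure {k | ∃ x ∈ W, C.S.B u x = 0 ∧ k = C.qL u x}

omit Y in
theorem QL_le {u : V} {k : C.L} (hk : k ∈ QL C W u) : (k : G) ∈ RR C y W u := by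
  have hle : QL C W u ≤ (RR C y W u).comap C.L.subtype := by
    refine (closure_le _).2 ?_
    rintro k ⟨x, hxW, hx, rfl⟩
    exact q_mem_RR hxW hx
  exact hle hk

omit Y in
/-- `QL` is transitive on the vectors `f + x`, `x ∈ W ∩ u^⊥`. -/
theorem exists_QL {u f x : V} (hfu : C.S.B f u = 1) (hxW : x ∈ W) (hx : C.S.B u x = 0) :
    ∃ k ∈ QL C W u, C.S.ρ k f = f + x := by
  have hb : C.qL u 0 ∈ QL C W u := subset_closure ⟨0, W.zero_mem, C.B_zero_right u, rfl⟩
  have hq : C.qL u x ∈ QL C W u := subset_closure ⟨x, hxW, hx, rfl⟩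
  rcases z2 (C.S.B f x) with h | h
  · refine ⟨C.qL u x * C.qL u 0, mul_mem hq hb, ?_⟩
    rw [C.S.ρ_mul, C.rho_q (C.B_zero_right u), C.rho_q hx, C.B_zero_right, zero_smul, add_zero, zero_add, hfu,
      one_smul, C.B_add_left, C.B_add_left, hfu, C.B_self, h, C.symm u x, C.symm x u, hx]
    rw [add_zero, add_zero, one_smul, zero_smul, add_zero, add_assoc f u, add_comm x u, ← add_assoc u u, aa,
      zero_add]
  · refine ⟨C.qL u x, hq, ?_⟩
    rw [C.rho_q hx, hfu, h, one_smul, one_smul, add_assoc, add_assoc x, aa, add_zero]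

/-- Elements of `RR` commuting with `t` belong to `QL`. -/
theorem RR_fix (P : Perp C W E) {u : V} (hu : u ≠ 0) (huW : u ∈ W) {g : G} (hg : g ∈ RR C y W u)
    (hgt : C.t * g * C.t = g) : ∃ k ∈ QL C W u, g = k := by
  have hgt' := C.t_comm_of hgt
  have hgb : Commute g (C.b u) := Y.RR_comm hu hg (b_mem_RR u)
  have hgy : Commute g (y u) := Y.RR_comm hu hg (Y.y_mem_RR u)
  have hgL : g ∈ C.L := by
    rcases (C.cent g).1 hgt' with h | h
    · exact h
    · exfalso
      have k1 : C.S.ρ ⟨C.t * g, h⟩ u = u :=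
        C.fix_of_comm (k := ⟨C.t * g, h⟩) (((C.t_comm (C.b_mem u)).symm.mul_left hgb))
      have k2 : Commute (C.t * g) (y u) := Y.comm_L (k := ⟨C.t * g, h⟩) k1
      have k3 : Commute C.t (y u) := by
        have := k2.mul_left hgy.inv_left
        rwa [mul_inv_cancel_right] at this
      have k4 := Y.conj_t u
      rw [k3.eq, mul_assoc, C.tt, mul_one] at k4
      exact C.b_ne_one hu (right_eq_mul.1 k4)
  obtain ⟨f, hf, hfu⟩ := P.exists_one huW hu
  have fixE : ∀ k : C.L, (k : G) ∈ RR C y W u → ∀ z ∈ E, C.S.ρ k z = z := by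
    intro k hk z hz
    exact C.fix_of_comm (MM_comm_b Y (fun x hx => P.B_eq hx hz) (RR_le_MM huW hk))
  have fixu : ∀ k : C.L, (k : G) ∈ RR C y W u → C.S.ρ k u = u := by
    intro k hk
    exact C.fix_of_comm (Y.RR_comm hu hk (b_mem_RR u))
  set k : C.L := ⟨g, hgL⟩ with hk
  have hkE := fixE k hg
  have hku := fixu k hg
  have hx0 := P.add_mem hkE f
  have hux0 : C.S.B u (C.S.ρ k f + f) = 0 := by
    rw [C.B_add_right]
    have := C.S.inv k u f
    rw [hku] at this
    rw [this, ← two_mul, show (2 : ZMod 2) = 0 from rfl, zero_mul]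
  obtain ⟨q, hq, hqf⟩ := exists_QL (C := C) hfu hx0 hux0
  have hqf' : C.S.ρ q f = C.S.ρ k f := by
    rw [hqf, add_comm (C.S.ρ k f), ← add_assoc, aa, zero_add]
  refine ⟨q, hq, ?_⟩
  have hqR : (q : G) ∈ RR C y W u := QL_le hq
  have hqkR : ((q⁻¹ * k : C.L) : G) ∈ RR C y W u := mul_mem (inv_mem hqR) hg
  have h1 : q⁻¹ * k = 1 := by
    have hff : C.S.ρ (q⁻¹ * k) f = f := by
      rw [C.S.ρ_mul, ← hqf', C.S.ρ_inv_apply]
    apply P.eq_one hf hfu (fixE _ hqkR) ?_ hff
    intro x hxW hx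
    have h2 := (C.coset_of_comm hu hx (k := q⁻¹ * k) (Y.RR_comm hu hqkR (b_mem_RR u))
      (Y.RR_comm hu hqkR (q_mem_RR hxW hx))).2
    rcases h2 with h2 | h2
    · exact h2
    · exfalso
      have h3 := C.S.inv (q⁻¹ * k) x f
      rw [h2, hff, C.B_add_left, C.symm u f, hfu] at h3
      exact one_ne_zero (add_eq_left.1 h3)
  have h2 : k = q := by
    rw [inv_mul_eq_one] at h1
    exact h1.symm
  rw [← h2]

/-- `RR` is good. -/
theorem RR_good (P : Perp C W E) {u : V} (hu : u ≠ 0) (huW : u ∈ W) : Good C.t (RR C y W u) where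
  conj w hw := Y.RR_t hw
  good w hw hwt := by
    have hw2 := Y.RR_sq hu hw
    have hwi : w⁻¹ = w := inv_eq_of_mul_eq_one_left hw2
    rw [hwi] at hwt
    obtain ⟨k, hk, rfl⟩ := Y.RR_fix P hu huW hw hwt
    clear hwt hwi hw2 hw
    refine closure_induction (p := fun (k : C.L) _ => ∃ c ∈ RR C y W u, (k : G) = C.t * c * C.t * c⁻¹)
      ?_ ?_ ?_ ?_ hk
    · rintro k ⟨x, hxW, hx, rfl⟩
      refine ⟨r y u x, r_mem_RR hxW hx, ?_⟩
      rw [Y.t_conj_r hx, mul_inv_cancel_right]
      rfl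
    · refine ⟨1, one_mem _, ?_⟩
      rw [mul_one, C.tt, one_mul, inv_one]
      rfl
    · rintro a b - - ⟨c, hc, hac⟩ ⟨d, hd, hbd⟩
      refine ⟨c * d, mul_mem hc hd, ?_⟩
      have h1 : Commute c⁻¹ (C.t * d * C.t * d⁻¹) :=
        Y.RR_comm hu (inv_mem hc) (mul_mem (Y.RR_t hd) (inv_mem hd))
      have h2 : Commute c⁻¹ d⁻¹ := Y.RR_comm hu (inv_mem hc) (inv_mem hd)
      calc ((a * b : C.L) : G) = (a : G) * b := rfl
        _ = (C.t * c * C.t) * (c⁻¹ * (C.t * d * C.t * d⁻¹)) := by rw [hac, hbd]; group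
        _ = (C.t * c * C.t) * ((C.t * d * C.t * d⁻¹) * c⁻¹) := by rw [h1.eq]
        _ = C.t * c * (C.t * C.t) * d * C.t * (d⁻¹ * c⁻¹) := by group
        _ = C.t * (c * d) * C.t * (c * d)⁻¹ := by rw [C.tt]; group
    · rintro a - ⟨c, hc, hac⟩
      refine ⟨c⁻¹, inv_mem hc, ?_⟩
      have h1 : Commute c (C.t * c * C.t) := Y.RR_comm hu hc (Y.RR_t hc)
      calc ((a⁻¹ : C.L) : G) = (a : G)⁻¹ := rfl
        _ = c * (C.t * c * C.t)⁻¹ := by rw [hac]; group
        _ = (C.t * c * C.t)⁻¹ * c := h1.inv_right.eq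
        _ = C.t⁻¹ * c⁻¹ * C.t⁻¹ * c := by group
        _ = C.t * c⁻¹ * C.t * c⁻¹⁻¹ := by rw [C.t_inv, inv_inv]

/-- `b w`, `y w` normalise `RR`, `w ∈ W ∩ u^⊥`. -/
theorem RR_norm {u w : V} (hu : u ≠ 0) (hwW : w ∈ W) (hw : C.S.B u w = 0) {s g : G}
    (hs : s = C.b w ∨ s = y w) (hg : g ∈ RR C y W u) : s * g * s⁻¹ ∈ RR C y W u := by
  have hle : RR C y W u ≤ (RR C y W u).comap (MulAut.conj s).toMonoidHom := by
    refine (closure_le _).2 ?_
    rintro g ⟨x, hxW, hx, hg⟩
    show s * g * s⁻¹ ∈ RR C y W u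
    have hwu : C.S.B w u = 0 := by rw [C.symm]; exact hw
    rcases hs with rfl | rfl
    · have h1 : C.S.ρ (C.S.τ w) u = u := by rw [C.S.hτ, hw, zero_smul, add_zero]
      have h2 : C.S.ρ (C.S.τ w) x = x + C.S.B x w • w := C.S.hτ w x
      have h3 : x + C.S.B x w • w ∈ W := W.add_mem hxW (W.smul_mem _ hwW)
      have h4 : C.S.B u (x + C.S.B x w • w) = 0 := by
        rw [C.B_add_right, C.B_smul_right, hx, hw, mul_zero, add_zero]
      rcases hg with rfl | rfl
      · have := C.q_conj (C.S.τ w) u x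
        rw [h1, h2] at this
        show (C.S.τ w : G) * C.q u x * (C.S.τ w : G)⁻¹ ∈ _
        rw [this]
        exact q_mem_RR h3 h4
      · have := Y.r_conj_L (C.S.τ w) u x
        rw [h1, h2] at this
        show (C.S.τ w : G) * r y u x * (C.S.τ w : G)⁻¹ ∈ _
        rw [this]
        exact r_mem_RR h3 h4
    · rw [Y.inv]
      rcases z2 (C.S.B x w) with h | h
      · rcases hg with rfl | rfl
        · have h1 : Commute (C.q u x) (y w) := Commute.mul_left (show Commute _ _ from Y.b_comm_y h)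
            (show Commute _ _ from Y.b_comm_y (by rw [C.B_add_left, h, hw, add_zero]))
          rw [commute_inv_of_conj (Y.sq w) h1]
          exact q_mem_RR hxW hx
        · rw [commute_inv_of_conj (Y.sq w) (Y.r_comm_y hw h)]
          exact r_mem_RR hxW hx
      · have hwx : C.S.B w x = 1 := by rw [C.symm]; exact h
        rcases hg with rfl | rfl
        · -- `y w * q u x * y w = r u w * q u x`
          have g1 := Y.equiv (C.qL u x) w
          rw [C.rho_q hx, hwu, zero_smul, add_zero, hwx, one_smul, C.coe_qL, C.q_inv hx] at g1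
          have g2 : y w * C.q u x * y w = r y u w * C.q u x := by
            calc y w * C.q u x * y w = y w * (C.q u x * y w * C.q u x) * (C.q u x)⁻¹ := by group
              _ = y w * y (w + u) * C.q u x := by rw [g1, C.q_inv hx]
              _ = _ := rfl
          rw [g2]
          exact mul_mem (r_mem_RR hwW hw) (q_mem_RR hxW hx)
        · have g1 := Y.comm_r_y hu hx hw h (RR C y W u) (r_mem_RR hwW hw) (q_mem_RR hwW hw) (Y.y_mem_RR u)
            (b_mem_RR u)
          have g2 := mul_mem (r_mem_RR (y := y) hxW hx) g1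
          have g3 : r y u x * (r y u x * y w * r y u x * y w) = y w * r y u x * y w := by
            calc r y u x * (r y u x * y w * r y u x * y w) = (r y u x * r y u x) * y w * r y u x * y w := by group
              _ = _ := by rw [Y.r_sq hx, one_mul]
          rwa [g3] at g2
  exact hle hg

/-- `MM W'` normalises `RR W u` for `W' ≤ W ∩ u^⊥`. -/
theorem MM_norm {W' : Submodule (ZMod 2) V} {u : V} (hu : u ≠ 0) (hW' : ∀ x ∈ W', x ∈ W ∧ C.S.B u x = 0)
    {s g : G} (hs : s ∈ MM C y W') (hg : g ∈ RR C y W u) : s * g * s⁻¹ ∈ RR C y W u := by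
  refine closure_induction (p := fun s _ => ∀ g ∈ RR C y W u, s * g * s⁻¹ ∈ RR C y W u ∧
    s⁻¹ * g * s ∈ RR C y W u) ?_ ?_ ?_ ?_ hs g hg |>.1
  · rintro s ⟨x, hxW, hs⟩ g hg
    obtain ⟨h1, h2⟩ := hW' x hxW
    refine ⟨Y.RR_norm hu h1 h2 hs hg, ?_⟩
    have hs' : s⁻¹ = s := by
      rcases hs with rfl | rfl
      · exact C.b_inv x
      · exact Y.inv x
    have := Y.RR_norm hu h1 h2 hs hg
    rw [hs'] at this ⊢
    exact this
  · intro g hg
    simp only [one_mul, inv_one, mul_one]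
    exact ⟨hg, hg⟩
  · intro a b _ _ ha hb g hg
    constructor
    · have := (ha _ (hb g hg).1).1
      have e : a * (b * g * b⁻¹) * a⁻¹ = a * b * g * (a * b)⁻¹ := by group
      rwa [e] at this
    · have := (hb _ (ha g hg).2).2
      have e : b⁻¹ * (a⁻¹ * g * a) * b = (a * b)⁻¹ * g * (a * b) := by group
      rwa [e] at this
  · intro a _ ha g hg
    obtain ⟨h1, h2⟩ := ha g hg
    rw [inv_inv]
    exact ⟨h2, h1⟩

/-- `RR W u ∩ MM W' = 1` if `W' ⊥ f`. -/
theorem RR_inf_MM (P : Perp C W E) {u f : V} (hu : u ≠ 0) (huW : u ∈ W) (hf : f ∈ W) (hfu : C.S.B f u = 1)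
    {W' : Submodule (ZMod 2) V} (hW' : ∀ x ∈ W', C.S.B f x = 0) {g : G} (hg : g ∈ RR C y W u)
    (hg' : g ∈ MM C y W') : g = 1 := by
  -- fixed points of `t`
  have key : ∀ h ∈ RR C y W u, h ∈ MM C y W' → C.t * h * C.t = h → h = 1 := by
    intro h hh hh' hht
    obtain ⟨k, hk, rfl⟩ := Y.RR_fix P hu huW hh hht
    have hkf : C.S.ρ k f = f := C.fix_of_comm (MM_comm_b Y hW' hh')
    have h1 : k = 1 := by
      apply P.eq_one hf hfu ?_ ?_ hkf
      · intro z hz
        exact C.fix_of_comm (MM_comm_b Y (fun x hx => P.B_eq hx hz) (RR_le_MM huW hh))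
      · intro x hxW hx
        have h2 := (C.coset_of_comm hu hx (k := k) (Y.RR_comm hu hh (b_mem_RR u))
          (Y.RR_comm hu hh (q_mem_RR hxW hx))).2
        rcases h2 with h2 | h2
        · exact h2
        · exfalso
          have h3 := C.S.inv k x f
          rw [h2, hkf, C.B_add_left, C.symm u f, hfu] at h3
          exact one_ne_zero (add_eq_left.1 h3)
    rw [h1]; rfl
  have h1 := Y.RR_t hg
  have h2 := Y.MM_t hg'
  have h3 : g * (C.t * g * C.t) = 1 := by
    apply key _ (mul_mem hg h1) (mul_mem hg' h2)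
    rw [conj_mul C.tt, conj_conj C.tt]
    exact Y.RR_comm hu h1 hg
  have h4 : C.t * g * C.t = g := by
    have h5 := Y.RR_sq hu hg
    exact mul_left_cancel (h3.trans h5.symm)
  exact key g hg hg' h4

end YData

end Cfsg.Agent.OddHalf.SpTwoN

end

-- merged: Cfsg.Agent.OddHalf.SpTwoN.CCMain
section

/-!
# The case (C, C): conclusion
-/

set_option autoImplicit false

namespace Cfsg.Agent.OddHalf.SpTwoN

open Subgroup
open Cfsg.Agent.StandardComponent.SpTwo
open Cfsg.Agent.OddHalf.SpTwoN.SemiGrow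

variable {G V : Type*} [Group G] [AddCommGroup V] [Module (ZMod 2) V]

/-- The hyperplane `u^⊥` of `W`. -/
def perpSub (C : Ctx G V) (W : Submodule (ZMod 2) V) (u f : V) : Submodule (ZMod 2) V where
  carrier := {x | x ∈ W ∧ C.S.B u x = 0 ∧ C.S.B f x = 0}
  zero_mem' := ⟨W.zero_mem, C.B_zero_right u, C.B_zero_right f⟩
  add_mem' := by
    rintro a b ⟨h1, h2, h3⟩ ⟨h4, h5, h6⟩
    exact ⟨W.add_mem h1 h4, by rw [C.B_add_right, h2, h5, add_zero], by rw [C.B_add_right, h3, h6, add_zero]⟩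
  smul_mem' := by
    rintro c a ⟨h1, h2, h3⟩
    exact ⟨W.smul_mem c h1, by rw [C.B_smul_right, h2, mul_zero], by rw [C.B_smul_right, h3, mul_zero]⟩

theorem mem_perpSub {C : Ctx G V} {W : Submodule (ZMod 2) V} {u f x : V} :
    x ∈ perpSub C W u f ↔ x ∈ W ∧ C.S.B u x = 0 ∧ C.S.B f x = 0 := Iff.rfl

theorem Perp.perpSub {C : Ctx G V} {W : Submodule (ZMod 2) V} {E : Set V} (P : Perp C W E) {u f : V}
    (huW : u ∈ W) (hf : f ∈ W) (hfu : C.S.B f u = 1) : Perp C (perpSub C W u f) (E ∪ {u, f}) where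
  mem_iff x := by
    rw [mem_perpSub, P.mem_iff]
    constructor
    · rintro ⟨h1, h2, h3⟩ z (hz | hz | hz)
      · exact h1 z hz
      · rw [hz]; exact h2
      · rw [Set.mem_singleton_iff] at hz
        rw [hz]; exact h3
    · intro h
      exact ⟨fun z hz => h z (Or.inl hz), h u (Or.inr (Or.inl rfl)), h f (Or.inr (Or.inr rfl))⟩
  nondeg x hx h := by
    obtain ⟨h1, h2, h3⟩ := hx
    apply P.nondeg x h1
    intro w hw
    have huf : C.S.B u f = 1 := by rw [C.symm]; exact hfu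
    have h4 : w + C.S.B f w • u + C.S.B u w • f ∈ SpTwoN.perpSub C W u f := by
      refine ⟨W.add_mem (W.add_mem hw (W.smul_mem _ huW)) (W.smul_mem _ hf), ?_, ?_⟩
      · rw [C.B_add_right, C.B_add_right, C.B_smul_right, C.B_smul_right, C.B_self, huf]
        rcases z2 (C.S.B u w) with h | h
        · rw [h]; simp
        · rw [h]; simp; decide
      · rw [C.B_add_right, C.B_add_right, C.B_smul_right, C.B_smul_right, C.B_self, hfu]
        rcases z2 (C.S.B f w) with h | h
        · rw [h]; simp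
        · rw [h]; simp; decide
    have h5 := h _ h4
    rw [C.B_add_right, C.B_add_right, C.B_smul_right, C.B_smul_right, C.symm x u, h2, C.symm x f, h3, mul_zero,
      mul_zero, add_zero, add_zero] at h5
    exact h5

theorem perpSub_card [Finite V] {C : Ctx G V} {W : Submodule (ZMod 2) V} {u f : V} (huW : u ∈ W)
    (hfu : C.S.B f u = 1) : Nat.card (perpSub C W u f) < Nat.card W := by
  have hle : perpSub C W u f < W := by
    refine lt_of_le_of_ne (fun x hx => hx.1) (fun h => ?_)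
    have h1 : u ∈ perpSub C W u f := by rw [h]; exact huW
    have h2 := h1.2.2
    rw [hfu] at h2
    exact one_ne_zero h2
  have h1 := SpData.two_mul_card_le hle
  have h2 : 0 < Nat.card (perpSub C W u f) := Nat.card_pos
  omega

/-- A 2-group of isometries fixing `E` has a nonzero fixed vector on `W`. -/
theorem exists_fixed [Finite V] {C : Ctx G V} {W : Submodule (ZMod 2) V} {E : Set V} (P : Perp C W E)
    (hW : W ≠ ⊥) (S : Subgroup C.L) (hS : IsPGroup 2 S) (hSE : ∀ k ∈ S, ∀ z ∈ E, C.S.ρ k z = z) :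
    ∃ u ∈ W, u ≠ 0 ∧ ∀ k ∈ S, C.S.ρ k u = u := by
  have : Fact (Nat.Prime 2) := ⟨Nat.prime_two⟩
  let act : MulAction S W :=
    { smul := fun k w => ⟨C.S.ρ (k : C.L) w, P.rho_mem (hSE k k.2) w.2⟩
      one_smul := fun w => Subtype.ext (C.S.ρ_one (w : V))
      mul_smul := fun a b w => Subtype.ext (C.S.ρ_mul (a : C.L) (b : C.L) (w : V)) }
  have h2 : 2 ∣ Nat.card W := by
    obtain ⟨w, hw, hw0⟩ := (Submodule.ne_bot_iff W).1 hW
    have h3 : addOrderOf (⟨w, hw⟩ : W) = 2 := by
      apply addOrderOf_eq_prime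
      · apply Subtype.ext
        show (2 : ℕ) • w = 0
        rw [two_smul, aa]
      · intro h
        exact hw0 (congrArg Subtype.val h)
    have h4 : addOrderOf (⟨w, hw⟩ : W) ∣ Nat.card W := addOrderOf_dvd_natCard _
    rw [h3] at h4
    exact h4
  have h0 : (0 : W) ∈ MulAction.fixedPoints S W := by
    intro k
    apply Subtype.ext
    exact map_zero (C.S.ρ (k : C.L))
  obtain ⟨b, hb, hne⟩ := hS.exists_fixed_point_of_prime_dvd_card_of_fixed_point W h2 h0
  refine ⟨b, b.2, fun h => hne (Subtype.ext h.symm), fun k hk => ?_⟩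
  exact congrArg Subtype.val (hb ⟨k, hk⟩)

/-- The stabiliser of two vectors. -/
def stab2 (C : Ctx G V) (u f : V) : Subgroup C.L where
  carrier := {k | C.S.ρ k u = u ∧ C.S.ρ k f = f}
  one_mem' := ⟨C.S.ρ_one u, C.S.ρ_one f⟩
  mul_mem' := by
    rintro a b ⟨h1, h2⟩ ⟨h3, h4⟩
    exact ⟨by rw [C.S.ρ_mul, h3, h1], by rw [C.S.ρ_mul, h4, h2]⟩
  inv_mem' := by
    rintro a ⟨h1, h2⟩
    refine ⟨?_, ?_⟩
    · nth_rewrite 1 [← h1]; exact C.S.ρ_inv_apply a u
    · nth_rewrite 1 [← h2]; exact C.S.ρ_inv_apply a f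

namespace YData

variable {C : Ctx G V} {y : V → G} (Y : YData C y)

/-- `QL` is a 2-group. -/
theorem QL_pgroup (Y : YData C y) {W : Submodule (ZMod 2) V} {u : V} (hu : u ≠ 0) : IsPGroup 2 (QL C W u) := by
  rintro ⟨k, hk⟩
  refine ⟨1, ?_⟩
  rw [pow_one]
  apply Subtype.ext
  apply Subtype.ext
  have h := Y.RR_sq hu (QL_le (y := y) hk)
  show ((k ^ 2 : C.L) : G) = 1
  rw [pow_two]
  exact h

/-- A subgroup stabilising `E`, `W` and `u` normalises `QL`. -/
theorem QL_norm {W : Submodule (ZMod 2) V} {E : Set V} (P : Perp C W E) {u : V} {k : C.L}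
    (hk : ∀ z ∈ E, C.S.ρ k z = z) (hku : C.S.ρ k u = u) {q : C.L} (hq : q ∈ QL C W u) :
    k * q * k⁻¹ ∈ QL C W u := by
  have hle : QL C W u ≤ (QL C W u).comap (MulAut.conj k).toMonoidHom := by
    refine (closure_le _).2 ?_
    rintro g ⟨x, hxW, hx, rfl⟩
    show k * C.qL u x * k⁻¹ ∈ QL C W u
    have h1 : k * C.qL u x * k⁻¹ = C.qL u (C.S.ρ k x) := by
      apply Subtype.ext
      have := C.q_conj k u x
      rw [hku] at this
      exact this
    rw [h1]
    refine subset_closure ⟨_, P.rho_mem hk hxW, ?_, rfl⟩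
    have := C.S.inv k u x
    rw [hku] at this
    rw [this, hx]
  exact hle hq

theorem qL_fixE {W : Submodule (ZMod 2) V} {E : Set V} (P : Perp C W E) (Y : YData C y) {u : V} (huW : u ∈ W)
    {q : C.L} (hq : q ∈ QL C W u) : ∀ z ∈ E, C.S.ρ q z = z := by
  intro z hz
  exact C.fix_of_comm (MM_comm_b Y (fun x hx => P.B_eq hx hz) (RR_le_MM huW (QL_le (y := y) hq)))

include Y

/-- The induction. -/
theorem exists_good [Finite V] (n : ℕ) : ∀ (W : Submodule (ZMod 2) V) (E : Set V), Perp C W E → Nat.card W ≤ n →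
    ∀ S : Subgroup C.L, IsPGroup 2 S → (∀ k ∈ S, ∀ z ∈ E, C.S.ρ k z = z) →
    ∃ U : Subgroup G, Good C.t U ∧ S.map C.L.subtype ≤ U ∧ U ≤ MM C y W := by
  induction n with
  | zero =>
    intro W E _ hn
    have : 0 < Nat.card W := Nat.card_pos
    omega
  | succ n ih =>
    intro W E P hn S hS hSE
    by_cases hW : W = ⊥
    · refine ⟨⊥, Good.bot C.tt, ?_, bot_le⟩
      rintro _ ⟨k, hk, rfl⟩
      rw [Subgroup.mem_bot]
      have : k = 1 := by
        apply C.S.ext_iff
        intro v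
        rw [C.S.ρ_one]
        have h1 := P.add_mem (hSE k hk) v
        rw [hW, Submodule.mem_bot] at h1
        exact eq_of_add _ _ h1
      rw [this]; rfl
    · obtain ⟨u, huW, hu, hSu⟩ := exists_fixed P hW S hS hSE
      obtain ⟨f, hf, hfu⟩ := P.exists_one huW hu
      have P' := P.perpSub huW hf hfu
      have hcard := perpSub_card (C := C) (W := W) (f := f) huW hfu
      -- the 2-group `QL ⊔ S`
      have hQS : IsPGroup 2 (QL C W u ⊔ S : Subgroup C.L) := by
        have hn : QL C W u ≤ normalizer (QL C W u : Set C.L) := le_normalizer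
        have hSn : S ≤ normalizer (QL C W u : Set C.L) := by
          intro k hk
          rw [mem_normalizer_iff]
          intro q
          constructor
          · intro hq
            exact QL_norm P (hSE k hk) (hSu k hk) hq
          · intro hq
            have := QL_norm P (hSE k⁻¹ (S.inv_mem hk)) (hSu k⁻¹ (S.inv_mem hk)) hq
            have e : k⁻¹ * (k * q * k⁻¹) * k⁻¹⁻¹ = q := by group
            rwa [e] at this
        exact (Y.QL_pgroup hu).to_sup_of_normal_left' hS hSn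
      have hQSE : ∀ k ∈ (QL C W u ⊔ S : Subgroup C.L), ∀ z ∈ E, C.S.ρ k z = z := by
        intro k hk z hz
        have hle : (QL C W u ⊔ S : Subgroup C.L) ≤ stab2 C z z := by
          refine sup_le ?_ ?_
          · intro q hq
            have := qL_fixE P Y huW hq z hz
            exact ⟨this, this⟩
          · intro q hq
            have := hSE q hq z hz
            exact ⟨this, this⟩
        exact (hle hk).1
      obtain ⟨U, hU, hSU, hUM⟩ := ih (perpSub C W u f) (E ∪ {u, f}) P' (by omega)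
        ((QL C W u ⊔ S) ⊓ stab2 C u f) (hQS.to_le inf_le_left) (by
          rintro k ⟨hk1, hk2⟩ z (hz | hz | hz)
          · exact hQSE k hk1 z hz
          · rw [hz]; exact hk2.1
          · rw [Set.mem_singleton_iff] at hz
            rw [hz]; exact hk2.2)
      have hsub : ∀ x ∈ perpSub C W u f, x ∈ W ∧ C.S.B u x = 0 := fun x hx => ⟨hx.1, hx.2.1⟩
      refine ⟨RR C y W u ⊔ U, ?_, ?_, ?_⟩
      · apply (Y.RR_good P hu huW).sup C.tt hU
        · intro p hp g hg
          exact Y.MM_norm hu hsub (hUM hp) hg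
        · intro g hg hgU
          exact Y.RR_inf_MM P hu huW hf hfu (W' := perpSub C W u f) (fun x hx => hx.2.2) hg (hUM hgU)
      · rintro _ ⟨k, hk, rfl⟩
        have hkE := hSE k hk
        have hku := hSu k hk
        have hux0 : C.S.B u (C.S.ρ k f + f) = 0 := by
          rw [C.B_add_right]
          have := C.S.inv k u f
          rw [hku] at this
          rw [this, ← two_mul, show (2 : ZMod 2) = 0 from rfl, zero_mul]
        obtain ⟨q, hq, hqf⟩ := exists_QL (C := C) hfu (P.add_mem hkE f) hux0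
        have hqf' : C.S.ρ q f = C.S.ρ k f := by
          rw [hqf, add_comm (C.S.ρ k f), ← add_assoc, aa, zero_add]
        have hqu : C.S.ρ q u = u := C.fix_of_comm (Y.RR_comm hu (QL_le hq) (b_mem_RR u))
        have hmem : q⁻¹ * k ∈ (QL C W u ⊔ S) ⊓ stab2 C u f := by
          refine ⟨Subgroup.mul_mem _ (Subgroup.inv_mem _ (Subgroup.mem_sup_left hq)) (Subgroup.mem_sup_right hk),
            ?_, ?_⟩
          · have h1 : C.S.ρ q⁻¹ u = u := by
              nth_rewrite 1 [← hqu]; exact C.S.ρ_inv_apply q u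
            rw [C.S.ρ_mul, hku, h1]
          · rw [C.S.ρ_mul, ← hqf', C.S.ρ_inv_apply]
        have h1 : ((q⁻¹ * k : C.L) : G) ∈ U := hSU ⟨_, hmem, rfl⟩
        have h2 : (k : G) = (q : G) * ((q⁻¹ * k : C.L) : G) := by
          rw [Subgroup.coe_mul, Subgroup.coe_inv, mul_inv_cancel_left]
        show (k : G) ∈ RR C y W u ⊔ U
        rw [h2]
        exact mul_mem (mem_sup_left (QL_le hq)) (mem_sup_right h1)
      · refine sup_le (RR_le_MM huW) (hUM.trans ?_)
        exact closure_mono (by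
          rintro g ⟨x, hx, hg⟩
          exact ⟨x, hx.1, hg⟩)

/-- **The case (C, C).** -/
theorem main [Finite G] : ∃ m : G →* ℤˣ, m C.t = -1 := by
  have := C.finV
  have : Fact (Nat.Prime 2) := ⟨Nat.prime_two⟩
  let Z : Subgroup G := centralizer ({C.t} : Set G)
  obtain ⟨P⟩ : Nonempty (Sylow 2 Z) := inferInstance
  have htZ : C.t ∈ Z := mem_centralizer_singleton_iff.2 rfl
  -- `t ∈ P`
  have htP : (⟨C.t, htZ⟩ : Z) ∈ P := by
    let T : Subgroup Z := zpowers ⟨C.t, htZ⟩
    have hT : IsPGroup 2 T := by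
      have h2 : (⟨C.t, htZ⟩ : Z) * ⟨C.t, htZ⟩ = 1 := Subtype.ext C.tt
      rintro ⟨n, hn⟩
      obtain ⟨i, rfl⟩ := mem_zpowers_iff.1 hn
      refine ⟨1, Subtype.ext ?_⟩
      show ((⟨C.t, htZ⟩ : Z) ^ i) ^ 2 ^ 1 = 1
      rw [pow_one, pow_two, ← (Commute.refl _).mul_zpow, h2, one_zpow]
    have hTc : T.Normal := by
      refine ⟨?_⟩
      rintro n hn g
      have h1 : ∀ n ∈ T, g * n = n * g := by
        intro n hn
        obtain ⟨i, rfl⟩ := mem_zpowers_iff.1 hn
        have h2 : Commute g (⟨C.t, htZ⟩ : Z) := Subtype.ext (mem_centralizer_singleton_iff.1 g.2)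
        exact (h2.zpow_right i).eq
      rw [h1 n hn, mul_inv_cancel_right]
      exact hn
    have h1 : IsPGroup 2 (P ⊔ T : Subgroup Z) := P.2.to_sup_of_normal_right hT
    have h2 := P.3 h1 le_sup_left
    have h3 : (⟨C.t, htZ⟩ : Z) ∈ (P : Subgroup Z) := by
      rw [← h2]
      exact mem_sup_right (mem_zpowers _)
    exact h3
  let S : Subgroup C.L :=
    { carrier := {k | ∃ h : (k : G) ∈ Z, (⟨k, h⟩ : Z) ∈ P}
      one_mem' := ⟨Z.one_mem, P.1.one_mem⟩
      mul_mem' := by
        rintro a b ⟨h1, h2⟩ ⟨h3, h4⟩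
        exact ⟨Z.mul_mem h1 h3, P.1.mul_mem h2 h4⟩
      inv_mem' := by
        rintro a ⟨h1, h2⟩
        exact ⟨Z.inv_mem h1, P.1.inv_mem h2⟩ }
  have hS : IsPGroup 2 S := by
    rintro ⟨k, h1, h2⟩
    obtain ⟨n, hn⟩ := P.2 ⟨⟨k, h1⟩, h2⟩
    refine ⟨n, ?_⟩
    apply Subtype.ext
    apply Subtype.ext
    exact congrArg (fun x => ((x : P) : Z).1) hn
  obtain ⟨U, hU, hSU, -⟩ := Y.exists_good (Nat.card (⊤ : Submodule (ZMod 2) V)) ⊤ ∅
    ⟨fun x => ⟨fun _ z hz => absurd hz (Set.notMem_empty z), fun _ => Submodule.mem_top⟩,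
      fun x _ h => C.S.nondeg x (fun w => h w Submodule.mem_top)⟩ le_rfl S hS
    (fun k _ z hz => absurd hz (Set.notMem_empty z))
  refine hU.exists_hom C.tt C.t_ne_one P ?_
  intro g hg
  have hgc : Commute (g : G) C.t := mem_centralizer_singleton_iff.1 g.2
  rcases (C.cent g).1 hgc with h | h
  · left
    exact hSU ⟨⟨g, h⟩, ⟨g.2, hg⟩, rfl⟩
  · right
    have h1 : C.t * (g : G) ∈ Z := Z.mul_mem htZ g.2
    exact hSU ⟨⟨C.t * g, h⟩, ⟨h1, P.1.mul_mem htP hg⟩, rfl⟩

end YData

end Cfsg.Agent.OddHalf.SpTwoN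

end

-- merged: Cfsg.Agent.OddHalf.SpTwoN.DichFrame
section

/-!
# An isotropic 4-space with a dual system; elements fixing `⟨u, v, w⟩^⊥`
-/

set_option autoImplicit false

namespace Cfsg.Agent.OddHalf.SpTwoN.DichFrame

open Cfsg.Agent.StandardComponent.SpTwo Cfsg.Agent.OddHalf.SpTwo Cfsg.Agent.OddHalf.SpTwoN.Words

variable {X V : Type*} [Group X] [AddCommGroup V] [Module (ZMod 2) V] (D : SpData X V)

/-- an isotropic 4-space `⟨u, a, b, c⟩` with a dual system `e, f, g, h` -/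
structure Fr (u a b c e f g h : V) : Prop where
  ua : D.B u a = 0
  ub : D.B u b = 0
  uc : D.B u c = 0
  ab : D.B a b = 0
  ac : D.B a c = 0
  bc : D.B b c = 0
  ue : D.B u e = 1
  ae : D.B a e = 0
  be : D.B b e = 0
  ce : D.B c e = 0
  uf : D.B u f = 0
  af : D.B a f = 1
  bf : D.B b f = 0
  cf : D.B c f = 0
  ug : D.B u g = 0
  ag : D.B a g = 0
  bg : D.B b g = 1
  cg : D.B c g = 0
  uh : D.B u h = 0
  ah : D.B a h = 0
  bh : D.B b h = 0
  ch : D.B c h = 1

theorem exists_fr [Finite V] (h256 : 256 ≤ Nat.card V) {u : V} (hu : u ≠ 0) :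
    ∃ a b c e f g h, Fr D u a b c e f g h := by
  obtain ⟨a, ha, ha'⟩ := room D h256 (A := ln u) (A' := ln u) (by
    have := finrank_ln_le u
    omega)
  obtain ⟨b, hb, hb'⟩ := room D h256 (A := pl u a) (A' := pl u a) (by
    have := finrank_pl_le u a
    omega)
  obtain ⟨c, hc, hc'⟩ := room D h256 (A := pl u a ⊔ ln b) (A' := pl u a ⊔ ln b) (by
    have h1 := finrank_pl_le u a
    have h2 := finrank_sup_ln_le (pl u a) b
    omega)
  obtain ⟨h, hh, hh'⟩ := Words.exists_perp D _ hc'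
  obtain ⟨g, hg, hg'⟩ := Words.exists_perp D _ hb'
  obtain ⟨f, hf, hf'⟩ := Words.exists_perp D _ ha'
  obtain ⟨e, -, he'⟩ := Words.exists_perp D (⊥ : Submodule (ZMod 2) V) (x := u) (by simpa using hu)
  have hua : D.B u a = 0 := by
    rw [D.symm]; exact ha u (self_mem_ln u)
  have hub : D.B u b = 0 := by
    rw [D.symm]; exact hb u (left_mem_pl u a)
  have hab : D.B a b = 0 := by
    rw [D.symm]; exact hb a (right_mem_pl u a)
  have huc : D.B u c = 0 := by
    rw [D.symm]; exact hc u (Submodule.mem_sup_left (left_mem_pl u a))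
  have hac : D.B a c = 0 := by
    rw [D.symm]; exact hc a (Submodule.mem_sup_left (right_mem_pl u a))
  have hbc : D.B b c = 0 := by
    rw [D.symm]; exact hc b (Submodule.mem_sup_right (self_mem_ln b))
  have huh : D.B u h = 0 := hh u (Submodule.mem_sup_left (left_mem_pl u a))
  have hah : D.B a h = 0 := hh a (Submodule.mem_sup_left (right_mem_pl u a))
  have hbh : D.B b h = 0 := hh b (Submodule.mem_sup_right (self_mem_ln b))
  have hug : D.B u g = 0 := hg u (left_mem_pl u a)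
  have hag : D.B a g = 0 := hg a (right_mem_pl u a)
  have huf : D.B u f = 0 := hf u (self_mem_ln u)
  -- corrections
  obtain ⟨g1, hg1⟩ : ∃ g1, g1 = g + D.B c g • h := ⟨_, rfl⟩
  have g1u : D.B u g1 = 0 := by rw [hg1]; simp [hug, huh]
  have g1a : D.B a g1 = 0 := by rw [hg1]; simp [hag, hah]
  have g1b : D.B b g1 = 1 := by rw [hg1]; simp [hg', hbh]
  have g1c : D.B c g1 = 0 := by rw [hg1]; simp [hh', z2_add]
  obtain ⟨f1, hf1⟩ : ∃ f1, f1 = f + D.B b f • g1 + D.B c f • h := ⟨_, rfl⟩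
  have f1u : D.B u f1 = 0 := by rw [hf1]; simp [huf, g1u, huh]
  have f1a : D.B a f1 = 1 := by rw [hf1]; simp [hf', g1a, hah]
  have f1b : D.B b f1 = 0 := by rw [hf1]; simp [g1b, hbh, z2_add]
  have f1c : D.B c f1 = 0 := by rw [hf1]; simp [g1c, hh', z2_add]
  obtain ⟨e1, he1⟩ : ∃ e1, e1 = e + D.B a e • f1 + D.B b e • g1 + D.B c e • h := ⟨_, rfl⟩
  have e1u : D.B u e1 = 1 := by rw [he1]; simp [he', f1u, g1u, huh]
  have e1a : D.B a e1 = 0 := by rw [he1]; simp [f1a, g1a, hah, z2_add]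
  have e1b : D.B b e1 = 0 := by rw [he1]; simp [f1b, g1b, hbh, z2_add]
  have e1c : D.B c e1 = 0 := by rw [he1]; simp [f1c, g1c, hh', z2_add]
  exact ⟨a, b, c, e1, f1, g1, h, ⟨hua, hub, huc, hab, hac, hbc, e1u, e1a, e1b, e1c, f1u, f1a, f1b, f1c,
    g1u, g1a, g1b, g1c, huh, hah, hbh, hh'⟩⟩

/-- an element fixing `⟨u, v, w⟩^⊥` pointwise moves vectors by elements of `⟨u, v, w⟩` -/
theorem fix3 [Finite V] {u v w : V} {k : X}
    (hk : ∀ e, D.B u e = 0 → D.B v e = 0 → D.B w e = 0 → D.ρ k e = e) (z : V) :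
    ∃ α β γ : ZMod 2, D.ρ k z = z + (α • u + β • v + γ • w) := by
  have h1 : D.ρ k z + z ∈ Submodule.span (ZMod 2) ({u, v, w} : Set V) := by
    apply mem_of_perp D
    intro y hy
    rw [mem_perp] at hy
    have h2 : D.ρ k y = y := hk y (by rw [D.symm]; exact hy u (Submodule.subset_span (by simp)))
      (by rw [D.symm]; exact hy v (Submodule.subset_span (by simp)))
      (by rw [D.symm]; exact hy w (Submodule.subset_span (by simp)))
    have h3 := D.inv k y z
    rw [h2] at h3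
    rw [map_add, h3, z2_add]
  obtain ⟨α, β, γ, h2⟩ := Submodule.mem_span_triple.1 h1
  refine ⟨α, β, γ, ?_⟩
  rw [h2, add_comm (D.ρ k z) z, aac]

/-- an element fixing `⟨u, v⟩^⊥` pointwise moves vectors by elements of `⟨u, v⟩` -/
theorem fix2 [Finite V] {u v : V} {k : X}
    (hk : ∀ e, D.B u e = 0 → D.B v e = 0 → D.ρ k e = e) (z : V) :
    ∃ α β : ZMod 2, D.ρ k z = z + (α • u + β • v) := by
  have h1 : D.ρ k z + z ∈ pl u v := by
    apply mem_of_perp D
    intro y hy
    rw [mem_perp_pl] at hy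
    have h2 : D.ρ k y = y := hk y (by rw [D.symm]; exact hy.1) (by rw [D.symm]; exact hy.2)
    have h3 := D.inv k y z
    rw [h2] at h3
    rw [map_add, h3, z2_add]
  obtain ⟨α, β, h2⟩ := Submodule.mem_span_pair.1 h1
  refine ⟨α, β, ?_⟩
  rw [h2, add_comm (D.ρ k z) z, aac]

end Cfsg.Agent.OddHalf.SpTwoN.DichFrame

end

-- merged: Cfsg.Agent.OddHalf.SpTwoN.DichKill
section

/-!
# The homocyclic configuration is impossible

`kill`: there is no `L_u`-equivariant family `m v`, `v ∈ u^⊥`, of commuting elements with `m v ^ 2 = s_{u,v}` and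
`m v * m v' * m (v + v')` in `A_⟨u,v,v'⟩`.
-/

set_option autoImplicit false

namespace Cfsg.Agent.OddHalf.SpTwoN.DichKill

open Cfsg.Agent.StandardComponent.SpTwo Cfsg.Agent.OddHalf.SpTwo Cfsg.Agent.OddHalf.SpTwoN.Words
open Cfsg.Agent.OddHalf.SpTwoN Cfsg.Agent.OddHalf.SpTwoN.DichFrame

theorem six {G : Type*} [Group G] {A B C P Q R : G} (hAB : A * B = B * A) (hAC : A * C = C * A) (hAP : A * P = P * A)
    (hAQ : A * Q = Q * A) (hAR : A * R = R * A) (hBC : B * C = C * B) (hBP : B * P = P * B) (hBQ : B * Q = Q * B)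
    (hBR : B * R = R * B) (hCP : C * P = P * C) (hCQ : C * Q = Q * C) (hCR : C * R = R * C) (hPQ : P * Q = Q * P)
    (hPR : P * R = R * P) (hQR : Q * R = R * Q) :
    A * Q * R * (A * B * P) * (C * C) = A * A * (B * C * Q * (P * C * R)) := by
  obtain ⟨S, hS⟩ : ∃ S : Set G, S = {A, B, C, P, Q, R} := ⟨_, rfl⟩
  have h : ∀ x ∈ S, ∀ y ∈ S, x * y = y * x := by
    rw [hS]
    rintro x (rfl | rfl | rfl | rfl | rfl | rfl) y (rfl | rfl | rfl | rfl | rfl | rfl) <;>
      first | rfl | assumption | (symm; assumption)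
  have hc := Subgroup.isMulCommutative_closure h
  let cg : CommGroup (Subgroup.closure S) := { mul_comm := fun a b => hc.is_comm.comm a b }
  have key : ∀ A B C P Q R : Subgroup.closure S,
      A * Q * R * (A * B * P) * (C * C) = A * A * (B * C * Q * (P * C * R)) := by
    intro A B C P Q R
    ac_rfl
  have hmem : ∀ x ∈ ({A, B, C, P, Q, R} : Set G), x ∈ Subgroup.closure S := fun x hx =>
    Subgroup.subset_closure (by rw [hS]; exact hx)
  exact congrArg Subtype.val (key ⟨A, hmem _ (by simp)⟩ ⟨B, hmem _ (by simp)⟩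
    ⟨C, hmem _ (by simp)⟩ ⟨P, hmem _ (by simp)⟩ ⟨Q, hmem _ (by simp)⟩ ⟨R, hmem _ (by simp)⟩)

variable {G V : Type*} [Group G] [AddCommGroup V] [Module (ZMod 2) V]

theorem kill [Finite V] (C : Ctx G V) {u : V} (hu : u ≠ 0) (m : V → G)
    (hsq : ∀ v, C.S.B u v = 0 → v ≠ 0 → v ≠ u → m v * m v = (sg C.S u v : C.L))
    (hcomm : ∀ v v', C.S.B u v = 0 → C.S.B u v' = 0 → C.S.B v v' = 0 → v ≠ 0 → v ≠ u → v' ≠ 0 → v' ≠ u →
      m v * m v' = m v' * m v)
    (heq : ∀ k : C.L, C.S.ρ k u = u → ∀ v, (k : G) * m v * (k : G)⁻¹ = m (C.S.ρ k v))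
    (hT : ∀ v v', C.S.B u v = 0 → C.S.B u v' = 0 → C.S.B v v' = 0 → v ≠ 0 → v ≠ u → v' ≠ 0 → v' ≠ u →
      v + v' ≠ 0 → v + v' ≠ u → ∃ k : C.L, m v * m v' * m (v + v') = k ∧
        ∀ e, C.S.B u e = 0 → C.S.B v e = 0 → C.S.B v' e = 0 → C.S.ρ k e = e) : False := by
  obtain ⟨a, b, c, e, f, g, h, F⟩ := exists_fr C.S C.cardV hu
  have sy : ∀ {x y : V} {i : ZMod 2}, C.S.B x y = i → C.S.B y x = i := fun {x y i} hxy => by
    rw [C.S.symm]; exact hxy
  have ne : ∀ {x y z : V}, C.S.B x z = 1 → C.S.B y z = 0 → x ≠ y := by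
    rintro x y z h1 h2 rfl
    rw [h1] at h2
    exact one_ne_zero h2
  have z0 : ∀ z, C.S.B 0 z = 0 := fun z => by rw [map_zero]; rfl
  -- nonzero conditions
  have a0 : a ≠ 0 := ne F.af (z0 f)
  have au : a ≠ u := ne F.af F.uf
  have b0 : b ≠ 0 := ne F.bg (z0 g)
  have bu : b ≠ u := ne F.bg F.ug
  have c0 : c ≠ 0 := ne F.ch (z0 h)
  have cu : c ≠ u := ne F.ch F.uh
  have abg : C.S.B (a + b) g = 1 := by rw [B_add, F.ag, F.bg, zero_add]
  have bcg : C.S.B (b + c) g = 1 := by rw [B_add, F.bg, F.cg, add_zero]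
  have abcg : C.S.B (a + b + c) g = 1 := by rw [B_add, abg, F.cg, add_zero]
  have ab0 : a + b ≠ 0 := ne abg (z0 g)
  have abu : a + b ≠ u := ne abg F.ug
  have bc0 : b + c ≠ 0 := ne bcg (z0 g)
  have bcu : b + c ≠ u := ne bcg F.ug
  have abc0 : a + b + c ≠ 0 := ne abcg (z0 g)
  have abcu : a + b + c ≠ u := ne abcg F.ug
  -- the two short root elements
  obtain ⟨x, hx⟩ : ∃ x, x = sg C.S a g := ⟨_, rfl⟩
  obtain ⟨x', hx'⟩ : ∃ x', x' = sg C.S c g := ⟨_, rfl⟩
  have rx : ∀ z, C.S.ρ x z = z + (C.S.B z g • a + C.S.B z a • g) := fun z => by rw [hx, ρ_sg C.S F.ag]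
  have rx' : ∀ z, C.S.ρ x' z = z + (C.S.B z g • c + C.S.B z c • g) := fun z => by rw [hx', ρ_sg C.S F.cg]
  have xi : x⁻¹ = x := by rw [hx, sg_inv C.S F.ag]
  have xi' : x'⁻¹ = x' := by rw [hx', sg_inv C.S F.cg]
  have xu : C.S.ρ x u = u := by rw [rx, F.ug, F.ua, zero_smul, zero_smul, add_zero, add_zero]
  have xa : C.S.ρ x a = a := by rw [rx, F.ag, C.S.alt, zero_smul, zero_smul, add_zero, add_zero]
  have xb : C.S.ρ x b = b + a := by rw [rx, F.bg, sy F.ab, one_smul, zero_smul, add_zero]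
  have xc : C.S.ρ x c = c := by rw [rx, F.cg, sy F.ac, zero_smul, zero_smul, add_zero, add_zero]
  have xu' : C.S.ρ x' u = u := by rw [rx', F.ug, F.uc, zero_smul, zero_smul, add_zero, add_zero]
  have xa' : C.S.ρ x' a = a := by rw [rx', F.ag, F.ac, zero_smul, zero_smul, add_zero, add_zero]
  have xb' : C.S.ρ x' b = b + c := by rw [rx', F.bg, F.bc, one_smul, zero_smul, add_zero]
  have xc' : C.S.ρ x' c = c := by rw [rx', F.cg, C.S.alt, zero_smul, zero_smul, add_zero, add_zero]
  -- the products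
  obtain ⟨k, hk, hkf⟩ := hT a b F.ua F.ub F.ab a0 au b0 bu ab0 abu
  obtain ⟨l, hl, hlf⟩ := hT b c F.ub F.uc F.bc b0 bu c0 cu bc0 bcu
  have hk' : (x' : G) * k * (x' : G)⁻¹ = m a * m (b + c) * m (a + b + c) := by
    rw [← hk, show (x' : G) * (m a * m b * m (a + b)) * (x' : G)⁻¹ = (x' * m a * (x' : G)⁻¹) *
      (x' * m b * (x' : G)⁻¹) * (x' * m (a + b) * (x' : G)⁻¹) by group, heq _ xu', heq _ xu', heq _ xu',
      xa', xb', map_add, xa', xb', add_assoc]
  have hl' : (x : G) * l * (x : G)⁻¹ = m (a + b) * m c * m (a + b + c) := by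
    rw [← hl, show (x : G) * (m b * m c * m (b + c)) * (x : G)⁻¹ = (x * m b * (x : G)⁻¹) *
      (x * m c * (x : G)⁻¹) * (x * m (b + c) * (x : G)⁻¹) by group, heq _ xu, heq _ xu, heq _ xu,
      xc, xb, map_add, xc, xb, add_comm b a]
  have hl2 : (x' : G) * l * (x' : G)⁻¹ = l := by
    rw [← hl, show (x' : G) * (m b * m c * m (b + c)) * (x' : G)⁻¹ = (x' * m b * (x' : G)⁻¹) *
      (x' * m c * (x' : G)⁻¹) * (x' * m (b + c) * (x' : G)⁻¹) by group, heq _ xu', heq _ xu', heq _ xu',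
      xc', xb', map_add, xc', xb', aab]
    have h1 := hcomm b (b + c) F.ub (by rw [map_add, F.ub, F.uc, add_zero]) (by
      rw [map_add, C.S.alt, F.bc, add_zero]) b0 bu bc0 bcu
    have h2 := hcomm c (b + c) F.uc (by rw [map_add, F.ub, F.uc, add_zero]) (by
      rw [map_add, C.S.alt, sy F.bc, add_zero]) c0 cu bc0 bcu
    have h3 := hcomm b c F.ub F.uc F.bc b0 bu c0 cu
    rw [← h2, mul_assoc, ← h1, ← mul_assoc, ← h3]
  -- the main identity
  have uab : C.S.B u (a + b) = 0 := by rw [map_add, F.ua, F.ub, add_zero]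
  have ubc : C.S.B u (b + c) = 0 := by rw [map_add, F.ub, F.uc, add_zero]
  have uabc : C.S.B u (a + b + c) = 0 := by rw [map_add, uab, F.uc, add_zero]
  have hmain : (x' : G) * k * (x' : G)⁻¹ * k * (m c * m c) = m a * m a * (l * ((x : G) * l * (x : G)⁻¹)) := by
    rw [hk', hl', ← hk, ← hl]
    have t0 : ∀ {i j : ZMod 2}, i = 0 → j = 0 → i + j = 0 := by
      rintro _ _ rfl rfl
      rfl
    apply six
    · exact hcomm _ _ F.ua F.ub F.ab a0 au b0 bu
    · exact hcomm _ _ F.ua F.uc F.ac a0 au c0 cu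
    · exact hcomm _ _ F.ua uab (by rw [map_add]; exact t0 (C.S.alt a) F.ab) a0 au ab0 abu
    · exact hcomm _ _ F.ua ubc (by rw [map_add]; exact t0 F.ab F.ac) a0 au bc0 bcu
    · exact hcomm _ _ F.ua uabc (by rw [map_add, map_add]; exact t0 (t0 (C.S.alt a) F.ab) F.ac) a0 au abc0 abcu
    · exact hcomm _ _ F.ub F.uc F.bc b0 bu c0 cu
    · exact hcomm _ _ F.ub uab (by rw [map_add]; exact t0 (sy F.ab) (C.S.alt b)) b0 bu ab0 abu
    · exact hcomm _ _ F.ub ubc (by rw [map_add]; exact t0 (C.S.alt b) F.bc) b0 bu bc0 bcu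
    · exact hcomm _ _ F.ub uabc (by rw [map_add, map_add]; exact t0 (t0 (sy F.ab) (C.S.alt b)) F.bc) b0 bu abc0 abcu
    · exact hcomm _ _ F.uc uab (by rw [map_add]; exact t0 (sy F.ac) (sy F.bc)) c0 cu ab0 abu
    · exact hcomm _ _ F.uc ubc (by rw [map_add]; exact t0 (sy F.bc) (C.S.alt c)) c0 cu bc0 bcu
    · exact hcomm _ _ F.uc uabc (by rw [map_add, map_add]; exact t0 (t0 (sy F.ac) (sy F.bc)) (C.S.alt c))
        c0 cu abc0 abcu
    · exact hcomm _ _ uab ubc (by
        rw [B_add, map_add, map_add]; exact t0 (t0 F.ab F.ac) (t0 (C.S.alt b) F.bc)) ab0 abu bc0 bcu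
    · exact hcomm _ _ uab uabc (by
        rw [map_add, C.S.alt, B_add]; exact t0 rfl (t0 F.ac F.bc)) ab0 abu abc0 abcu
    · exact hcomm _ _ ubc uabc (by
        rw [add_assoc a b c, map_add, C.S.alt, B_add]; exact t0 (t0 (sy F.ab) (sy F.ac)) rfl) bc0 bcu abc0 abcu
  rw [hsq a F.ua a0 au, hsq c F.uc c0 cu] at hmain
  have hmain' : x' * k * x'⁻¹ * k * sg C.S u c = sg C.S u a * (l * (x * l * x⁻¹)) := Subtype.ext hmain
  have hl2' : x' * l * x'⁻¹ = l := Subtype.ext hl2
  -- the action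
  obtain ⟨α, β, γ, h1⟩ := fix3 C.S hkf f
  obtain ⟨α', β', γ', h2⟩ := fix3 C.S hlf g
  obtain ⟨α₂, β₂, γ₂, h3⟩ := fix3 C.S hlf h
  have ku : C.S.ρ k u = u := hkf u (C.S.alt u) (sy F.ua) (sy F.ub)
  have ka : C.S.ρ k a = a := hkf a F.ua (C.S.alt a) (sy F.ab)
  have kb : C.S.ρ k b = b := hkf b F.ub F.ab (C.S.alt b)
  have kc : C.S.ρ k c = c := hkf c F.uc F.ac F.bc
  have lu : C.S.ρ l u = u := hlf u (C.S.alt u) (sy F.ub) (sy F.uc)
  have la : C.S.ρ l a = a := hlf a F.ua (sy F.ab) (sy F.ac)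
  have lb : C.S.ρ l b = b := hlf b F.ub (C.S.alt b) (sy F.bc)
  have lc : C.S.ρ l c = c := hlf c F.uc F.bc (C.S.alt c)
  have lf : C.S.ρ l f = f := hlf f F.uf F.bf F.cf
  -- `α' = 0`
  have hα' : α' = 0 := by
    have h4 : l * x' = x' * l := by
      calc l * x' = x' * l * x'⁻¹ * x' := by rw [hl2']
        _ = x' * l := by group
    have h5 : C.S.ρ (l * x') h = C.S.ρ (x' * l) h := by rw [h4]
    rw [C.S.ρ_mul, C.S.ρ_mul, rx', h3, sy F.ch, one_smul] at h5
    simp only [map_add, map_smul, lc, h2, h3, xu', xb', xc'] at h5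
    rw [rx' h, sy F.ch, one_smul] at h5
    have h6 := congrArg (fun z => C.S.B z e) h5
    simp only [map_add, map_smul, LinearMap.add_apply, LinearMap.smul_apply, smul_eq_mul, F.ue, F.be, F.ce,
      mul_zero, mul_one, add_zero] at h6
    have h7 : ∀ p q r s : ZMod 2, p + r + (0 + (q + s)) = p + (0 + q) + r → s = 0 := by decide
    exact h7 _ _ _ _ h6
  have h5 : C.S.ρ (x' * k * x'⁻¹ * k * sg C.S u c) f = C.S.ρ (sg C.S u a * (l * (x * l * x⁻¹))) f := by rw [hmain']
  have hs1 : C.S.ρ (sg C.S u c) f = f := by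
    rw [ρ_sg C.S F.uc, sy F.cf, sy F.uf, zero_smul, zero_smul, add_zero, add_zero]
  rw [xi, xi'] at h5
  simp only [C.S.ρ_mul] at h5
  rw [hs1, h1] at h5
  have h7 : C.S.ρ x' f = f + C.S.B f g • c := by rw [rx', sy F.cf, zero_smul, add_zero]
  have h8 : C.S.ρ x f = f + (C.S.B f g • a + g) := by rw [rx, sy F.af, one_smul]
  have h9 : C.S.ρ x g = g := by rw [rx, C.S.alt, sy F.ag, zero_smul, zero_smul, add_zero, add_zero]
  simp only [map_add, map_smul, h7, xu', xa', xb', ku, ka, kb, kc, h1, h8, h9, lf, la, h2, xu, xa, xb, xc, xc',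
    lu, lb, lc, ρ_sg C.S F.ua] at h5
  have h6 := congrArg (fun z => C.S.B z e) h5
  have hgu : C.S.B g u = 0 := sy F.ug
  have hfu : C.S.B f u = 0 := sy F.uf
  have hfa : C.S.B f a = 1 := sy F.af
  have hga : C.S.B g a = 0 := sy F.ag
  simp only [map_add, map_smul, LinearMap.add_apply, LinearMap.smul_apply, smul_eq_mul, F.ue, F.ae, F.be, F.ce,
    mul_zero, mul_one, add_zero, C.S.alt, sy F.ua, sy F.ub, sy F.uc, F.ua, sy F.ab,
    sy F.ac, hgu, hfu, hfa, hga, zero_add] at h6
  subst hα'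
  have h10 : ∀ p q r : ZMod 2, p + r + r = p + (q + 0) + (q + 0 + 0) + 1 → False := by decide
  exact h10 _ _ _ h6

end Cfsg.Agent.OddHalf.SpTwoN.DichKill

end

-- merged: Cfsg.Agent.OddHalf.SpTwoN.Dich
section

/-!
# The dichotomy for the long `y u` (text: bb ODD 12330, 6.1 - 6.2)

`YBase C y`: `y u` is an involution, `[y u, t] = b u`, `y` is `L`-equivariant. For perpendicular independent `u`, `v` the
commutator `cm y u v` is one of `1`, `b u * b v`, `b (u + v)`, `s_{u,v}`, the same for all pairs; the second and fourth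
cases are impossible.
-/

set_option autoImplicit false

namespace Cfsg.Agent.OddHalf.SpTwoN.Dich

open Cfsg.Agent.StandardComponent.SpTwo Cfsg.Agent.OddHalf.SpTwo Cfsg.Agent.OddHalf.SpTwoN.Words
open Cfsg.Agent.OddHalf.SpTwoN Cfsg.Agent.OddHalf.SpTwoN.DichFrame Cfsg.Agent.OddHalf.SpTwoN.DichKill

section General

variable {G : Type*} [Group G]

theorem conj4 {t a b : G} (tt : t * t = 1) :
    t * (a * b * a * b) * t = (t * a * t) * (t * b * t) * (t * a * t) * (t * b * t) := by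
  calc t * (a * b * a * b) * t = t * a * 1 * b * 1 * a * 1 * b * t := by group
    _ = t * a * (t * t) * b * (t * t) * a * (t * t) * b * t := by rw [tt]
    _ = _ := by group

theorem conj3 {t a b c : G} (tt : t * t = 1) :
    t * (a * b * c) * t = (t * a * t) * (t * b * t) * (t * c * t) := by
  calc t * (a * b * c) * t = t * a * 1 * b * 1 * c * t := by group
    _ = t * a * (t * t) * b * (t * t) * c * t := by rw [tt]
    _ = _ := by group

/-- from `(a b)² = s` to `a b = s (b a)` -/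
theorem swap_of {a b s : G} (ha : a * a = 1) (hb : b * b = 1) (h : a * b * a * b = s) : a * b = s * (b * a) := by
  rw [← h]
  calc a * b = a * b * a * b * b * a := by
        rw [mul_assoc (a * b * a) b b, hb, mul_one, mul_assoc (a * b) a a, ha, mul_one]
    _ = _ := by group

/-- three commuting elements moved past each other -/
theorem mul3 {a b c p q r : G} (h1 : q * a = a * q) (h2 : r * a = a * r) (h3 : r * b = b * r) :
    (p * a) * (q * b) * (r * c) = p * q * r * (a * b * c) := by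
  calc (p * a) * (q * b) * (r * c) = p * (a * q) * b * r * c := by group
    _ = p * q * (a * (b * r)) * c := by rw [← h1]; group
    _ = p * q * ((a * r) * b) * c := by rw [← h3]; group
    _ = p * q * r * (a * b * c) := by rw [← h2]; group

theorem sq3 {A B D s : G} (ss : s * s = 1) (DD : D * D = 1) (h1 : A * D = s * (D * A)) (h2 : B * D = s * (D * B))
    (c1 : s * A = A * s) (c2 : s * B = B * s) (h0 : A * B * A * B = s) : A * B * D * (A * B * D) = s := by
  have f1 : D * A = s * (A * D) := by rw [h1, ← mul_assoc, ss, one_mul]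
  have f2 : D * B = s * (B * D) := by rw [h2, ← mul_assoc, ss, one_mul]
  calc A * B * D * (A * B * D) = A * B * (D * A) * B * D := by group
    _ = A * (B * s) * A * (D * B) * D := by rw [f1]; group
    _ = (A * s) * B * A * (s * B) * (D * D) := by rw [← c2, f2]; group
    _ = s * A * B * A * (B * s) := by rw [← c1, DD, c2]; group
    _ = s * (A * B * A * B) * s := by group
    _ = s := by rw [h0, ss, one_mul]

end General

variable {G V : Type*} [Group G] [AddCommGroup V] [Module (ZMod 2) V] {C : Ctx G V} {y : V → G}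

/-- the commutator -/
def cm (y : V → G) (u v : V) : G := y u * y v * y u * y v

theorem cm_inv (Y : YBase C y) (u v : V) : (cm y u v)⁻¹ = cm y v u := invol_inv (Y.sq u) (Y.sq v)

theorem cm_conj (Y : YBase C y) (k : C.L) (u v : V) :
    (k : G) * cm y u v * (k : G)⁻¹ = cm y (C.S.ρ k u) (C.S.ρ k v) := by
  unfold cm
  rw [← Y.equiv, ← Y.equiv]
  group

theorem cm_comm_t (Y : YBase C y) {u v : V} (h : C.S.B u v = 0) : cm y u v * C.t = C.t * cm y u v := by
  have h' : C.S.B v u = 0 := by rw [C.symm]; exact h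
  refine C.t_comm_of (F := cm y u v) ?_
  unfold cm
  rw [conj4 C.tt, Y.conj_t, Y.conj_t]
  exact four (Y.b_comm_y (C.B_self u)) (Y.b_comm_y h) (Y.b_comm_y h') (Y.b_comm_y (C.B_self v)) (C.b_comm h)
    (C.b_sq u) (C.b_sq v)

/-- an element of `C(t)` commuting with the transvections of `E` -/
theorem lift_fix {T : G} (hT : T * C.t = C.t * T) {E : V → Prop} (hE : ∀ e, E e → T * C.b e = C.b e * T) :
    ∃ k : C.L, (T = k ∨ T = C.t * k) ∧ ∀ e, E e → C.S.ρ k e = e := by
  obtain ⟨k, hk⟩ := exists_lift C hT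
  refine ⟨k, hk, fun e he => C.fix_of_comm ?_⟩
  have h1 := hE e he
  rcases hk with rfl | rfl
  · exact h1
  · have h2 : C.b e * C.t = C.t * C.b e := C.t_comm (C.b_mem e)
    have h3 : C.t * ((k : G) * C.b e) = C.t * (C.b e * k) := by
      rw [← mul_assoc, h1, ← mul_assoc, h2, mul_assoc]
    exact mul_left_cancel h3

/-- the commutator lies in `L`, fixes `⟨u, v⟩^⊥` -/
theorem cm_mem (Y : YBase C y) {u v : V} (huv : u ≠ v) (h : C.S.B u v = 0) :
    ∃ k : C.L, cm y u v = k ∧ (∀ e, C.S.B u e = 0 → C.S.B v e = 0 → C.S.ρ k e = e) ∧ (k : G)⁻¹ = k := by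
  have h' : C.S.B v u = 0 := by rw [C.symm]; exact h
  obtain ⟨k, hk, hkf⟩ := lift_fix (E := fun e => C.S.B u e = 0 ∧ C.S.B v e = 0) (cm_comm_t Y h) (by
    rintro e ⟨h1, h2⟩
    have h3 := cm_conj Y (C.S.τ e) u v
    rw [C.S.hτ, C.S.hτ, h1, h2, zero_smul, add_zero, add_zero] at h3
    exact (mul_inv_eq_iff_eq_mul.1 h3).symm)
  have hku : C.S.ρ k u = u := hkf u ⟨C.B_self u, h'⟩
  have hkv : C.S.ρ k v = v := hkf v ⟨h, C.B_self v⟩
  have h1 : y u * cm y u v * y u = (cm y u v)⁻¹ := invol_left (Y.sq u) (Y.sq v)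
  have h2 : y v * cm y u v * y v = (cm y u v)⁻¹ := invol_right (Y.sq u) (Y.sq v)
  have h3 := Y.comm_L hku
  have h4 := Y.comm_L hkv
  rcases hk with hk | hk
  · refine ⟨k, hk, fun e h1 h2 => hkf e ⟨h1, h2⟩, ?_⟩
    rw [hk] at h1
    rw [← h1, mul_assoc, h3, ← mul_assoc, Y.sq, one_mul]
  · exfalso
    rw [hk] at h1 h2
    apply huv
    apply C.b_inj
    have h5 : y u * (C.t * k) * y u = C.t * C.b u * k := by
      calc y u * (C.t * k) * y u = y u * C.t * (k * y u) := by group
        _ = (y u * C.t * y u) * k := by rw [h3]; group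
        _ = C.t * C.b u * k := by rw [Y.y_conj_t]
    have h6 : y v * (C.t * k) * y v = C.t * C.b v * k := by
      calc y v * (C.t * k) * y v = y v * C.t * (k * y v) := by group
        _ = (y v * C.t * y v) * k := by rw [h4]; group
        _ = C.t * C.b v * k := by rw [Y.y_conj_t]
    rw [h5] at h1
    rw [h6] at h2
    exact mul_left_cancel (mul_right_cancel (h1.trans h2.symm))

/-- the shape of an element fixing `⟨u, v⟩^⊥` -/
theorem shape {X : Type*} [Group X] (D : SpData X V) [Finite V] {u v : V} (hu : u ≠ 0) (hv : v ∉ ln u)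
    (huv : D.B u v = 0) {k : X} (hk : ∀ e, D.B u e = 0 → D.B v e = 0 → D.ρ k e = e) :
    ∃ e f : V, D.B u e = 1 ∧ D.B v e = 0 ∧ D.B u f = 0 ∧ D.B v f = 1 ∧ ∃ a c d : ZMod 2,
      ∀ z, D.ρ k z = z + (D.B z u • (a • u + c • v) + D.B z v • (c • u + d • v)) := by
  obtain ⟨f, hf, hf'⟩ := Words.exists_perp D _ hv
  obtain ⟨e', -, he'⟩ := Words.exists_perp D (⊥ : Submodule (ZMod 2) V) (x := u) (by simpa using hu)
  have huf : D.B u f = 0 := hf u (self_mem_ln u)
  obtain ⟨e, he⟩ : ∃ e, e = e' + D.B v e' • f := ⟨_, rfl⟩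
  have hue : D.B u e = 1 := by rw [he]; simp [he', huf]
  have hve : D.B v e = 0 := by rw [he]; simp [hf', z2_add]
  obtain ⟨a, c, h1⟩ := fix2 D hk e
  obtain ⟨c', d, h2⟩ := fix2 D hk f
  have hcc : c' = c := by
    have h3 := D.inv k e f
    rw [h1, h2] at h3
    have hvu : D.B v u = 0 := by rw [D.symm]; exact huv
    have heu : D.B e u = 1 := by rw [D.symm]; exact hue
    have hev : D.B e v = 0 := by rw [D.symm]; exact hve
    simp only [map_add, map_smul, LinearMap.add_apply, LinearMap.smul_apply, smul_eq_mul, huf, hf', huv, hvu,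
      heu, hev, D.alt, mul_zero, mul_one, add_zero, zero_add] at h3
    have key : ∀ x c c' : ZMod 2, x + c + c' = x → c' = c := by decide
    exact key _ _ _ h3
  subst hcc
  refine ⟨e, f, hue, hve, huf, hf', a, c', d, fun z => ?_⟩
  have h4 : D.ρ k (z + (D.B z u • e + D.B z v • f)) = z + (D.B z u • e + D.B z v • f) := by
    apply hk
    · rw [map_add, map_add, map_smul, map_smul, hue, huf, D.symm u z]
      simp [z2_add]
    · rw [map_add, map_add, map_smul, map_smul, hve, hf', D.symm v z]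
      simp [z2_add]
  rw [map_add, map_add, map_smul, map_smul, h1, h2] at h4
  have h5 : ∀ p q r s : V, p + (q + r) = s → p = s + (q + r) := by
    rintro p q r s rfl
    rw [add_assoc, aa, add_zero]
  rw [h5 _ _ _ _ h4, smul_add, smul_add (D.B z v)]
  have h6 : ∀ p q r s w : V, p + (q + r) + (q + s + (r + w)) = p + (s + w) := by
    intro p q r s w
    rw [show p + (q + r) + (q + s + (r + w)) = p + (s + w) + ((q + r) + (q + r)) by abel, aa, add_zero]
  rw [h6]

/-- the four cases for one pair -/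
theorem cm_cases (Y : YBase C y) {u v : V} (hu : u ≠ 0) (hv : v ∉ ln u) (h : C.S.B u v = 0) :
    cm y u v = 1 ∨ cm y u v = C.b u * C.b v ∨ cm y u v = C.b (u + v) ∨ cm y u v = (sg C.S u v : C.L) := by
  have := C.finV
  have h' : C.S.B v u = 0 := by rw [C.symm]; exact h
  have hne : u ≠ v := by
    rintro rfl
    exact hv (self_mem_ln u)
  have hv0 : v ≠ 0 := ne_zero_of_notMem hv
  have hu' : u ∉ ln v := by
    rw [mem_ln]
    push Not
    exact ⟨hu, hne⟩
  obtain ⟨k, hk, hkf, hki⟩ := cm_mem Y hne h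
  obtain ⟨e, f, hue, hve, huf, hvf, a, c, d, hs⟩ := shape C.S hu hv h hkf
  have hki' : k⁻¹ = k := Subtype.ext hki
  -- swapping `u` and `v`
  obtain ⟨g, hgu, hgv⟩ := trans_pl C.S hu hv h hv0 hu' h'
  have h1 := cm_conj Y g u v
  rw [hgu, hgv, ← cm_inv Y u v, hk, hki] at h1
  have h2 : g * k = k * g := Subtype.ext (mul_inv_eq_iff_eq_mul.1 h1)
  have had : a = d := by
    have h3 : C.S.ρ (g * k) e = C.S.ρ (k * g) e := by rw [h2]
    have heu : C.S.B e u = 1 := by rw [C.symm]; exact hue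
    have hev : C.S.B e v = 0 := by rw [C.symm]; exact hve
    have h4 : C.S.B (C.S.ρ g e) u = 0 := by
      have := C.S.inv g e v
      rwa [hgv, hev] at this
    have h5 : C.S.B (C.S.ρ g e) v = 1 := by
      have := C.S.inv g e u
      rwa [hgu, heu] at this
    rw [C.S.ρ_mul, C.S.ρ_mul, hs, hs (C.S.ρ g e), h4, h5, heu, hev, zero_smul, one_smul, zero_smul, one_smul,
      zero_add, add_zero, map_add, map_add, map_smul, map_smul, hgu, hgv] at h3
    have h6 := congrArg (fun z => C.S.B z f) (add_left_cancel h3)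
    simp only [map_add, map_smul, LinearMap.add_apply, LinearMap.smul_apply, smul_eq_mul, huf, hvf, mul_zero,
      mul_one, add_zero, zero_add] at h6
    exact h6
  subst had
  rcases z2 a with ha | ha <;> rcases z2 c with hc | hc <;> subst ha <;> subst hc
  · left
    have h3 : k = 1 := by
      apply C.S.ext_iff
      intro z
      rw [hs, C.S.ρ_one]
      simp
    rw [hk, h3]
    rfl
  · right; right; right
    have h3 : k = sg C.S u v := by
      apply C.S.ext_iff
      intro z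
      rw [hs, ρ_sg C.S h]
      simp only [zero_smul, one_smul, zero_add, add_zero]
      rw [add_comm (C.S.B z u • v)]
    rw [hk, h3]
  · right; left
    have h3 : k = C.S.τ u * C.S.τ v := by
      apply C.S.ext_iff
      intro z
      rw [hs, C.S.ττ, h', mul_zero, add_zero]
      simp only [zero_smul, one_smul, zero_add, add_zero]
      abel
    rw [hk, h3]
    rfl
  · right; right; left
    have h3 : k = C.S.τ (u + v) := by
      apply C.S.ext_iff
      intro z
      rw [hs, C.S.hτ, map_add, one_smul, one_smul, add_smul]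
    rw [hk, h3]
    rfl

/-! ### the exclusion of the cases `b u * b v` and `s_{u,v}` -/

/-- products of the `m v` over a line of `u^⊥ / u` -/
theorem T_mem {u : V} (m : V → G)
    (heq : ∀ k : C.L, C.S.ρ k u = u → ∀ v, (k : G) * m v * (k : G)⁻¹ = m (C.S.ρ k v))
    (ht : ∀ v, C.S.B u v = 0 → v ≠ 0 → v ≠ u → C.t * m v * C.t = (sg C.S u v : C.L) * m v)
    (w : G) (hw1 : ∀ v, C.S.B u v = 0 → v ≠ 0 → v ≠ u → w * m v = m v * w)
    (hw2 : ∀ k : C.L, C.S.ρ k u = u → w * k = k * w) (hw3 : w * C.t ≠ C.t * w)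
    {v v' : V} (hv : C.S.B u v = 0) (hv' : C.S.B u v' = 0) (hvv : C.S.B v v' = 0) (v0 : v ≠ 0) (vu : v ≠ u)
    (v0' : v' ≠ 0) (vu' : v' ≠ u) (s0 : v + v' ≠ 0) (su : v + v' ≠ u) : ∃ k : C.L, m v * m v' * m (v + v') = k ∧
      ∀ e, C.S.B u e = 0 → C.S.B v e = 0 → C.S.B v' e = 0 → C.S.ρ k e = e := by
  have huv : C.S.B v u = 0 := by rw [C.symm]; exact hv
  have huv' : C.S.B v' u = 0 := by rw [C.symm]; exact hv'
  have hvv' : C.S.B v' v = 0 := by rw [C.symm]; exact hvv
  have hs : C.S.B u (v + v') = 0 := by rw [map_add, hv, hv', add_zero]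
  have hc : ∀ {k : C.L} {z : V}, C.S.ρ k u = u → C.S.ρ k z = z → (k : G) * m z = m z * k := by
    intro k z h1 h2
    have h3 := heq k h1 z
    rw [h2] at h3
    exact mul_inv_eq_iff_eq_mul.1 h3
  -- `T` commutes with `t`
  have hTt : C.t * (m v * m v' * m (v + v')) * C.t = m v * m v' * m (v + v') := by
    rw [conj3 C.tt, ht v hv v0 vu, ht v' hv' v0' vu', ht (v + v') hs s0 su]
    have f1 : C.S.ρ (sg C.S u v') u = u := by
      rw [ρ_sg C.S hv', hv', C.B_self, zero_smul, zero_smul, add_zero, add_zero]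
    have f2 : C.S.ρ (sg C.S u v') v = v := by
      rw [ρ_sg C.S hv', hvv, huv, zero_smul, zero_smul, add_zero, add_zero]
    have f3 : C.S.ρ (sg C.S u (v + v')) u = u := by
      rw [ρ_sg C.S hs, hs, C.B_self, zero_smul, zero_smul, add_zero, add_zero]
    have f4 : C.S.ρ (sg C.S u (v + v')) v = v := by
      rw [ρ_sg C.S hs, map_add, C.B_self, hvv, huv, add_zero, zero_smul, zero_smul, add_zero, add_zero]
    have f5 : C.S.ρ (sg C.S u (v + v')) v' = v' := by
      rw [ρ_sg C.S hs, map_add, C.B_self, hvv', huv', add_zero, zero_smul, zero_smul, add_zero, add_zero]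
    rw [mul3 (hc f1 f2) (hc f3 f4) (hc f3 f5)]
    have h1 : sg C.S u v * sg C.S u v' * sg C.S u (v + v') = 1 := by
      rw [sg_mul_perp C.S hv hv' hvv, sg_sq C.S hs]
    have h2 : ((sg C.S u v : C.L) : G) * (sg C.S u v' : C.L) * (sg C.S u (v + v') : C.L) = 1 :=
      congrArg Subtype.val h1
    rw [h2, one_mul]
  obtain ⟨k, hk, hkf⟩ := lift_fix (E := fun e => C.S.B u e = 0 ∧ C.S.B v e = 0 ∧ C.S.B v' e = 0)
    (C.t_comm_of hTt) (by
      rintro e ⟨h1, h2, h3⟩
      have h0 : C.S.ρ (C.S.τ e) u = u := by rw [C.S.hτ, h1, zero_smul, add_zero]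
      have e1 : C.b e * m v = m v * C.b e := hc h0 (by rw [C.S.hτ, h2, zero_smul, add_zero])
      have e2 : C.b e * m v' = m v' * C.b e := hc h0 (by rw [C.S.hτ, h3, zero_smul, add_zero])
      have e3 : C.b e * m (v + v') = m (v + v') * C.b e := hc h0 (by
        rw [C.S.hτ, B_add, h2, h3, add_zero, zero_smul, add_zero])
      have e4 : Commute (C.b e) (m v * m v' * m (v + v')) := Commute.mul_right (Commute.mul_right e1 e2) e3
      exact e4.symm)
  have hku : C.S.ρ k u = u := hkf u ⟨C.B_self u, huv, huv'⟩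
  rcases hk with hk | hk
  · exact ⟨k, hk, fun e h1 h2 h3 => hkf e ⟨h1, h2, h3⟩⟩
  · exfalso
    have h1 : Commute w (m v * m v' * m (v + v')) := Commute.mul_right (Commute.mul_right (hw1 v hv v0 vu)
      (hw1 v' hv' v0' vu')) (hw1 (v + v') hs s0 su)
    rw [hk] at h1
    have h2 := hw2 k hku
    apply hw3
    have h3 : w * C.t * k = C.t * w * k := by
      calc w * C.t * k = w * (C.t * k) := by group
        _ = C.t * (k * w) := by rw [h1.eq]; group
        _ = C.t * w * k := by rw [← h2]; group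
    exact mul_right_cancel h3

/-- the case `cm = s` is impossible -/
theorem not_sg (Y : YBase C y) {u : V} (hu : u ≠ 0)
    (h : ∀ p q, p ≠ 0 → q ∉ ln p → C.S.B p q = 0 → cm y p q = (sg C.S p q : C.L)) : False := by
  have := C.finV
  -- the commutator formula for all perpendicular pairs
  have hs : ∀ p q, C.S.B p q = 0 → cm y p q = (sg C.S p q : C.L) := by
    intro p q hpq
    by_cases hp : p = 0
    · subst hp
      rw [sg_zero_left]
      unfold cm
      rw [Y.zero, one_mul, mul_one, Y.sq]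
      rfl
    by_cases hq : q ∈ ln p
    · rcases mem_ln.1 hq with rfl | rfl
      · rw [sg_zero_right]
        unfold cm
        rw [Y.zero, mul_one, mul_one, Y.sq]
        rfl
      · rw [sg_self]
        unfold cm
        rw [Y.sq, one_mul, Y.sq]
        rfl
    · exact h p q hp hq hpq
  have sw : ∀ p q, C.S.B p q = 0 → y p * y q = (sg C.S p q : C.L) * (y q * y p) := fun p q hpq =>
    swap_of (Y.sq p) (Y.sq q) (hs p q hpq)
  have cs : ∀ p q z, C.S.B p q = 0 → C.S.B z p = 0 → C.S.B z q = 0 →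
      ((sg C.S p q : C.L) : G) * y z = y z * (sg C.S p q : C.L) := by
    intro p q z h1 h2 h3
    apply Y.comm_L
    rw [ρ_sg C.S h1, h2, h3, zero_smul, zero_smul, add_zero, add_zero]
  obtain ⟨m, hm⟩ : ∃ m : V → G, m = fun v => y u * y v * y (u + v) := ⟨_, rfl⟩
  have hmv : ∀ v, m v = y u * y v * y (u + v) := fun v => by rw [hm]
  -- `m v` commutes with `y q`
  have my : ∀ v q, C.S.B u v = 0 → C.S.B q u = 0 → C.S.B q v = 0 → y q * m v = m v * y q := by
    intro v q h1 h2 h3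
    have h4 : C.S.B q (u + v) = 0 := by rw [map_add, h2, h3, add_zero]
    have h1' : C.S.B v u = 0 := by rw [C.symm]; exact h1
    have h2' : C.S.B u q = 0 := by rw [C.symm]; exact h2
    have h3' : C.S.B v q = 0 := by rw [C.symm]; exact h3
    have c1 := cs q (u + v) u h4 h2' (by rw [map_add, C.B_self, h1, add_zero])
    have c2 := cs q (u + v) v h4 h3' (by rw [map_add, C.B_self, h1', add_zero])
    have c3 := cs q v u h3 h2' h1
    rw [hmv]
    have e1 : ((sg C.S q u : C.L) : G) * (sg C.S q v : C.L) * (sg C.S q (u + v) : C.L) = 1 := by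
      have e2 : sg C.S q u * sg C.S q v * sg C.S q (u + v) = 1 := by
        rw [sg_mul_perp C.S h2 h3 h1, sg_sq C.S h4]
      exact congrArg Subtype.val e2
    calc y q * (y u * y v * y (u + v)) = (y q * y u) * y v * y (u + v) := by group
      _ = (sg C.S q u : C.L) * y u * (y q * y v) * y (u + v) := by rw [sw q u h2]; group
      _ = (sg C.S q u : C.L) * (y u * (sg C.S q v : C.L)) * y v * (y q * y (u + v)) := by rw [sw q v h3]; group
      _ = (sg C.S q u : C.L) * (sg C.S q v : C.L) * y u * (y v * (sg C.S q (u + v) : C.L)) * y (u + v) * y q := by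
          rw [← c3, sw q (u + v) h4]; group
      _ = (sg C.S q u : C.L) * (sg C.S q v : C.L) * (y u * (sg C.S q (u + v) : C.L)) * y v * y (u + v) * y q := by
          rw [← c2]; group
      _ = ((sg C.S q u : C.L) * (sg C.S q v : C.L) * (sg C.S q (u + v) : C.L)) * (y u * y v * y (u + v)) * y q := by
          rw [← c1]; group
      _ = _ := by rw [e1, one_mul]
  have hyt : ∀ v, C.S.B u v = 0 → C.t * m v * C.t = (sg C.S u v : C.L) * m v := by
    intro v hv
    have hv' : C.S.B v u = 0 := by rw [C.symm]; exact hv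
    rw [hmv, conj3 C.tt, Y.conj_t, Y.conj_t, Y.conj_t, mul3 (Y.b_comm_y hv')
      (Y.b_comm_y (by rw [B_add, C.B_self, hv', add_zero]))
      (Y.b_comm_y (by rw [B_add, C.B_self, hv, add_zero]))]
    rfl
  have heq : ∀ k : C.L, C.S.ρ k u = u → ∀ v, (k : G) * m v * (k : G)⁻¹ = m (C.S.ρ k v) := by
    intro k hk v
    rw [hmv, hmv, ← Y.equiv k v]
    have e1 := Y.equiv k u
    have e2 := Y.equiv k (u + v)
    rw [map_add, hk] at e2
    rw [hk] at e1
    rw [← e2]
    nth_rewrite 2 [← e1]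
    group
  apply kill C hu m
  · intro v hv v0 vu
    have hv' : C.S.B v u = 0 := by rw [C.symm]; exact hv
    have hs1 := sw v (u + v) (by rw [map_add, C.B_self, hv', add_zero])
    have e5 := sw u (u + v) (by rw [map_add, C.B_self, hv, add_zero])
    have c1 := cs u v u hv (C.B_self u) hv
    have c2 := cs u v v hv hv' (C.B_self v)
    have s1 : sg C.S u (u + v) = sg C.S u v := sg_add C.S hv
    have s2 : sg C.S v (u + v) = sg C.S u v := by rw [add_comm u v, sg_add C.S hv', sg_comm C.S hv']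
    rw [s1] at e5
    rw [s2] at hs1
    have ss : ((sg C.S u v : C.L) : G) * (sg C.S u v : C.L) = 1 := by
      have := sg_sq C.S hv
      exact congrArg Subtype.val this
    rw [hmv v]
    exact sq3 ss (Y.sq _) e5 hs1 c1 c2 (hs u v hv)
  · intro v v' hv hv' hvv v0 vu v0' vu'
    have huv' : C.S.B v' u = 0 := by rw [C.symm]; exact hv'
    have hvv' : C.S.B v' v = 0 := by rw [C.symm]; exact hvv
    have e1 := my v u hv (C.B_self u) hv
    have e2 := my v v' hv huv' hvv'
    have e3 := my v (u + v') hv (by rw [B_add, C.B_self, huv', add_zero]) (by rw [B_add, hv, hvv', add_zero])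
    rw [hmv v']
    exact (Commute.mul_right (Commute.mul_right e1.symm e2.symm) e3.symm : Commute (m v) _)
  · exact heq
  · intro v v' hv hv' hvv v0 vu v0' vu' s0 su
    refine T_mem m heq (fun v hv _ _ => hyt v hv) (y u) (fun v hv _ _ => my v u hv (C.B_self u) hv)
      (fun k hk => (Y.comm_L hk).symm) ?_ hv hv' hvv v0 vu v0' vu' s0 su
    intro h1
    apply C.b_ne_one hu
    have h2 := Y.y_conj_t u
    rw [h1, mul_assoc, Y.sq, mul_one] at h2
    exact (left_eq_mul.1 h2)

/-- the case `cm = b u * b v` is impossible -/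
theorem not_bb (Y : YBase C y) {u : V} (hu : u ≠ 0)
    (h : ∀ p q, p ≠ 0 → q ∉ ln p → C.S.B p q = 0 → cm y p q = C.b p * C.b q) : False := by
  have := C.finV
  obtain ⟨z, hz⟩ : ∃ z : V → G, z = fun p => y p * C.t := ⟨_, rfl⟩
  have hzp : ∀ p, z p = y p * C.t := fun p => by rw [hz]
  have hzz : ∀ p, z p * z p = C.b p := by
    intro p
    rw [hzp]
    calc y p * C.t * (y p * C.t) = (y p * C.t * y p) * C.t := by group
      _ = C.t * (C.b p * C.t) := by rw [Y.y_conj_t]; group
      _ = C.b p := by rw [(C.t_comm (C.b_mem p)).eq, ← mul_assoc, C.tt, one_mul]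
  have hty : ∀ p, C.t * y p = C.b p * (y p * C.t) := by
    intro p
    calc C.t * y p = (C.t * y p * C.t) * C.t := by rw [mul_assoc, mul_assoc, C.tt, mul_one]
      _ = _ := by rw [Y.conj_t]; group
  have cbz : ∀ p q, C.S.B q p = 0 → C.b q * z p = z p * C.b q := by
    intro p q hpq
    rw [hzp]
    calc C.b q * (y p * C.t) = (C.b q * y p) * C.t := by group
      _ = y p * (C.b q * C.t) := by rw [Y.b_comm_y hpq]; group
      _ = y p * C.t * C.b q := by rw [(C.t_comm (C.b_mem q)).eq]; group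
  -- the `z p` commute
  have czz : ∀ p q, p ≠ 0 → q ≠ 0 → C.S.B p q = 0 → z p * z q = z q * z p := by
    intro p q hp hq hpq
    by_cases hne : p = q
    · rw [hne]
    have hqp : C.S.B q p = 0 := by rw [C.symm]; exact hpq
    have h1 : q ∉ ln p := by
      rw [mem_ln]
      push Not
      exact ⟨hq, Ne.symm hne⟩
    have h2 := swap_of (Y.sq p) (Y.sq q) (h p q hp h1 hpq)
    have e1 : z p * z q = y p * (C.b q * y q) := by
      rw [hzp, hzp]
      calc y p * C.t * (y q * C.t) = y p * (C.t * y q * C.t) := by group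
        _ = _ := by rw [Y.conj_t]
    have e2 : z q * z p = y q * (C.b p * y p) := by
      rw [hzp, hzp]
      calc y q * C.t * (y p * C.t) = y q * (C.t * y p * C.t) := by group
        _ = _ := by rw [Y.conj_t]
    rw [e1, e2]
    calc y p * (C.b q * y q) = (y p * C.b q) * y q := by group
      _ = C.b q * (y p * y q) := by rw [← Y.b_comm_y hqp]; group
      _ = (C.b q * C.b q) * C.b p * (y q * y p) := by
          rw [h2, C.b_comm hpq]; group
      _ = (C.b p * y q) * y p := by rw [C.b_sq]; group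
      _ = y q * (C.b p * y p) := by rw [Y.b_comm_y hpq]; group
  obtain ⟨m, hm⟩ : ∃ m : V → G, m = fun v => z u * z v * z (u + v) := ⟨_, rfl⟩
  have hmv : ∀ v, m v = z u * z v * z (u + v) := fun v => by rw [hm]
  have hne : ∀ v, v ≠ u → u + v ≠ 0 := fun v hv h1 => hv (eq_of_add _ _ h1).symm
  have mz : ∀ v q, v ≠ 0 → v ≠ u → q ≠ 0 → C.S.B q u = 0 → C.S.B q v = 0 → z q * m v = m v * z q := by
    intro v q v0 vu q0 h1 h2
    rw [hmv]
    exact (Commute.mul_right (Commute.mul_right (czz q u q0 hu h1) (czz q v q0 v0 h2))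
      (czz q (u + v) q0 (hne v vu) (by rw [map_add, h1, h2, add_zero])) : Commute (z q) _)
  have hzt : ∀ p, C.t * z p * C.t = C.b p * z p := by
    intro p
    rw [hzp, ← mul_assoc, mul_assoc, C.tt, mul_one, hty]
  have hkz : ∀ (k : C.L) (p : V), (k : G) * z p * (k : G)⁻¹ = z (C.S.ρ k p) := by
    intro k p
    rw [hzp, hzp, ← Y.equiv k p]
    have h1 : (k : G) * C.t = C.t * k := C.t_comm k.2
    calc (k : G) * (y p * C.t) * (k : G)⁻¹ = k * y p * (k : G)⁻¹ * (k * C.t) * (k : G)⁻¹ := by group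
      _ = _ := by rw [h1]; group
  have heq : ∀ k : C.L, C.S.ρ k u = u → ∀ v, (k : G) * m v * (k : G)⁻¹ = m (C.S.ρ k v) := by
    intro k hk v
    rw [hmv, hmv]
    have e1 := hkz k u
    have e2 := hkz k v
    have e3 := hkz k (u + v)
    rw [map_add, hk] at e3
    rw [hk] at e1
    rw [← e2, ← e3]
    nth_rewrite 2 [← e1]
    group
  apply kill C hu m
  · intro v hv v0 vu
    rw [hmv]
    have hv' : C.S.B v u = 0 := by rw [C.symm]; exact hv
    have h1 : Commute (z u) (z v) := czz u v hu v0 hv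
    have h2 : Commute (z u * z v) (z (u + v)) := Commute.mul_left
      (czz u (u + v) hu (hne v vu) (by rw [map_add, C.B_self, hv, add_zero]))
      (czz v (u + v) v0 (hne v vu) (by rw [map_add, C.B_self, hv', add_zero]))
    rw [h2.symm.mul_mul_mul_comm, h1.symm.mul_mul_mul_comm, hzz, hzz, hzz]
    rfl
  · intro v v' hv hv' hvv v0 vu v0' vu'
    have huv' : C.S.B v' u = 0 := by rw [C.symm]; exact hv'
    have hvv' : C.S.B v' v = 0 := by rw [C.symm]; exact hvv
    have e1 := mz v u v0 vu hu (C.B_self u) hv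
    have e2 := mz v v' v0 vu v0' huv' hvv'
    have e3 := mz v (u + v') v0 vu (hne v' vu') (by rw [B_add, C.B_self, huv', add_zero])
      (by rw [B_add, hv, hvv', add_zero])
    rw [hmv v']
    exact (Commute.mul_right (Commute.mul_right e1.symm e2.symm) e3.symm : Commute (m v) _)
  · exact heq
  · intro v v' hv hv' hvv v0 vu v0' vu' s0 su
    refine T_mem m heq (fun v hv v0 vu => ?_) (z u) (fun v hv v0 vu => mz v u v0 vu hu (C.B_self u) hv)
      (fun k hk => ?_) ?_ hv hv' hvv v0 vu v0' vu' s0 su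
    · have hv' : C.S.B v u = 0 := by rw [C.symm]; exact hv
      rw [hmv, conj3 C.tt, hzt, hzt, hzt, mul3 (cbz u v hv')
        (cbz u (u + v) (by rw [B_add, C.B_self, hv', add_zero]))
        (cbz v (u + v) (by rw [B_add, C.B_self, hv, add_zero]))]
      rfl
    · have h1 := hkz k u
      rw [hk] at h1
      exact (mul_inv_eq_iff_eq_mul.1 h1).symm
    · intro h1
      apply C.b_ne_one hu
      have h2 := hzt u
      rw [mul_assoc, h1, ← mul_assoc, C.tt, one_mul] at h2
      exact (right_eq_mul.1 h2)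

/-- **The dichotomy**: the `y u` of perpendicular vectors commute, or `(y u * y v)² = b (u + v)` for all of them. -/
theorem dichotomy (Y : YBase C y) : YData C y ∨
    ∀ u v, u ≠ 0 → v ≠ 0 → u ≠ v → C.S.B u v = 0 → y u * y v * y u * y v = C.b (u + v) := by
  have := C.finV
  -- one pair
  have hnt : ∃ u : V, u ≠ 0 := by
    by_contra hcon
    push Not at hcon
    have h1 : Nat.card V ≤ 1 := by
      rw [Finite.card_le_one_iff_subsingleton]
      exact ⟨fun a b => by rw [hcon a, hcon b]⟩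
    have := C.cardV
    omega
  obtain ⟨u, hu⟩ := hnt
  obtain ⟨v, hv, hv'⟩ := room C.S C.cardV (A := ln u) (A' := ln u) (by
    have := finrank_ln_le u
    omega)
  have huv : C.S.B u v = 0 := by rw [C.symm]; exact hv u (self_mem_ln u)
  have tr : ∀ p q, p ≠ 0 → q ∉ ln p → C.S.B p q = 0 → ∃ g : C.L, C.S.ρ g u = p ∧ C.S.ρ g v = q :=
    fun p q hp hq hpq => trans_pl C.S hu hv' huv hp hq hpq
  rcases cm_cases Y hu hv' huv with h | h | h | h
  · left
    refine ⟨Y, fun p q hpq => ?_⟩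
    by_cases hp : p = 0
    · rw [hp, Y.zero, one_mul, mul_one]
    by_cases hq : q ∈ ln p
    · rcases mem_ln.1 hq with rfl | rfl
      · rw [Y.zero, one_mul, mul_one]
      · rfl
    · obtain ⟨g, h1, h2⟩ := tr p q hp hq hpq
      have h3 := cm_conj Y g u v
      rw [h, h1, h2, mul_one, mul_inv_cancel] at h3
      have h4 := swap_of (Y.sq p) (Y.sq q) h3.symm
      rw [one_mul] at h4
      exact h4
  · exfalso
    refine not_bb Y hu fun p q hp hq hpq => ?_
    obtain ⟨g, h1, h2⟩ := tr p q hp hq hpq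
    have h3 := cm_conj Y g u v
    rw [h, h1, h2] at h3
    rw [← h3, ← h1, ← h2, ← C.b_conj, ← C.b_conj]
    group
  · right
    intro p q hp hq0 hne hpq
    have hq : q ∉ ln p := notMem_ln hq0 (Ne.symm hne)
    obtain ⟨g, h1, h2⟩ := tr p q hp hq hpq
    have h3 := cm_conj Y g u v
    rw [h, h1, h2, C.b_conj, map_add, h1, h2] at h3
    exact h3.symm
  · exfalso
    refine not_sg Y hu fun p q hp hq hpq => ?_
    obtain ⟨g, h1, h2⟩ := tr p q hp hq hpq
    have h3 := cm_conj Y g u v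
    rw [h, h1, h2] at h3
    rw [← h3, ← h1, ← h2, ← conj_sg]
    rfl

end Cfsg.Agent.OddHalf.SpTwoN.Dich

end

-- merged: Cfsg.Agent.OddHalf.SpTwo.PatSInv
section

/-!
# `Sp_{2n}(2)`, pattern {short}: involutions in `t b_w R_u`
-/

set_option autoImplicit false

namespace Cfsg.Agent.OddHalf.SpTwo.PatS

open Cfsg.Agent.StandardComponent.SpTwo

variable {G X V : Type*} [Group G] [Group X] [AddCommGroup V] [Module (ZMod 2) V]

namespace Data

variable {D : Data G X V}

variable {u v w c : V} {r : G}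

theorem tb_sq (w : V) : D.t * D.b w * (D.t * D.b w) = 1 := by
  calc D.t * D.b w * (D.t * D.b w) = D.t * (D.b w * D.t) * D.b w := by group
    _ = (D.t * D.t) * (D.b w * D.b w) := by rw [← tb]; group
    _ = 1 := by rw [D.tt, b_sq, one_mul]

theorem b_inv (w : V) : (D.b w)⁻¹ = D.b w := inv_eq_of_mul_eq_one_left (b_sq w)

theorem ρτu (hw : D.S.B u w = 0) : D.S.ρ (D.S.τ w) u = u := by rw [D.S.hτ, hw, zero_smul, add_zero]

theorem conj_tbq (hw : D.S.B u w = 0) (v : V) (i : ZMod 2) :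
    D.t * D.b w * D.q u v i * (D.t * D.b w) = D.q u (v + D.S.B v w • w) i := by
  have h1 : D.b w * D.q u v i = D.q u (v + D.S.B v w • w) i * D.b w := by
    have := ιq (D := D) (D.S.τ w) u v i
    rwa [ρτu hw, D.S.hτ] at this
  calc D.t * D.b w * D.q u v i * (D.t * D.b w) = D.t * (D.b w * D.q u v i) * D.t * D.b w := by group
    _ = (D.t * D.q u (v + D.S.B v w • w) i) * (D.b w * D.t) * D.b w := by rw [h1]; group
    _ = D.q u (v + D.S.B v w • w) i * (D.t * D.t) * (D.b w * D.b w) := by rw [tq, ← tb]; group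
    _ = _ := by rw [D.tt, b_sq, mul_one, mul_one]

theorem InR.conj_tb (hw : D.S.B u w = 0) (h : D.InR u r) : D.InR u (D.t * D.b w * r * (D.t * D.b w)) := by
  have h1 := (h.conj_fix (ρτu hw)).conjt
  have h2 : D.t * (D.ι (D.S.τ w) * r * (D.ι (D.S.τ w))⁻¹) * D.t = D.t * D.b w * r * (D.t * D.b w) := by
    change D.t * (D.b w * r * (D.b w)⁻¹) * D.t = _
    rw [b_inv]
    calc D.t * (D.b w * r * D.b w) * D.t = D.t * D.b w * r * (D.b w * D.t) := by group
      _ = _ := by rw [← tb]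
  rwa [h2] at h1

theorem Tr.conj_tb (hw : D.S.B u w = 0) (h : D.Tr u c r) :
    D.Tr u (c + D.S.B c w • w) (D.t * D.b w * r * (D.t * D.b w)) := by
  have h0 := h.conjK (D.S.τ w)
  rw [ρτu hw, D.S.hτ] at h0
  have h1 := ((Tr.of_t (D := D) u).mul h0).mul (Tr.of_t u)
  rw [zero_add, add_zero] at h1
  have h2 : D.t * (D.ι (D.S.τ w) * r * (D.ι (D.S.τ w))⁻¹) * D.t = D.t * D.b w * r * (D.t * D.b w) := by
    change D.t * (D.b w * r * (D.b w)⁻¹) * D.t = _
    rw [b_inv]
    calc D.t * (D.b w * r * D.b w) * D.t = D.t * D.b w * r * (D.b w * D.t) := by group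
      _ = _ := by rw [← tb]
  rwa [h2] at h1

/-- `B v w • w ∈ {0, u}` -/
theorem smul_cases (hw0 : w ≠ 0) (hwu : w ≠ u) {a : ZMod 2} (h : a • w = 0 ∨ a • w = u) : a = 0 := by
  rcases z2 a with rfl | rfl
  · rfl
  · rw [one_smul] at h
    rcases h with h | h
    · exact absurd h hw0
    · exact absurd h hwu

theorem C7a0 (hu : u ≠ 0) (hw : D.S.B u w = 0) (hw0 : w ≠ 0) (hwu : w ≠ u) (i : ZMod 2) :
    ∃ g, D.InR u g ∧ ∃ w', g * (D.q u 0 i * (D.t * D.b w)) * g⁻¹ = D.t * D.b w' := by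
  rcases z2 i with rfl | rfl
  · exact ⟨1, InR.one, w, by rw [q_zero_zero]; group⟩
  · obtain ⟨z, hz, hT⟩ := exZ (D := D) hw hu hw0 hwu.symm
    have hzi : z⁻¹ = z := inv_eq_of_mul_eq_one_left hz.sq
    have hwu' : D.S.B w (u + w) = 0 := by rw [map_add, D.S.symm w u, hw, D.S.alt, add_zero]
    have huu' : D.S.B u (u + w) = 0 := by rw [map_add, hw, D.S.alt, add_zero]
    refine ⟨z, InR.of_z hu hT hz.sq (by rintro (h | h); exacts [hw0 h, hwu h]), u + w, ?_⟩
    have e1 : D.q u w 0 * D.b (u + w) = D.b u * D.b w := by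
      rw [q_eq_b, zero_smul, b_zero, mul_one, mul_assoc, b_sq, mul_one]
    have e2 : z * (D.t * D.b (u + w)) = D.t * (D.b u * D.b w) * z := by
      calc z * (D.t * D.b (u + w)) = (z * D.t) * D.b (u + w) := by group
        _ = D.t * D.q u w 0 * (z * D.b (u + w)) := by rw [hT.2.1]; group
        _ = D.t * (D.q u w 0 * D.b (u + w)) * z := by rw [hz.comm _ huu' hwu']; group
        _ = _ := by rw [e1]
    have e3 : D.q u 0 1 * (D.t * D.b w) = D.t * (D.b u * D.b w) := by
      rw [q_zero_one, ← mul_assoc, ← tb, mul_assoc]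
    rw [e3, hzi]
    calc z * (D.t * (D.b u * D.b w)) * z = z * (D.t * (D.b u * D.b w) * z) := by group
      _ = (z * z) * (D.t * D.b (u + w)) := by rw [← e2]; group
      _ = _ := by rw [hz.sq, one_mul]

theorem C7a (hu : u ≠ 0) (hw : D.S.B u w = 0) (hw0 : w ≠ 0) (hwu : w ≠ u) (hv : D.S.B u v = 0)
    (hvw : D.S.B v w = 0) (i : ZMod 2) :
    ∃ g, D.InR u g ∧ ∃ w', g * (D.q u v i * (D.t * D.b w)) * g⁻¹ = D.t * D.b w' := by
  by_cases h0 : v = 0 ∨ v = u
  · have : D.q u v i = D.q u 0 i := by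
      rcases h0 with rfl | rfl
      · rfl
      · have := q_add_self (D := D) (u := v) (w := 0) (map_zero _) i
        rwa [zero_add] at this
    rw [this]
    exact C7a0 hu hw hw0 hwu i
  · have h0' := h0
    push Not at h0'
    obtain ⟨z, hz, hT⟩ := exZ (D := D) hv hu h0'.1 h0'.2.symm
    obtain ⟨g, hg, w', hgw⟩ := C7a0 (D := D) hu hw hw0 hwu i
    have hzi : z⁻¹ = z := inv_eq_of_mul_eq_one_left hz.sq
    refine ⟨g * z, InR.mul hu hg (InR.of_z hu hT hz.sq h0), w', ?_⟩
    rw [← hgw]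
    have e1 : z * (D.q u 0 i * (D.t * D.b w)) * z = D.q u v i * (D.t * D.b w) := by
      have f1 : z * D.q u 0 i = D.q u 0 i * z := by
        have := hT.2.2 0 i (map_zero _)
        rwa [map_zero, add_zero] at this
      calc z * (D.q u 0 i * (D.t * D.b w)) * z = (z * D.q u 0 i) * D.t * D.b w * z := by group
        _ = D.q u 0 i * (z * D.t) * D.b w * z := by rw [f1]; group
        _ = D.q u 0 i * D.t * D.q u v 0 * (z * D.b w) * z := by rw [hT.2.1]; group
        _ = D.q u 0 i * D.t * D.q u v 0 * D.b w * (z * z) := by rw [hz.comm w hw hvw]; group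
        _ = D.q u 0 i * (D.t * D.q u v 0) * D.b w := by rw [hz.sq]; group
        _ = (D.q u 0 i * D.q u v 0) * (D.t * D.b w) := by rw [tq]; group
        _ = _ := by
          rw [q_mul (map_zero _) hv, zero_add, map_zero, LinearMap.zero_apply, zero_add, add_zero]
    rw [← e1]
    calc g * z * (z * (D.q u 0 i * (D.t * D.b w)) * z) * (g * z)⁻¹
        = g * (z * z) * (D.q u 0 i * (D.t * D.b w)) * g⁻¹ := by rw [mul_inv_rev]; group
      _ = _ := by rw [hz.sq, mul_one]

/-- involutions in `t b_w R_u`, `w ≠ 0` -/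
theorem C7b (hu : u ≠ 0) (hw : D.S.B u w = 0) (hw0 : w ≠ 0) (hwu : w ≠ u) (hr : D.InR u r)
    (h : r * (D.t * D.b w) * (r * (D.t * D.b w)) = 1) :
    ∃ g, D.InR u g ∧ ∃ w', g * (r * (D.t * D.b w)) * g⁻¹ = D.t * D.b w' := by
  have htt := tb_sq (D := D) w
  obtain ⟨t', ht'⟩ : ∃ t', t' = D.t * D.b w := ⟨_, rfl⟩
  have hinv : t' * r * t' = r⁻¹ := by
    rw [eq_inv_iff_mul_eq_one, ht']
    calc D.t * D.b w * r * (D.t * D.b w) * r = r⁻¹ * (r * (D.t * D.b w) * (r * (D.t * D.b w))) * r := by group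
      _ = 1 := by rw [h]; group
  have hcq : ∀ v i, t' * D.q u v i * t' = D.q u (v + D.S.B v w • w) i := by
    intro v i; rw [ht']; exact conj_tbq hw v i
  have huvw : ∀ {v}, D.S.B u v = 0 → D.S.B u (v + D.S.B v w • w) = 0 := by
    intro v hv; simp [hv, hw]
  -- `q (v + B v w w) i = q v j` forces `B v w = 0`
  have hfix : ∀ {v} {i j : ZMod 2}, D.S.B u v = 0 → D.q u (v + D.S.B v w • w) i = D.q u v j → D.S.B v w = 0 := by
    intro v i j hv h1
    have h2 := (q_eq hu hv (huvw hv) h1.symm).1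
    apply smul_cases hw0 hwu
    rcases h2 with h2 | h2
    · left; simpa using h2
    · right; exact add_left_cancel h2
  obtain ⟨c, hc⟩ := hr.1
  have hcw : D.S.B c w = 0 := by
    have h1 := hc.conj_tb hw
    rw [← ht', hinv] at h1
    have h2 := (hc.inv.uniq hu h1.1 h1.2.1).2
    apply smul_cases hw0 hwu
    rcases h2 with h2 | h2
    · left; simpa using h2
    · right; exact add_left_cancel h2
  by_cases hc0 : c = 0 ∨ c = u
  · obtain ⟨v, i, hv, rfl⟩ := hr.ker hu hc hc0
    have h1 : (D.q u v i)⁻¹ = D.q u v i := inv_eq_of_mul_eq_one_left (q_sq hv i)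
    rw [hcq, h1] at hinv
    exact C7a hu hw hw0 hwu hv (hfix hv hinv) i
  · have hc0' := hc0
    push Not at hc0'
    obtain ⟨z, hz, hTz⟩ := exZ (D := D) hc.1 hu hc0'.1 hc0'.2.symm
    obtain ⟨v, i, hv, hrz⟩ := hr.eq_zq hu hc hc0 hTz hz.sq
    have hzb : z * D.b w = D.b w * z := hz.comm w hw hcw
    have htz : t' * z * t' = z * D.q u c 0 := by
      have e1 : z * D.q u c 0 = D.q u c 0 * z := by
        rw [hTz.2.2 c 0 hc.1, D.S.alt, add_zero]
      rw [e1, ht']
      calc D.t * D.b w * z * (D.t * D.b w) = D.t * (D.b w * z) * D.t * D.b w := by group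
        _ = D.t * z * (D.b w * D.t) * D.b w := by rw [← hzb]; group
        _ = D.t * (z * D.t) * (D.b w * D.b w) := by rw [← tb]; group
        _ = (D.t * D.t) * D.q u c 0 * z := by rw [hTz.2.1, b_sq]; group
        _ = _ := by rw [D.tt, one_mul]
    have htt' : t' * t' = 1 := by rw [ht']; exact htt
    have h1 : D.q u c 0 * D.q u (v + D.S.B v w • w) i = D.q u v (i + D.S.B c v) := by
      have e1 : t' * r * t' = z * (D.q u c 0 * D.q u (v + D.S.B v w • w) i) := by
        rw [hrz, ← hcq]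
        calc t' * (z * D.q u v i) * t' = t' * z * 1 * D.q u v i * t' := by group
          _ = (t' * z * t') * (t' * D.q u v i * t') := by rw [← htt']; group
          _ = _ := by rw [htz]; group
      have e2 : r⁻¹ = z * D.q u v (i + D.S.B c v) := by
        rw [hrz, mul_inv_rev, inv_eq_of_mul_eq_one_left (q_sq hv i), inv_eq_of_mul_eq_one_left hz.sq,
          hTz.2.2 _ _ hv, add_assoc, z_add_self, add_zero]
      rw [hinv, e2] at e1
      exact (mul_left_cancel e1).symm
    rw [q_mul hc.1 (huvw hv)] at h1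
    have h2 := (q_eq hu hv (by rw [map_add, hc.1, huvw hv, add_zero]) h1.symm).1
    have h3 : D.S.B v w = 1 ∧ (c = w ∨ c = w + u) := by
      rcases z2 (D.S.B v w) with h4 | h4
      · exfalso
        rw [h4, zero_smul, add_zero] at h2
        rcases h2 with h2 | h2
        · exact hc0'.1 (by simpa using h2)
        · exact hc0'.2 (add_right_cancel (by rw [h2, add_comm]))
      · refine ⟨h4, ?_⟩
        rw [h4, one_smul] at h2
        rcases h2 with h2 | h2
        · left
          apply eq_of_add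
          have : c + w + v = 0 + v := by rw [zero_add, add_assoc, add_comm w v]; exact h2
          exact add_right_cancel this
        · right
          have : c + w + v = u + v := by rw [add_assoc, add_comm w v, h2, add_comm]
          have h5 := add_right_cancel this
          rw [← h5, add_comm c w, aac]
    obtain ⟨hvw, hcc⟩ := h3
    have hTr : D.Tr u w r := by
      rcases hcc with rfl | rfl
      · exact hc
      · have := hc.add_self
        rwa [aab] at this
    have hv0 : v ≠ 0 := by rintro rfl; simp at hvw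
    have hvu : v ≠ u := by rintro rfl; rw [hw] at hvw; exact absurd hvw (by decide)
    obtain ⟨y, hy, hTy⟩ := exZ (D := D) hv hu hv0 hvu.symm
    have hyR : D.InR u y := InR.of_z hu hTy hy.sq (by rintro (h | h); exacts [hv0 h, hvu h])
    obtain ⟨E, hE⟩ : ∃ E, E = y * (t' * y * t') := ⟨_, rfl⟩
    have hER : D.InR u E := by
      rw [hE, ht']; exact InR.mul hu hyR (hyR.conj_tb hw)
    have hET : D.Tr u w E := by
      have h4 := hTy.mul (hTy.conj_tb hw)
      rw [hvw, one_smul, aac, ← ht', ← hE] at h4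
      exact h4
    obtain ⟨v', i', hv', hEr⟩ := (InR.mul hu hER.inv hr).ker hu (hET.inv.mul hTr) (Or.inl (aa w))
    have hrE : r = E * D.q u v' i' := by rw [← hEr]; group
    have hEt : E * t' = y * t' * y := by
      rw [hE]
      calc y * (t' * y * t') * t' = y * t' * y * (t' * t') := by group
        _ = _ := by rw [htt', mul_one]
    have htE : t' * E * t' = E⁻¹ := by
      rw [eq_inv_iff_mul_eq_one]
      calc t' * E * t' * E = t' * (E * t') * E * (t' * t') := by rw [htt']; group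
        _ = t' * (E * t') * (E * t') * t' := by group
        _ = t' * y * t' * (y * y) * t' * y * t' := by rw [hEt]; group
        _ = t' * y * (t' * t') * y * t' := by rw [hy.sq]; group
        _ = t' * (y * y) * t' := by rw [htt']; group
        _ = 1 := by rw [hy.sq, mul_one, htt']
    have hvw' : D.S.B v' w = 0 := by
      have e1 : t' * r * t' = E⁻¹ * D.q u (v' + D.S.B v' w • w) i' := by
        rw [hrE, ← hcq, ← htE]
        calc t' * (E * D.q u v' i') * t' = t' * E * 1 * D.q u v' i' * t' := by group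
          _ = _ := by rw [← htt']; group
      have e2 : r⁻¹ = E⁻¹ * D.q u v' (i' + D.S.B w v') := by
        rw [hrE, mul_inv_rev, inv_eq_of_mul_eq_one_left (q_sq hv' i'), hET.inv.2.2 _ _ hv', add_assoc, z_add_self,
          add_zero]
      rw [hinv, e2] at e1
      exact hfix hv' (mul_left_cancel e1).symm
    have hqt : t' * D.q u v' (i' + D.S.B v v') * t' = D.q u v' (i' + D.S.B v v') := by
      rw [hcq, hvw', zero_smul, add_zero]
    have hfin : y * (r * t') * y = D.q u v' (i' + D.S.B v v') * t' := by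
      have e0 : t' * D.q u v' i' * t' = D.q u v' i' := by rw [hcq, hvw', zero_smul, add_zero]
      have e3 : D.q u v' i' * t' = t' * D.q u v' i' := by
        calc D.q u v' i' * t' = (t' * t') * D.q u v' i' * t' := by rw [htt', one_mul]
          _ = t' * (t' * D.q u v' i' * t') := by group
          _ = _ := by rw [e0]
      calc y * (r * t') * y = y * E * (D.q u v' i' * t') * y := by rw [hrE]; group
        _ = y * (E * t') * D.q u v' i' * y := by rw [e3]; group
        _ = (y * y) * t' * (y * D.q u v' i') * y := by rw [hEt]; group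
        _ = t' * (y * D.q u v' i') * y := by rw [hy.sq, one_mul]
        _ = t' * D.q u v' (i' + D.S.B v v') * (y * y) := by rw [hTy.2.2 _ _ hv']; group
        _ = t' * D.q u v' (i' + D.S.B v v') * (t' * t') := by rw [hy.sq, htt']
        _ = (t' * D.q u v' (i' + D.S.B v v') * t') * t' := by group
        _ = _ := by rw [hqt]
    obtain ⟨g, hg, w', hgw⟩ := C7a (D := D) hu hw hw0 hwu hv' hvw' (i' + D.S.B v v')
    refine ⟨g * y, InR.mul hu hg hyR, w', ?_⟩
    rw [← hgw, ← ht', ← hfin]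
    calc g * y * (r * t') * (g * y)⁻¹ = g * y * (r * t') * y⁻¹ * g⁻¹ := by rw [mul_inv_rev]; group
      _ = _ := by rw [inv_eq_of_mul_eq_one_left hy.sq]; group

/-- involutions in `t R_u` -/
theorem C7c (hu : u ≠ 0) (hr : D.InR u r) (h : r * D.t * (r * D.t) = 1) :
    ∃ g, D.InR u g ∧ ∃ w', g * (r * D.t) * g⁻¹ = D.t * D.b w' := by
  have hinv : D.t * r * D.t = r⁻¹ := by
    rw [eq_inv_iff_mul_eq_one]
    calc D.t * r * D.t * r = r⁻¹ * (r * D.t * (r * D.t)) * r := by group
      _ = 1 := by rw [h]; group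
  obtain ⟨c, hc⟩ := hr.1
  by_cases hc0 : c = 0 ∨ c = u
  · obtain ⟨v, i, hv, rfl⟩ := hr.ker hu hc hc0
    by_cases h0 : v = 0 ∨ v = u
    · have : D.q u v i = D.q u 0 i := by
        rcases h0 with rfl | rfl
        · rfl
        · have := q_add_self (D := D) (u := v) (w := 0) (map_zero _) i
          rwa [zero_add] at this
      refine ⟨1, InR.one, i • u, ?_⟩
      rw [this, q_zero, tb]; group
    · have h0' := h0
      push Not at h0'
      obtain ⟨z, hz, hT⟩ := exZ (D := D) hv hu h0'.1 h0'.2.symm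
      have hzi : z⁻¹ = z := inv_eq_of_mul_eq_one_left hz.sq
      refine ⟨z, InR.of_z hu hT hz.sq h0, i • u, ?_⟩
      rw [← q_zero, hzi]
      have e1 : z * (D.t * D.q u 0 i) * z = D.q u v i * D.t := by
        have f1 : z * D.q u 0 i = D.q u 0 i * z := by
          have := hT.2.2 0 i (map_zero _)
          rwa [map_zero, add_zero] at this
        calc z * (D.t * D.q u 0 i) * z = (z * D.t) * D.q u 0 i * z := by group
          _ = D.t * D.q u v 0 * (z * D.q u 0 i) * z := by rw [hT.2.1]; group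
          _ = D.t * (D.q u v 0 * D.q u 0 i) * (z * z) := by rw [f1]; group
          _ = _ := by
            rw [hz.sq, mul_one, q_mul hv (map_zero _), add_zero, map_zero, zero_add, zero_add, tq]
      rw [← e1]
      calc z * (z * (D.t * D.q u 0 i) * z) * z = (z * z) * (D.t * D.q u 0 i) * (z * z) := by group
        _ = _ := by rw [hz.sq]; group
  · exfalso
    have hc0' := hc0
    push Not at hc0'
    obtain ⟨z, hz, hTz⟩ := exZ (D := D) hc.1 hu hc0'.1 hc0'.2.symm
    obtain ⟨v, i, hv, hrz⟩ := hr.eq_zq hu hc hc0 hTz hz.sq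
    have e1 : D.t * r * D.t = z * (D.q u c 0 * D.q u v i) := by
      have f1 : z * D.q u c 0 = D.q u c 0 * z := by
        rw [hTz.2.2 c 0 hc.1, D.S.alt, add_zero]
      rw [hrz]
      calc D.t * (z * D.q u v i) * D.t = D.t * z * (D.q u v i * D.t) := by group
        _ = D.t * (z * D.t) * D.q u v i := by rw [← tq]; group
        _ = (D.t * D.t) * D.q u c 0 * z * D.q u v i := by rw [hTz.2.1]; group
        _ = _ := by rw [D.tt, one_mul, ← f1]; group
    have e2 : r⁻¹ = z * D.q u v (i + D.S.B c v) := by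
      rw [hrz, mul_inv_rev, inv_eq_of_mul_eq_one_left (q_sq hv i), inv_eq_of_mul_eq_one_left hz.sq,
        hTz.2.2 _ _ hv, add_assoc, z_add_self, add_zero]
    rw [hinv, e2] at e1
    have e3 := (mul_left_cancel e1)
    rw [q_mul hc.1 hv] at e3
    rcases (q_eq hu hv (by rw [map_add, hc.1, hv, add_zero]) e3).1 with h4 | h4
    · exact hc0'.1 (by simpa using h4)
    · exact hc0'.2 (add_right_cancel (by rw [h4, add_comm]))

end Data

end Cfsg.Agent.OddHalf.SpTwo.PatS

end

-- merged: Cfsg.Agent.OddHalf.SpTwo.PatSIdx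
section

/-!
# `Sp_{2n}(2)`: parities of indices
-/

set_option autoImplicit false

namespace Cfsg.Agent.OddHalf.SpTwo.PatS

open Cfsg.Agent.StandardComponent.SpTwo

theorem relIndex_of_prod {Γ : Type*} [Group Γ] {H L K : Subgroup Γ} (hLK : L ≤ K)
    (h : ∀ k ∈ K, ∃ l ∈ L, ∃ g ∈ H, k = l * g) : H.relIndex K = H.relIndex L := by
  symm
  unfold Subgroup.relIndex Subgroup.index
  refine Nat.card_congr (Equiv.ofBijective (Subgroup.quotientSubgroupOfEmbeddingOfLE H hLK) ⟨?_, ?_⟩)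
  · exact (Subgroup.quotientSubgroupOfEmbeddingOfLE H hLK).injective
  · intro q
    obtain ⟨k, rfl⟩ := QuotientGroup.mk_surjective q
    obtain ⟨l, hl, g, hg, hk⟩ := h k k.2
    refine ⟨((⟨l, hl⟩ : L) : L ⧸ H.subgroupOf L), ?_⟩
    rw [Subgroup.quotientSubgroupOfEmbeddingOfLE_apply_mk, QuotientGroup.eq, Subgroup.mem_subgroupOf]
    have : (((Subgroup.inclusion hLK ⟨l, hl⟩)⁻¹ * k : K) : Γ) = g := by
      change l⁻¹ * (k : Γ) = g
      rw [hk]; group
    rw [this]; exact hg

variable {X V : Type*} [Group X] [AddCommGroup V] [Module (ZMod 2) V] (S : SpData X V)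

/-- stabilizer of a vector -/
def Xu (u : V) : Subgroup X where
  carrier := {k | S.ρ k u = u}
  mul_mem' := by
    intro a b h1 h2
    change S.ρ (a * b) u = u
    rw [S.ρ_mul, h2, h1]
  one_mem' := S.ρ_one u
  inv_mem' := by
    intro a h1
    change S.ρ a⁻¹ u = u
    conv_lhs => rw [← h1, S.ρ_inv_apply]

variable {S}

theorem exists_move {u v : V} (hu : u ≠ 0) (hv : v ≠ 0) : ∃ k, S.ρ k u = v := by
  have key : ∀ {u v : V}, S.B u v = 1 → ∃ k, S.ρ k u = v := by
    intro u v h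
    refine ⟨S.τ (u + v), ?_⟩
    rw [S.hτ, map_add, S.alt, h, zero_add, one_smul, aac]
  by_cases huv : u = v
  · exact ⟨1, by rw [S.ρ_one, huv]⟩
  obtain ⟨x1, h1, h2⟩ := S.exists_sep hu huv
  obtain ⟨x2, h3, h4⟩ := S.exists_sep hv (Ne.symm huv)
  have h5 : S.B u (x1 + x2) = 1 := by rw [map_add, S.symm u x1, S.symm u x2, h1, h4, add_zero]
  have h6 : S.B (x1 + x2) v = 1 := by rw [map_add, LinearMap.add_apply, h2, h3, zero_add]
  obtain ⟨k1, hk1⟩ := key h5
  obtain ⟨k2, hk2⟩ := key h6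
  exact ⟨k2 * k1, by rw [S.ρ_mul, hk1, hk2]⟩

theorem odd_index_Xu [Finite V] {u : V} (hu : u ≠ 0) : Odd (Xu S u).index := by
  letI : MulAction X V :=
    { smul := fun k v => S.ρ k v
      one_smul := S.ρ_one
      mul_smul := S.ρ_mul }
  have h1 : MulAction.stabilizer X u = Xu S u := rfl
  rw [← h1, MulAction.index_stabilizer]
  have h2 : MulAction.orbit X u = ({0}ᶜ : Set V) := by
    ext v
    rw [Set.mem_compl_singleton_iff]
    constructor
    · rintro ⟨k, rfl⟩ h
      apply hu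
      have h3 : S.ρ k u = S.ρ k 0 := by rw [map_zero]; exact h
      exact S.ρ_inj k h3
    · intro hv
      obtain ⟨k, hk⟩ := exists_move (S := S) hu hv
      exact ⟨k, hk⟩
  rw [h2, Set.ncard_compl, Set.ncard_singleton]
  have h3 : addOrderOf u = 2 := addOrderOf_eq_prime (by rw [two_nsmul, aa]) hu
  have h4 : 2 ∣ Nat.card V := by rw [← h3]; exact addOrderOf_dvd_natCard u
  have h5 : 0 < Nat.card V := Nat.card_pos
  rw [Nat.odd_iff]
  omega

/-- `X_u = C_X(u,u') Q_u` -/
theorem exists_q {u u' : V} (h : S.B u u' = 1) {k : X} (hk : S.ρ k u = u) :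
    ∃ l ∈ X1 S u u', ∃ (c : V) (j : ZMod 2), S.B u c = 0 ∧ k = l * (s S u c * S.τ (j • u)) := by
  have hk' : S.ρ k⁻¹ u = u := by conv_lhs => rw [← hk, S.ρ_inv_apply]
  obtain ⟨c, hc⟩ : ∃ c, c = u' + S.ρ k⁻¹ u' := ⟨_, rfl⟩
  have huc : S.B u c = 0 := by
    have h1 := S.inv k⁻¹ u u'
    rw [hk'] at h1
    rw [hc, map_add, h1, h]; decide
  have h2 : S.ρ (s S u c * S.τ (S.B u' c • u)) u' = S.ρ k⁻¹ u' := by
    rw [ρ_q huc, S.symm u' u, h, one_smul, mul_one, add_assoc, aa, add_zero, hc, aac]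
  have h3 : S.ρ (s S u c * S.τ (S.B u' c • u)) u = u := by
    rw [ρ_q huc, S.alt, huc]; simp
  refine ⟨k * (s S u c * S.τ (S.B u' c • u)), ⟨?_, ?_⟩, c, S.B u' c, huc, ?_⟩
  · rw [S.ρ_mul, h3, hk]
  · rw [S.ρ_mul, h2, S.ρ_apply_inv]
  · have h4 : s S u c * S.τ (S.B u' c • u) * (s S u c * S.τ (S.B u' c • u)) = 1 := by
      rw [q_mul huc huc, aa, s_zero, S.alt, zero_add, one_mul, z_add_self, zero_smul, S.τ_zero]
    rw [mul_assoc, h4, mul_one]

end Cfsg.Agent.OddHalf.SpTwo.PatS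

end

-- merged: Cfsg.Agent.OddHalf.SpTwo.PatSMain
section

/-!
# `Sp_{2n}(2)`, pattern {short}: the 2-subgroup `S_0` and the transfer
-/

set_option autoImplicit false

namespace Cfsg.Agent.OddHalf.SpTwo.PatS

open Cfsg.Agent.StandardComponent.SpTwo

variable {G X V : Type*} [Group G] [Group X] [AddCommGroup V] [Module (ZMod 2) V]

namespace Data

variable (D : Data G X V)

/-- A subgroup `S_0` normalised by `t`, containing a Sylow 2-subgroup of `X`, such that the involutions of `t S_0`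
are conjugate to some `t b_w`. -/
def Good : Prop := ∃ S₀ : Subgroup G, (∀ s ∈ S₀, D.t * s * D.t ∈ S₀) ∧ D.t ∉ S₀ ∧ Odd (S₀.comap D.ι).index ∧
  ∀ s ∈ S₀, D.t * s * (D.t * s) = 1 → ∃ g ∈ S₀, ∃ w, g * (D.t * s) * g⁻¹ = D.t * D.b w

variable {D}

theorem good_base (hV : ∀ v : V, v = 0) : D.Good := by
  refine ⟨⊥, ?_, ?_, ?_, ?_⟩
  · intro s hs
    rw [Subgroup.mem_bot] at hs
    rw [hs, mul_one, D.tt]; exact Subgroup.one_mem _
  · intro h
    rw [Subgroup.mem_bot] at h
    exact D.tmem 1 (by rw [map_one, h])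
  · have h1 : ∀ k : X, k = 1 := by
      intro k
      apply D.S.ext_iff
      intro v
      rw [hV (D.S.ρ k v), hV (D.S.ρ 1 v)]
    have h2 : Subgroup.comap D.ι ⊥ = ⊤ := by
      rw [eq_top_iff]
      intro k _
      rw [h1 k]; exact Subgroup.one_mem _
    rw [h2, Subgroup.index_top]
    exact odd_one
  · intro s hs _
    rw [Subgroup.mem_bot] at hs
    refine ⟨1, Subgroup.one_mem _, 0, ?_⟩
    rw [hs, b_zero]; group

variable {u u' : V}

/-- `R_u ∩ C(b_u') = 1` -/
theorem R_cap (hu : u ≠ 0) (h : D.S.B u u' = 1) {r : G} (hr : D.InR u r) (hc : r * D.b u' = D.b u' * r) : r = 1 := by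
  obtain ⟨c, hT⟩ := hr.1
  have h1 : D.S.ρ (s D.S u c) u' = u' := by
    apply fix_of_comm (D := D)
    rw [← q0]
    have e1 : D.q u c 0 = D.t * r * D.t * r⁻¹ := by
      calc D.q u c 0 = (D.t * D.t) * D.q u c 0 * r * r⁻¹ := by rw [D.tt]; group
        _ = D.t * (D.t * D.q u c 0 * r) * r⁻¹ := by group
        _ = _ := by rw [← hT.2.1]; group
    have e2 : Commute (D.t * r * D.t * r⁻¹) (D.b u') := by
      have f1 : Commute D.t (D.b u') := tb u'
      have f2 : Commute r (D.b u') := hc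
      exact ((f1.mul_left f2).mul_left f1).mul_left f2.inv_left
    rw [e1]; exact e2
  have hc0 : c = 0 ∨ c = u := by
    rw [ρ_s hT.1, D.S.symm u' u, h, one_smul] at h1
    have h2 : c + D.S.B u' c • u = 0 := by
      have : u' + (c + D.S.B u' c • u) = u' + 0 := by rw [add_zero, ← add_assoc]; exact h1
      exact add_left_cancel this
    have h3 := eq_of_add _ _ h2
    rcases z2 (D.S.B u' c) with h4 | h4 <;> rw [h4] at h3
    · left; rw [h3, zero_smul]
    · right; rw [h3, one_smul]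
  obtain ⟨w, j, hw, hrq⟩ := hr.ker hu hT hc0
  have h2 : D.S.ρ (s D.S u w * D.S.τ (j • u)) u' = u' := by
    apply fix_of_comm (D := D)
    change D.q u w j * _ = _ * D.q u w j
    rw [← hrq]; exact hc
  rw [ρ_q hw, D.S.symm u' u, h, one_smul, mul_one] at h2
  have h3 : w + (D.S.B u' w + j) • u = 0 := by
    have : u' + (w + (D.S.B u' w + j) • u) = u' + 0 := by
      rw [add_zero, add_smul, ← add_assoc, ← add_assoc]; exact h2
    exact add_left_cancel this
  have h4 := eq_of_add _ _ h3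
  rw [hrq]
  have h5 : w = 0 ∨ w = u := by
    rcases z2 (D.S.B u' w + j) with h5 | h5 <;> rw [h5] at h4
    · left; rw [h4, zero_smul]
    · right; rw [h4, one_smul]
  rcases h5 with rfl | rfl
  · rw [map_zero, zero_add] at h4
    rcases z2 j with rfl | rfl
    · exact q_zero_zero u
    · rw [one_smul] at h4; exact absurd h4.symm hu
  · rw [D.S.symm u' w, h] at h4
    rcases z2 j with rfl | rfl
    · have := q_add_self (D := D) (u := w) (w := 0) (map_zero _) 0
      rw [zero_add] at this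
      rw [this, q_zero_zero]
    · have : (1 + 1 : ZMod 2) = 0 := rfl
      rw [this, zero_smul] at h4; exact absurd h4 hu

theorem good_step (hu : u ≠ 0) (h : D.S.B u u' = 1) [Finite V] (hG : (D.sub hu h).Good) : D.Good := by
  obtain ⟨S₁, h1, h2, h3, h4⟩ := hG
  have hconj : ∀ {s : D.G1 u u' hu} {r : G}, D.InR u r → D.InR u ((s : G) * r * (s : G)⁻¹) := by
    intro s r hr
    exact ((mem_G1.1 s.2).2 r).1 hr
  have hcb : ∀ s : D.G1 u u' hu, (s : G) * D.b u' = D.b u' * s := fun s => (mem_G1.1 s.2).1.2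
  have hti : D.t⁻¹ = D.t := inv_eq_of_mul_eq_one_left D.tt
  let S₀ : Subgroup G :=
    { carrier := {g | ∃ r, D.InR u r ∧ ∃ s : D.G1 u u' hu, s ∈ S₁ ∧ g = r * s}
      mul_mem' := by
        rintro _ _ ⟨r, hr, s, hs, rfl⟩ ⟨r', hr', s', hs', rfl⟩
        refine ⟨r * ((s : G) * r' * (s : G)⁻¹), InR.mul hu hr (hconj hr'), s * s', S₁.mul_mem hs hs', ?_⟩
        rw [Subgroup.coe_mul]; group
      one_mem' := ⟨1, InR.one, 1, S₁.one_mem, by rw [Subgroup.coe_one, mul_one]⟩
      inv_mem' := by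
        rintro _ ⟨r, hr, s, hs, rfl⟩
        refine ⟨((s⁻¹ : D.G1 u u' hu) : G) * r⁻¹ * ((s⁻¹ : D.G1 u u' hu) : G)⁻¹, hconj hr.inv, s⁻¹, S₁.inv_mem hs, ?_⟩
        rw [Subgroup.coe_inv]; group }
  have hmem : ∀ g, g ∈ S₀ ↔ ∃ r, D.InR u r ∧ ∃ s : D.G1 u u' hu, s ∈ S₁ ∧ g = r * s := fun g => Iff.rfl
  have hRS : ∀ {r}, D.InR u r → r ∈ S₀ := fun hr => ⟨_, hr, 1, S₁.one_mem, by rw [Subgroup.coe_one, mul_one]⟩
  have hSS : ∀ {s : D.G1 u u' hu}, s ∈ S₁ → (s : G) ∈ S₀ := fun hs => ⟨1, InR.one, _, hs, by rw [one_mul]⟩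
  refine ⟨S₀, ?_, ?_, ?_, ?_⟩
  · -- `t` normalises `S₀`
    rintro _ ⟨r, hr, s, hs, rfl⟩
    refine ⟨_, hr.conjt, _, h1 s hs, ?_⟩
    rw [Subgroup.coe_mul, Subgroup.coe_mul, sub_t]
    calc D.t * (r * s) * D.t = D.t * r * 1 * s * D.t := by group
      _ = _ := by rw [← D.tt]; group
  · -- `t ∉ S₀`
    rintro ⟨r, hr, s, hs, hrs⟩
    have e1 : r = D.t * (s : G)⁻¹ := by rw [hrs]; group
    have e2 : r = 1 := by
      apply R_cap hu h hr
      rw [e1]
      have f1 : Commute D.t (D.b u') := tb u'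
      have f2 : Commute (s : G) (D.b u') := hcb s
      exact f1.mul_left f2.inv_left
    rw [e2, one_mul] at hrs
    apply h2
    have : s = (D.sub hu h).t := Subtype.ext hrs.symm
    rw [← this]; exact hs
  · -- index
    obtain ⟨A, hA⟩ : ∃ A, A = S₀.comap D.ι := ⟨_, rfl⟩
    rw [← hA]
    have hXX : X1 D.S u u' ≤ Xu D.S u := fun k hk => hk.1
    have e1 : (A ⊓ Xu D.S u).relIndex (Xu D.S u) = (A ⊓ Xu D.S u).relIndex (X1 D.S u u') := by
      apply relIndex_of_prod hXX
      intro k hk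
      obtain ⟨l, hl, c, j, huc, hkl⟩ := exists_q h hk
      refine ⟨l, hl, _, ⟨?_, ?_⟩, hkl⟩
      · rw [hA]
        change D.ι (s D.S u c * D.S.τ (j • u)) ∈ S₀
        exact hRS (InR.of_q huc j)
      · change D.S.ρ (s D.S u c * D.S.τ (j • u)) u = u
        rw [ρ_q huc, D.S.alt, huc]; simp
    have e2 : (S₁.comap (D.sub hu h).ι).index = ((S₁.comap (D.sub hu h).ι).map (X1 D.S u u').subtype).relIndex
        (X1 D.S u u') := by
      rw [Subgroup.relIndex, Subgroup.subgroupOf, Subgroup.comap_map_eq_self_of_injective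
        (Subgroup.subtype_injective _)]
    have e3 : (S₁.comap (D.sub hu h).ι).map (X1 D.S u u').subtype ≤ A ⊓ Xu D.S u := by
      rintro _ ⟨k, hk, rfl⟩
      refine ⟨?_, hXX k.2⟩
      rw [hA]
      change D.ι k ∈ S₀
      exact hSS hk
    have e4 : (A ⊓ Xu D.S u).relIndex (X1 D.S u u') ∣
        ((S₁.comap (D.sub hu h).ι).map (X1 D.S u u').subtype).relIndex (X1 D.S u u') :=
      Subgroup.relIndex_dvd_of_le_left _ e3
    rw [← e2] at e4
    have e5 : Odd ((A ⊓ Xu D.S u).relIndex (Xu D.S u)) := by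
      rw [e1]; exact h3.of_dvd_nat e4
    have e6 : (A ⊓ Xu D.S u).relIndex (Xu D.S u) * (Xu D.S u).index = (A ⊓ Xu D.S u).index :=
      Subgroup.relIndex_mul_index inf_le_right
    have e7 : Odd (A ⊓ Xu D.S u).index := by
      rw [← e6]; exact e5.mul (odd_index_Xu hu)
    exact e7.of_dvd_nat (Subgroup.index_dvd_of_le inf_le_left)
  · -- involutions
    rintro _ ⟨r, hr, s, hs, rfl⟩ hsq
    obtain ⟨r', hr'⟩ : ∃ r', r' = D.t * r * D.t := ⟨_, rfl⟩
    have hr'R : D.InR u r' := by rw [hr']; exact hr.conjt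
    have e1 : D.t * (r * s) = r' * (D.t * s) := by
      rw [hr']
      calc D.t * (r * s) = D.t * r * 1 * s := by group
        _ = _ := by rw [← D.tt]; group
    rw [e1] at hsq
    -- `(t s)² = 1`
    have hts : D.t * s ∈ D.G1 u u' hu := Subgroup.mul_mem _ t_mem_G1 s.2
    have e2 : D.InR u (D.t * s * (D.t * s)) := by
      have f1 : D.InR u ((D.t * s) * r' * (D.t * s)⁻¹) := hconj (s := ⟨D.t * s, hts⟩) hr'R
      have f2 : D.t * s * (D.t * s) = ((D.t * s) * r' * (D.t * s)⁻¹)⁻¹ * r'⁻¹ * (r' * (D.t * s) * (r' * (D.t * s))) := by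
        group
      rw [f2, hsq, mul_one]
      exact InR.mul hu f1.inv hr'R.inv
    have e3 : D.t * s * (D.t * s) = 1 := by
      apply R_cap hu h e2
      have f1 : Commute D.t (D.b u') := tb u'
      have f2 : Commute (s : G) (D.b u') := hcb s
      exact (f1.mul_left f2).mul_left (f1.mul_left f2)
    obtain ⟨g, hg, w, hgw⟩ := h4 s hs (Subtype.ext e3)
    have hgw' : (g : G) * (D.t * s) * (g : G)⁻¹ = D.t * D.b w := congrArg Subtype.val hgw
    have hw := (mem_V1 D.S).1 w.2
    -- conjugate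
    obtain ⟨r'', hr''⟩ : ∃ r'', r'' = (g : G) * r' * (g : G)⁻¹ := ⟨_, rfl⟩
    have hr''R : D.InR u r'' := by rw [hr'']; exact hconj hr'R
    have e4 : (g : G) * (r' * (D.t * s)) * (g : G)⁻¹ = r'' * (D.t * D.b w) := by
      rw [hr'', ← hgw']; group
    have e5 : r'' * (D.t * D.b w) * (r'' * (D.t * D.b w)) = 1 := by
      rw [← e4]
      calc (g : G) * (r' * (D.t * s)) * (g : G)⁻¹ * ((g : G) * (r' * (D.t * s)) * (g : G)⁻¹)
          = (g : G) * (r' * (D.t * s) * (r' * (D.t * s))) * (g : G)⁻¹ := by group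
        _ = 1 := by rw [hsq]; group
    have key : ∃ g', D.InR u g' ∧ ∃ w', g' * (r'' * (D.t * D.b w)) * g'⁻¹ = D.t * D.b w' := by
      by_cases hw0 : (w : V) = 0
      · rw [hw0, b_zero, mul_one] at e5 ⊢
        exact C7c hu hr''R e5
      · exact C7b hu hw.1 hw0 (by
          intro hwu
          have h5 := hw.2
          rw [hwu, D.S.symm, h] at h5
          exact absurd h5 (by decide)) hr''R e5
    obtain ⟨g', hg', w', hw'⟩ := key
    refine ⟨g' * g, S₀.mul_mem (hRS hg') (hSS hg), w', ?_⟩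
    rw [← hw', ← e4, e1]; group

theorem card_V1_lt [Finite V] (h : D.S.B u u' = 1) : Nat.card (V1 D.S u u') < Nat.card V := by
  refine Finite.card_subtype_lt (p := fun v => v ∈ V1 D.S u u') (x := u) ?_
  intro hx
  have h1 := ((mem_V1 D.S).1 hx).2
  rw [D.S.symm, h] at h1
  exact absurd h1 (by decide)

end Data

universe u₁ u₂ u₃

theorem Data.good (n : ℕ) : ∀ {G : Type u₁} {X : Type u₂} {V : Type u₃} [Group G] [Group X] [AddCommGroup V]
    [Module (ZMod 2) V] (D : Data G X V) [Finite V], Nat.card V = n → D.Good := by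
  induction n using Nat.strong_induction_on with
  | _ n ih =>
    intro G X V _ _ _ _ D _ hn
    by_cases hV : ∀ v : V, v = 0
    · exact Data.good_base hV
    · push Not at hV
      obtain ⟨u, hu⟩ := hV
      obtain ⟨u', hu'⟩ := sep1 D.S hu
      have h : D.S.B u u' = 1 := by rw [D.S.symm]; exact hu'
      refine Data.good_step hu h (ih _ ?_ (D.sub hu h) rfl)
      rw [← hn]
      exact Data.card_V1_lt h

/-- **Pattern {short} for `Sp_{2n}(2)`.** -/
theorem Data.main {G : Type u₁} {X : Type u₂} {V : Type u₃} [Group G] [Group X] [AddCommGroup V]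
    [Module (ZMod 2) V] (D : Data G X V) [Finite V] [Finite G] : ∃ m : G →* ℤˣ, m D.t = -1 := by
  classical
  obtain ⟨S₀, h1, h2, h3, h4⟩ := D.good _ rfl
  have hti : D.t⁻¹ = D.t := inv_eq_of_mul_eq_one_left D.tt
  have htt : ∀ g, D.t * (D.t * g) = g := fun g => by rw [← mul_assoc, D.tt, one_mul]
  have m1 : ∀ {a b}, a ∈ S₀ → D.t * b ∈ S₀ → D.t * (a * b) ∈ S₀ := by
    intro a b ha hb
    have : D.t * (a * b) = (D.t * a * D.t) * (D.t * b) := by
      calc D.t * (a * b) = D.t * a * 1 * b := by group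
        _ = _ := by rw [← D.tt]; group
    rw [this]; exact S₀.mul_mem (h1 a ha) hb
  have m2 : ∀ {a b}, D.t * a ∈ S₀ → b ∈ S₀ → D.t * (a * b) ∈ S₀ := by
    intro a b ha hb
    rw [← mul_assoc]; exact S₀.mul_mem ha hb
  have m3 : ∀ {a b}, D.t * a ∈ S₀ → D.t * b ∈ S₀ → a * b ∈ S₀ := by
    intro a b ha hb
    have : a * b = (D.t * (D.t * a) * D.t) * (D.t * b) := by
      calc a * b = (D.t * D.t) * a * (D.t * D.t) * b := by rw [D.tt]; group
        _ = _ := by group
    rw [this]; exact S₀.mul_mem (h1 _ ha) hb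
  let H : Subgroup G :=
    { carrier := {g | g ∈ S₀ ∨ D.t * g ∈ S₀}
      mul_mem' := by
        rintro a b (ha | ha) (hb | hb)
        · exact Or.inl (S₀.mul_mem ha hb)
        · exact Or.inr (m1 ha hb)
        · exact Or.inr (m2 ha hb)
        · exact Or.inl (m3 ha hb)
      one_mem' := Or.inl S₀.one_mem
      inv_mem' := by
        rintro a (ha | ha)
        · exact Or.inl (S₀.inv_mem ha)
        · right
          have : D.t * a⁻¹ = D.t * (D.t * a)⁻¹ * D.t := by
            rw [mul_inv_rev, hti, mul_assoc, mul_assoc a⁻¹, D.tt, mul_one]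
          rw [this]; exact h1 _ (S₀.inv_mem ha) }
  have hH : ∀ g, g ∈ H ↔ (g ∈ S₀ ∨ D.t * g ∈ S₀) := fun g => Iff.rfl
  have htH : D.t ∈ H := by rw [hH, D.tt]; exact Or.inr S₀.one_mem
  have hnot : ∀ {g}, D.t * g ∈ S₀ → g ∉ S₀ := by
    intro g h5 h6
    apply h2
    have : D.t = D.t * g * g⁻¹ := by group
    rw [this]; exact S₀.mul_mem h5 (S₀.inv_mem h6)
  let l : H →* ℤˣ :=
    { toFun := fun g => if (g : G) ∈ S₀ then 1 else -1
      map_one' := by
        rw [if_pos]; exact S₀.one_mem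
      map_mul' := by
        rintro ⟨a, ha⟩ ⟨b, hb⟩
        change (if a * b ∈ S₀ then (1 : ℤˣ) else -1) = (if a ∈ S₀ then 1 else -1) * (if b ∈ S₀ then 1 else -1)
        rcases (hH a).1 ha with ha | ha <;> rcases (hH b).1 hb with hb | hb
        · rw [if_pos ha, if_pos hb, if_pos (S₀.mul_mem ha hb), one_mul]
        · rw [if_pos ha, if_neg (hnot hb), if_neg (hnot (m1 ha hb)), one_mul]
        · rw [if_neg (hnot ha), if_pos hb, if_neg (hnot (m2 ha hb)), mul_one]
        · rw [if_neg (hnot ha), if_neg (hnot hb), if_pos (m3 ha hb), neg_mul_neg, one_mul] }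
  have hl : ∀ g : H, l g = if (g : G) ∈ S₀ then 1 else -1 := fun g => rfl
  refine Cfsg.Agent.StdSpSix.TR.exists_hom_of_class l D.tt htH ?_ ?_ ?_
  · rw [hl, if_neg h2]
  · intro g hg hlg
    rw [hl] at hlg
    have h5 : g⁻¹ * D.t * g ∉ S₀ := by
      intro h6
      rw [if_pos h6] at hlg
      exact absurd hlg (by decide)
    have h6 : D.t * (g⁻¹ * D.t * g) ∈ S₀ := ((hH _).1 hg).resolve_left h5
    have h7 : D.t * (D.t * (g⁻¹ * D.t * g)) = g⁻¹ * D.t * g := htt _
    have h8 : g⁻¹ * D.t * g * (g⁻¹ * D.t * g) = 1 := by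
      calc g⁻¹ * D.t * g * (g⁻¹ * D.t * g) = g⁻¹ * (D.t * D.t) * g := by group
        _ = 1 := by rw [D.tt]; group
    obtain ⟨k, hk, w, hw⟩ := h4 _ h6 (by rw [h7]; exact h8)
    rw [h7] at hw
    have hw0 : w = 0 := by
      by_contra hne
      apply D.notb w hne (k * g⁻¹)
      change _ = D.t * D.b w
      rw [← hw]; group
    rw [hw0, Data.b_zero, mul_one] at hw
    refine ⟨k⁻¹, (hH _).2 (Or.inl (S₀.inv_mem hk)), ?_⟩
    calc g⁻¹ * D.t * g = k⁻¹ * (k * (g⁻¹ * D.t * g) * k⁻¹) * k := by group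
      _ = _ := by rw [hw, inv_inv]
  · have e1 : H.relIndex (Subgroup.centralizer ({D.t} : Set G)) = H.relIndex D.ι.range := by
      apply relIndex_of_prod
      · rintro _ ⟨k, rfl⟩
        rw [Subgroup.mem_centralizer_singleton_iff]
        exact (D.comm k).symm
      · intro k hk
        rw [Subgroup.mem_centralizer_singleton_iff] at hk
        obtain ⟨k', rfl | rfl⟩ := D.cent k hk
        · exact ⟨_, ⟨k', rfl⟩, 1, H.one_mem, by rw [mul_one]⟩
        · exact ⟨_, ⟨k', rfl⟩, D.t, htH, D.comm k'⟩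
    rw [e1, ← Subgroup.index_comap]
    refine h3.of_dvd_nat (Subgroup.index_dvd_of_le ?_)
    exact Subgroup.comap_mono (fun g hg => (hH g).2 (Or.inl hg))

end Cfsg.Agent.OddHalf.SpTwo.PatS

end

-- merged: Cfsg.Agent.OddHalf.SpTwo.PatSCtx
section

/-!
# `Sp_{2n}(2)`, pattern {short}, for `SpTwoN.Ctx`
-/

set_option autoImplicit false

namespace Cfsg.Agent.OddHalf.SpTwo.PatS

open Cfsg.Agent.StandardComponent.SpTwo
open Cfsg.Agent.OddHalf.SpTwoN

variable {G V : Type*} [Group G] [AddCommGroup V] [Module (ZMod 2) V]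

/-- Pattern {short} for any subgroup `L ≅ Sp_{2n}(2)` (any `n`). -/
theorem main_of_subgroup [Finite G] [Finite V] (t : G) (L : Subgroup G) (S : SpData L V) (tt : t * t = 1)
    (tL : t ∉ L) (hL : ∀ k ∈ L, t * k = k * t) (cent : ∀ g, g * t = t * g → g ∈ L ∨ t * g ∈ L)
    (hb : ∀ u, u ≠ 0 → ∀ g, g * t * g⁻¹ ≠ t * (S.τ u : G))
    (hc : ∀ u w, S.B u w = 0 → u ≠ 0 → w ≠ 0 → u ≠ w → ∀ g, g * t * g⁻¹ ≠ t * ((S.τ u : G) * (S.τ w : G)))
    (hy : ∀ u w, S.B u w = 0 → u ≠ 0 → w ≠ 0 → u ≠ w → ∃ y : G, y * y = 1 ∧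
      y * t * y = t * ((S.τ u : G) * (S.τ w : G) * (S.τ (u + w) : G)) ∧
      ∀ e, S.B u e = 0 → S.B w e = 0 → y * (S.τ e : G) = (S.τ e : G) * y) : ∃ m : G →* ℤˣ, m t = -1 :=
  Data.main (G := G) (X := L) (V := V)
    { S := S
      ι := L.subtype
      inj := Subtype.val_injective
      t := t
      tt := tt
      comm := fun k => hL k k.2
      tmem := fun k hk => tL (by rw [← hk]; exact k.2)
      cent := by
        intro g hg
        rcases cent g hg with h | h
        · exact ⟨⟨g, h⟩, Or.inl rfl⟩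
        · refine ⟨⟨t * g, h⟩, Or.inr ?_⟩
          change g = t * (t * g)
          rw [← mul_assoc, tt, one_mul]
      notb := hb
      notc := hc
      ex := hy }

/-- Pattern {short}, `SpTwoN.Ctx` version. -/
theorem main_of_ctx [Finite G] (C : Ctx G V) (hb : ∀ u, u ≠ 0 → C.t * C.b u ∉ C.D)
    (hc : ∀ u w, C.S.B u w = 0 → u ≠ 0 → w ≠ 0 → u ≠ w → C.t * (C.b u * C.b w) ∉ C.D)
    (hy : ∀ u w, C.S.B u w = 0 → u ≠ 0 → w ≠ 0 → u ≠ w → ∃ y : G, y * y = 1 ∧
      y * C.t * y = C.t * ((Words.sg C.S u w : C.L) : G) ∧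
      ∀ e, C.S.B u e = 0 → C.S.B w e = 0 → y * C.b e = C.b e * y) : ∃ m : G →* ℤˣ, m C.t = -1 := by
  have := C.finV
  refine main_of_subgroup C.t C.L C.S C.tt C.tL (fun k hk => (C.commute_of_mem hk).eq.symm)
    (fun g hg => (C.cent g).1 hg) ?_ ?_ hy
  · intro u hu g hg
    exact hb u hu ⟨g, hg.symm⟩
  · intro u w huw hu hw hne g hg
    exact hc u w huw hu hw hne ⟨g, hg.symm⟩

end Cfsg.Agent.OddHalf.SpTwo.PatS

end

-- merged: Cfsg.Agent.OddHalf.SpTwoN.Asm
section

/-!
# Assembly of the row `K = Sp_2n(2)`, `n ≥ 4`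

`exists_yBase`: a `y` at one vector commuting with `C_L(b_v)` gives the equivariant family `YBase`.
`Inputs`: the inputs (existence of the short `y`, `κ = 0` if all classes are moved, the case `(C, O)`);
`false_of_inputs`: no standard `K ≃* PSp m F`, `|F| = 2`, `m ≥ 4`.
-/

set_option autoImplicit false

namespace Cfsg.Agent.OddHalf.SpTwoN.Asm

open Cfsg.Agent.StandardComponent.SpTwo Cfsg.Agent.OddHalf Cfsg.Agent.OddHalf.SpTwo
open Cfsg.Agent.OddHalf.SpTwoN Cfsg.Agent.OddHalf.SpTwoN.LBStart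

section

variable {G V : Type*} [Group G] [AddCommGroup V] [Module (ZMod 2) V]

/-- `y` conjugates `t` to `t b_v` and commutes with `C_L(b_v)` -/
structure Long (C : Ctx G V) (v : V) (y : G) : Prop where
  sq : y * y = 1
  conj_t : y * C.t * y = C.t * C.b v
  comm : ∀ k : C.L, C.S.ρ k v = v → (k : G) * y = y * k

open Classical in
/-- the equivariant family -/
noncomputable def fam (C : Ctx G V) (v₀ : V) (y₀ : G) (v : V) : G :=
  if v = 0 then 1 else if h : ∃ k : C.L, C.S.ρ k v₀ = v then (h.choose : G) * y₀ * (h.choose : G)⁻¹ else 1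

theorem fam_eq {C : Ctx G V} {v₀ : V} {y₀ : G} (hv₀ : v₀ ≠ 0) (h : Long C v₀ y₀) (k : C.L) :
    fam C v₀ y₀ (C.S.ρ k v₀) = (k : G) * y₀ * (k : G)⁻¹ := by
  have h0 : C.S.ρ k v₀ ≠ 0 := by
    intro h1
    rw [← map_zero (C.S.ρ k)] at h1
    exact hv₀ (C.S.ρ_inj k h1)
  have hex : ∃ k' : C.L, C.S.ρ k' v₀ = C.S.ρ k v₀ := ⟨k, rfl⟩
  unfold fam
  rw [if_neg h0, dif_pos hex]
  obtain ⟨g, hg⟩ : ∃ g, g = hex.choose := ⟨_, rfl⟩
  have hg2 : C.S.ρ g v₀ = C.S.ρ k v₀ := by rw [hg]; exact hex.choose_spec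
  rw [← hg]
  have h1 : C.S.ρ (k⁻¹ * g) v₀ = v₀ := by rw [C.S.ρ_mul, hg2, C.S.ρ_inv_apply]
  have h2 := h.comm _ h1
  have h3 : ((k⁻¹ * g : C.L) : G) = (k : G)⁻¹ * g := rfl
  rw [h3] at h2
  calc (g : G) * y₀ * (g : G)⁻¹ = k * ((k : G)⁻¹ * g * y₀) * (g : G)⁻¹ := by group
    _ = _ := by rw [h2]; group

theorem exists_yBase (C : Ctx G V) {v₀ : V} {y₀ : G} (hv₀ : v₀ ≠ 0) (h : Long C v₀ y₀) :
    ∃ y : V → G, YBase C y := by
  have := C.finV
  have hb : ∀ k : C.L, (k : G) * C.b v₀ * (k : G)⁻¹ = C.b (C.S.ρ k v₀) := fun k => C.b_conj k v₀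
  have ht : ∀ k : C.L, (k : G) * C.t = C.t * k := fun k => C.t_comm k.2
  have hy0 : fam C v₀ y₀ 0 = 1 := by
    unfold fam
    rw [if_pos rfl]
  refine ⟨fam C v₀ y₀, hy0, fun u => ?_, fun u => ?_, fun k u => ?_⟩
  · by_cases hu : u = 0
    · rw [hu, hy0, mul_one]
    obtain ⟨k, rfl⟩ := trans_vec C.S hv₀ hu
    rw [fam_eq hv₀ h]
    calc (k : G) * y₀ * (k : G)⁻¹ * ((k : G) * y₀ * (k : G)⁻¹) = k * (y₀ * y₀) * (k : G)⁻¹ := by group
      _ = 1 := by rw [h.sq]; group
  · by_cases hu : u = 0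
    · rw [hu, hy0, mul_one, C.tt, C.b_zero, mul_one]
    obtain ⟨k, rfl⟩ := trans_vec C.S hv₀ hu
    rw [fam_eq hv₀ h, ← hb]
    have h1 : C.t * y₀ * C.t = C.b v₀ * y₀ := by
      have h2 := h.conj_t
      have h3 : y₀ * C.b v₀ = C.b v₀ * y₀ := (h.comm (C.S.τ v₀) (by rw [C.S.hτ, C.S.alt, zero_smul, add_zero])).symm
      calc C.t * y₀ * C.t = C.t * (y₀ * C.t * y₀) * y₀⁻¹ := by group
        _ = (C.t * C.t) * C.b v₀ * y₀⁻¹ := by rw [h2]; group
        _ = C.b v₀ * y₀ := by
          rw [C.tt, one_mul, inv_eq_of_mul_eq_one_left h.sq]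
    have h2 := ht k
    have h3 : (k : G)⁻¹ * C.t = C.t * (k : G)⁻¹ := by
      rw [inv_mul_eq_iff_eq_mul, ← mul_assoc, h2, mul_inv_cancel_right]
    calc C.t * ((k : G) * y₀ * (k : G)⁻¹) * C.t = (C.t * k) * y₀ * ((k : G)⁻¹ * C.t) := by group
      _ = k * (C.t * y₀ * C.t) * (k : G)⁻¹ := by rw [← h2, h3]; group
      _ = _ := by rw [h1]; group
  · by_cases hu : u = 0
    · rw [hu, map_zero, hy0]
      group
    obtain ⟨g, rfl⟩ := trans_vec C.S hv₀ hu
    rw [← C.S.ρ_mul, fam_eq hv₀ h, fam_eq hv₀ h, Subgroup.coe_mul]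
    group

/-- the case `(C, O)` for a family `y` -/
def CO (C : Ctx G V) (y : V → G) : Prop :=
  ∀ u v, u ≠ 0 → v ≠ 0 → u ≠ v → C.S.B u v = 0 → y u * y v * y u * y v = C.b (u + v)

end

universe u

/-- the inputs -/
structure Inputs : Prop where
  /-- existence of the short `y` -/
  short : ∀ (G : Type u) (V : Type) [Group G] [Finite G] [AddCommGroup V] [Module (ZMod 2) V] (C : Ctx G V), PQ C 0 →
    ∀ u w, C.S.B u w = 0 → u ≠ 0 → w ≠ 0 → u ≠ w → ∃ y : G, y * y = 1 ∧
      y * C.t * y = C.t * ((Words.sg C.S u w : C.L) : G) ∧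
      ∀ e, C.S.B u e = 0 → C.S.B w e = 0 → y * C.b e = C.b e * y
  /-- `κ = 0` if all classes are moved -/
  kappa : ∀ (G : Type u) (V : Type) [Group G] [Finite G] [AddCommGroup V] [Module (ZMod 2) V] (C : Ctx G V), PL C →
    PQ C 0 → PQ C 1 → ∃ v y, v ≠ 0 ∧ Long C v y
  /-- the case `(C, O)` -/
  co : ∀ (G : Type u) (V : Type) [Group G] [Finite G] [AddCommGroup V] [Module (ZMod 2) V] (C : Ctx G V) (y : V → G),
    YBase C y → CO C y → ∃ m : G →* ℤˣ, m C.t = -1

section

variable {G : Type u} {V : Type} [Group G] [AddCommGroup V] [Module (ZMod 2) V]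

theorem of_ctx (I : Inputs.{u}) [Finite G] (C : Ctx G V) {S : Sylow 2 C.L} {v w : V} (F : Flag C S v w)
    {f e : ZMod 2} (hfe : f ≠ 0 ∨ e ≠ 0) (h : C.t * (q C.S v (f • w) e : C.L) ∈ C.D) :
    ∃ m : G →* ℤˣ, m C.t = -1 := by
  have := C.finV
  rcases F.start' hfe h with ⟨hL, h0, h1⟩ | ⟨hL, h0, h1⟩ | ⟨hL, h0, h1⟩
  · exact PatL.patL hL h0 h1
  · refine PatS.main_of_ctx C hL ?_ (I.short G V C h0)
    intro u w huw hu hw hne hmem
    refine h1 (u + w) u ?_ ?_ ?_ ?_
    · intro h2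
      exact hne (eq_of_add _ _ h2)
    · rw [C.B_add_left, C.B_self, C.symm, huw, add_zero]
    · rw [mem_ln]
      push Not
      refine ⟨hu, fun h2 => hw ?_⟩
      have := congrArg (fun z => u + z) h2
      simp only [aa, aac] at this
      exact this.symm
    · have h2 : q C.S (u + w) u 1 = C.S.τ u * C.S.τ w := by
        have h4 : C.S.τ (u + w) * C.S.τ u = C.S.τ u * C.S.τ (u + w) := C.S.τ_commute (by
          rw [C.B_add_left, C.B_self, C.symm, huw, add_zero])
        have h5 : C.S.τ (u + w) * C.S.τ w = C.S.τ w * C.S.τ (u + w) := C.S.τ_commute (by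
          rw [C.B_add_left, C.B_self, huw, add_zero])
        have h6 : u + w + u = w := by rw [add_comm u w, aab]
        unfold q
        rw [one_smul, h6, h4, mul_assoc, mul_assoc, ← mul_assoc (C.S.τ (u + w)), h5, mul_assoc (C.S.τ w),
          C.S.τ_sq, mul_one]
      rw [h2]
      exact hmem
  · obtain ⟨v₀, y₀, hv₀, hy₀⟩ := I.kappa G V C hL h0 h1
    obtain ⟨y, Y⟩ := exists_yBase C hv₀ hy₀
    rcases Dich.dichotomy Y with hY | hY
    · exact hY.main
    · exact I.co G V C y Y hY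

theorem no_hom [Finite G] (hG : commutator G = ⊤) (m : G →* ℤˣ) {t : G} (hm : m t = -1) : False := by
  have h1 : commutator G ≤ m.ker := Abelianization.commutator_subset_ker m
  rw [hG] at h1
  have h2 : m t = 1 := h1 (Subgroup.mem_top t)
  rw [h2] at hm
  exact absurd hm (by decide)

end

theorem false_of_inputs (I : Inputs.{u}) {G : Type u} [Group G] (C₀ : Iface.Ctx G) {K : Subgroup G}
    (S : Iface.Std G K) (hcyc : Iface.Cyc K) {m : ℕ} (hm : 4 ≤ m) {F : Type*} [Field F] [Fintype F]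
    (hF : Fintype.card F = 2) (e : K ≃* PSp m F) : False := by
  have := C₀.fin
  obtain ⟨C, P, v, w, f, i, n, hv, hvw, hw, hP1, hP2, hfe, -, hn⟩ := OfStd.exists_ctx_of_psp C₀ S hcyc hm hF e
  have hF : Flag C P v w := ⟨hv, hvw, hw, hP1, hP2⟩
  obtain ⟨μ, hμ⟩ := of_ctx I C hF hfe ⟨n, hn.symm⟩
  exact no_hom (Front.FE.commutator_eq_top C₀) μ hμ

end Cfsg.Agent.OddHalf.SpTwoN.Asm

end
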