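import Cfsg.Agent.OddHalf.SpTwoN.Asm
import Cfsg.Agent.OddHalf.SpTwoN.PatL
import Cfsg.Agent.OddHalf.SpTwo.LongOut

-- merged: Cfsg.Agent.OddHalf.SpTwoN.KappaDef
section

/-!
# The elements `y` over an isotropic line and their action on `Q_u`

`IsX C u v y`: `y` conjugates `t` to `t s_{u,v}` and commutes with the transvections of `⟨u, v⟩^⊥`.
`IsX.pencil`: `y` acts on `Q_u` by `x ↦ x c^{(x,v)}` with `c ∈ ⟨b_u, s_{u,v}⟩`; so a suitable `y` acts trivially
(`U0`) or like `b_v` (`UC`).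
-/

set_option autoImplicit false

namespace Cfsg.Agent.OddHalf.SpTwoN.KappaDef

open Cfsg.Agent.StandardComponent.SpTwo Cfsg.Agent.OddHalf Cfsg.Agent.OddHalf.SpTwo
open Cfsg.Agent.OddHalf.SpTwoN Cfsg.Agent.OddHalf.SpTwoN.LBStart

variable {G V : Type*} [Group G] [AddCommGroup V] [Module (ZMod 2) V] (C : Ctx G V)

/-- elements of `Q_u`, in `G` -/
def qg (u p : V) (e : ZMod 2) : G := (SpTwo.q C.S u p e : C.L)

/-- an element `y` over the line `⟨u, v⟩` -/
structure IsX (u v : V) (y : G) : Prop where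
  sq : y * y = 1
  conj_t : y * C.t * y = C.t * qg C u v 0
  comm : ∀ e, C.S.B e u = 0 → C.S.B e v = 0 → y * C.b e = C.b e * y

/-- `y` acts trivially on `Q_u` -/
structure U0 (u v : V) (y : G) : Prop extends IsX C u v y where
  act : ∀ p e, C.S.B p u = 0 → y * qg C u p e * y = qg C u p e

/-- `y` acts on `Q_u / ⟨b_u⟩` like `b_v` -/
structure UC (u v : V) (y : G) : Prop extends IsX C u v y where
  act : ∀ p e, C.S.B p u = 0 → y * qg C u p e * y = qg C u (p + C.S.B p v • v) (e + C.S.B p v)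

section qg

variable {u p p' : V} {e e' : ZMod 2}

theorem qg_mul (h : C.S.B p u = 0) (h' : C.S.B p' u = 0) :
    qg C u p e * qg C u p' e' = qg C u (p + p') (e + e' + C.S.B p p') :=
  congrArg Subtype.val (q_mul C.S h h' e e')

theorem qg_zero : qg C u 0 0 = 1 := congrArg Subtype.val (q_zero C.S u)

theorem qg_zero_one : qg C u 0 1 = C.b u := congrArg Subtype.val (q_zero_one C.S u)

theorem qg_sq (h : C.S.B p u = 0) : qg C u p e * qg C u p e = 1 := congrArg Subtype.val (q_sq C.S h e)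

theorem qg_comm (h : C.S.B p u = 0) (h' : C.S.B p' u = 0) :
    qg C u p e * qg C u p' e' = qg C u p' e' * qg C u p e :=
  congrArg Subtype.val (q_comm C.S h h' e e')

theorem qg_inj [Finite V] (hu : u ≠ 0) (h : C.S.B p u = 0) (h' : C.S.B p' u = 0)
    (H : qg C u p e = qg C u p' e') : p + p' ∈ ln u ∧ e = e' :=
  q_inj C.S hu h h' (Subtype.ext H)

theorem qg_t : qg C u p e * C.t = C.t * qg C u p e := t_comm C _

theorem qg_add_self (h : C.S.B p u = 0) : qg C u (p + u) e = qg C u p e :=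
  congrArg Subtype.val (q_add_self C.S h e)

theorem qg_conj (m : C.L) : (m : G) * qg C u p e * (m : G)⁻¹ = qg C (C.S.ρ m u) (C.S.ρ m p) e :=
  congrArg Subtype.val (q_conj C.S m (v := u) (u := p) e)

theorem qg_b_conj {x : V} (hx : C.S.B x u = 0) : C.b x * qg C u p e * C.b x = qg C u (p + C.S.B p x • x) e :=
  congrArg Subtype.val (τ_conj_q C.S hx (u := p) e)

theorem qg_inv (h : C.S.B p u = 0) : (qg C u p e)⁻¹ = qg C u p e := inv_eq_of_mul_eq_one_right (qg_sq C h)

/-- membership of the commuting elements -/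
theorem comm_qg {y : G} (h : ∀ e, C.S.B e u = 0 → C.S.B e p = 0 → y * C.b e = C.b e * y)
    (hp : C.S.B p u = 0) {z : V} (hz : C.S.B z u = 0) (hz' : C.S.B z p = 0) :
    y * qg C u z e = qg C u z e * y := by
  have h1 := h u (C.B_self u) (by rw [C.symm]; exact hp)
  have h2 := h z hz hz'
  have h3 := h (u + z) (by rw [C.B_add_left, C.B_self, hz, add_zero])
    (by rw [C.B_add_left, hz', C.symm, hp, add_zero])
  have h4 : y * C.b (e • u) = C.b (e • u) * y := by
    rcases z2 e with rfl | rfl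
    · rw [zero_smul, C.b_zero, mul_one, one_mul]
    · rw [one_smul]; exact h1
  have e1 : qg C u z e = C.b u * C.b z * C.b (u + z) * C.b (e • u) := rfl
  rw [e1]
  exact (((Commute.mul_right h1 h2).mul_right h3).mul_right h4).eq

end qg

variable {C}
variable {u v : V} {y : G}

theorem IsX.inv_eq (h : IsX C u v y) : y⁻¹ = y := inv_eq_of_mul_eq_one_right h.sq

theorem IsX.comm_q (h : IsX C u v y) (hv : C.S.B v u = 0) {z : V} (hz : C.S.B z u = 0) (hz' : C.S.B z v = 0)
    (e : ZMod 2) : y * qg C u z e = qg C u z e * y :=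
  comm_qg C h.comm hv hz hz'

theorem IsX.comm_s (h : IsX C u v y) (hv : C.S.B v u = 0) : y * qg C u v 0 = qg C u v 0 * y :=
  h.comm_q hv hv (C.B_self v) 0

theorem IsX.t_conj (h : IsX C u v y) : C.t * y * C.t = qg C u v 0 * y := by
  have h1 := h.conj_t
  calc C.t * y * C.t = C.t * (y * C.t * y) * y⁻¹ := by group
    _ = (C.t * C.t) * qg C u v 0 * y⁻¹ := by rw [h1]; group
    _ = _ := by rw [C.tt, one_mul, h.inv_eq]

theorem IsX.yt (h : IsX C u v y) : y * C.t = C.t * qg C u v 0 * y := by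
  rw [← h.conj_t, mul_assoc (y * C.t), h.sq, mul_one]

theorem IsX.conj (h : IsX C u v y) (m : C.L) : IsX C (C.S.ρ m u) (C.S.ρ m v) (m * y * (m : G)⁻¹) := by
  have hm := t_comm C m
  have hm' : (m : G)⁻¹ * C.t * m = C.t := by rw [mul_assoc, ← hm]; group
  refine ⟨?_, ?_, ?_⟩
  · calc m * y * (m : G)⁻¹ * (m * y * (m : G)⁻¹) = m * (y * y) * (m : G)⁻¹ := by group
      _ = 1 := by rw [h.sq]; group
  · calc m * y * (m : G)⁻¹ * C.t * (m * y * (m : G)⁻¹) = m * (y * ((m : G)⁻¹ * C.t * m) * y) * (m : G)⁻¹ := by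
          group
      _ = m * (C.t * qg C u v 0) * (m : G)⁻¹ := by rw [hm', h.conj_t]
      _ = (m * C.t) * qg C u v 0 * (m : G)⁻¹ := by group
      _ = C.t * (m * qg C u v 0 * (m : G)⁻¹) := by rw [hm]; group
      _ = _ := by rw [qg_conj]
  · intro e h1 h2
    have h3 : C.S.ρ m (C.S.ρ m⁻¹ e) = e := C.S.ρ_apply_inv m e
    rw [← h3, C.S.inv] at h1 h2
    have h4 := h.comm _ h1 h2
    rw [← h3, ← C.b_conj]
    calc m * y * (m : G)⁻¹ * (m * C.b (C.S.ρ m⁻¹ e) * (m : G)⁻¹) = m * (y * C.b (C.S.ρ m⁻¹ e)) * (m : G)⁻¹ := by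
          group
      _ = _ := by rw [h4]; group

theorem IsX.add_self (h : IsX C u v y) (hv : C.S.B v u = 0) : IsX C u (v + u) y := by
  refine ⟨h.sq, by rw [qg_add_self C hv]; exact h.conj_t, fun e h1 h2 => h.comm e h1 ?_⟩
  rwa [C.B_add_right, h1, add_zero] at h2

theorem IsX.add_self' (h : IsX C u (v + u) y) (hv : C.S.B v u = 0) : IsX C u v y := by
  have h1 := h.add_self (by rw [C.B_add_left, hv, C.B_self, add_zero])
  rwa [add_assoc, aa, add_zero] at h1

/-- two elements over the same line -/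
theorem IsX.same [Finite V] (hu : u ≠ 0) (hv : v ∉ ln u) (hvu : C.S.B v u = 0) (h : IsX C u v y) {y' : G}
    (h' : IsX C u v y') : ∃ a c d : ZMod 2, y' = qg C u (c • v) a * C.b (d • v) * y := by
  have huv : C.S.B u v = 0 := by rw [C.symm]; exact hvu
  have hc1 : y' * y * C.t = C.t * (y' * y) := by
    have h1 := h'.comm_s hvu
    have h2 : qg C u v 0 * qg C u v 0 = 1 := qg_sq C hvu
    calc y' * y * C.t = y' * (y * C.t) := by group
      _ = (y' * C.t) * qg C u v 0 * y := by rw [h.yt]; group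
      _ = C.t * qg C u v 0 * (y' * qg C u v 0) * y := by rw [h'.yt]; group
      _ = C.t * (qg C u v 0 * qg C u v 0) * y' * y := by rw [h1]; group
      _ = _ := by rw [h2]; group
  obtain ⟨k, hk, hkf⟩ := Dich.lift_fix (E := fun e => C.S.B u e = 0 ∧ C.S.B v e = 0) hc1 (by
    rintro e ⟨h1, h2⟩
    rw [C.symm] at h1 h2
    rw [mul_assoc, h.comm e h1 h2, ← mul_assoc, h'.comm e h1 h2, mul_assoc])
  obtain ⟨-, -, -, -, -, -, a, c, d, hρ⟩ := Dich.shape C.S hu hv huv (fun e h1 h2 => hkf e ⟨h1, h2⟩)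
  have hcv : C.S.B (c • v) u = 0 := by rw [C.B_smul_left, hvu, mul_zero]
  have hk2 : k = SpTwo.q C.S u (c • v) a * C.S.τ (d • v) := by
    apply C.S.ext_iff
    intro z
    rw [hρ, C.S.ρ_mul, q_apply C.S hcv, C.S.hτ]
    simp only [C.B_add_left, C.B_smul_left, C.B_smul_right, C.B_self, hvu, mul_zero, add_zero]
    generalize C.S.B z u = i
    generalize C.S.B z v = j
    rcases z2 a with rfl | rfl <;> rcases z2 c with rfl | rfl <;> rcases z2 d with rfl | rfl <;>
      rcases z2 i with rfl | rfl <;> rcases z2 j with rfl | rfl <;> simp <;> abel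
  have hyk : y * k = k * y := by
    rw [hk2]
    have e1 := h.comm_q hvu (z := c • v) hcv (by rw [C.B_smul_left, C.B_self, mul_zero]) a
    have e2 := h.comm (d • v) (by rw [C.B_smul_left, hvu, mul_zero]) (by rw [C.B_smul_left, C.B_self, mul_zero])
    exact (Commute.mul_right e1 e2).eq
  have hkk : (k : G) * k = 1 := by
    rw [hk2]
    have e1 : qg C u (c • v) a * qg C u (c • v) a = 1 := qg_sq C hcv
    have e2 : C.b (d • v) * qg C u (c • v) a = qg C u (c • v) a * C.b (d • v) := by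
      have e3 := qg_b_conj C (u := u) (p := c • v) (e := a) (x := d • v) (by rw [C.B_smul_left, hvu, mul_zero])
      rw [C.B_smul_left, C.B_smul_right, C.B_self, mul_zero, mul_zero, zero_smul, add_zero] at e3
      calc C.b (d • v) * qg C u (c • v) a = C.b (d • v) * qg C u (c • v) a * (C.b (d • v) * C.b (d • v)) := by
            rw [C.b_sq, mul_one]
        _ = (C.b (d • v) * qg C u (c • v) a * C.b (d • v)) * C.b (d • v) := by group
        _ = _ := by rw [e3]
    have e3 : C.b (d • v) * C.b (d • v) = 1 := C.b_sq _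
    change qg C u (c • v) a * C.b (d • v) * (qg C u (c • v) a * C.b (d • v)) = 1
    calc qg C u (c • v) a * C.b (d • v) * (qg C u (c • v) a * C.b (d • v)) =
        qg C u (c • v) a * (C.b (d • v) * qg C u (c • v) a) * C.b (d • v) := by group
      _ = (qg C u (c • v) a * qg C u (c • v) a) * (C.b (d • v) * C.b (d • v)) := by rw [e2]; group
      _ = 1 := by rw [e1, e3, one_mul]
  rcases hk with hk | hk
  · refine ⟨a, c, d, ?_⟩
    calc y' = y' * y * y := by rw [mul_assoc, h.sq, mul_one]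
      _ = k * y := by rw [hk]
      _ = _ := by rw [hk2]; rfl
  · exfalso
    have e1 : y' = C.t * k * y := by
      calc y' = y' * y * y := by rw [mul_assoc, h.sq, mul_one]
        _ = _ := by rw [hk]
    have e2 : y' * y' = qg C u v 0 := by
      calc y' * y' = C.t * k * (y * C.t) * (k * y) := by rw [e1]; group
        _ = C.t * k * (y * C.t) * (y * k) := by rw [hyk]
        _ = C.t * k * (y * C.t * y) * k := by group
        _ = C.t * (k * C.t) * qg C u v 0 * k := by rw [h.conj_t]; group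
        _ = (C.t * C.t) * k * qg C u v 0 * k := by rw [t_comm C k]; group
        _ = k * (qg C u v 0 * k) := by rw [C.tt]; group
        _ = k * (k * qg C u v 0) := by
            congr 1
            rw [hk2]
            change qg C u v 0 * (qg C u (c • v) a * C.b (d • v)) = qg C u (c • v) a * C.b (d • v) * qg C u v 0
            have e3 := qg_b_conj C (u := u) (p := v) (e := 0) (x := d • v) (by rw [C.B_smul_left, hvu, mul_zero])
            rw [C.B_smul_right, C.B_self, mul_zero, zero_smul, add_zero] at e3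
            have e4 : C.b (d • v) * qg C u v 0 = qg C u v 0 * C.b (d • v) := by
              calc C.b (d • v) * qg C u v 0 = C.b (d • v) * qg C u v 0 * (C.b (d • v) * C.b (d • v)) := by
                    rw [C.b_sq, mul_one]
                _ = (C.b (d • v) * qg C u v 0 * C.b (d • v)) * C.b (d • v) := by group
                _ = _ := by rw [e3]
            rw [mul_assoc, e4, ← mul_assoc, ← mul_assoc, qg_comm C hvu hcv]
        _ = _ := by rw [← mul_assoc, hkk, one_mul]
    rw [h'.sq, ← qg_zero C (u := u)] at e2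
    obtain ⟨e3, -⟩ := qg_inj C hu (by rw [C.B_zero_left]) hvu e2
    rw [zero_add] at e3
    exact hv e3

/-- an involution commutes with `b x` if it is conjugate to itself -/
theorem b_swap {g : G} {x : V} (h : C.b x * g * C.b x = g) : C.b x * g = g * C.b x := by
  calc C.b x * g = C.b x * g * (C.b x * C.b x) := by rw [C.b_sq, mul_one]
    _ = (C.b x * g * C.b x) * C.b x := by group
    _ = _ := by rw [h]

theorem qg_b_comm {p x : V} {e : ZMod 2} (hx : C.S.B x u = 0) (hp : C.S.B p x = 0) :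
    C.b x * qg C u p e = qg C u p e * C.b x := by
  apply b_swap
  rw [qg_b_conj C hx, hp, zero_smul, add_zero]

/-- the action on `Q_u` -/
theorem IsX.pencil [Finite V] (hu : u ≠ 0) (hv : v ∉ ln u) (hvu : C.S.B v u = 0) (h : IsX C u v y) :
    ∃ a c : ZMod 2, ∀ p e, C.S.B p u = 0 →
      y * qg C u p e * y = qg C u p e * qg C u ((C.S.B p v * c) • v) (C.S.B p v * a) := by
  obtain ⟨p0, hp0, hp0v⟩ := sep C.S hv
  rw [mem_perp_ln] at hp0
  have huv : C.S.B u v = 0 := by rw [C.symm]; exact hvu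
  have hup0 : C.S.B u p0 = 0 := by rw [C.symm]; exact hp0
  obtain ⟨k, hk⟩ : ∃ k : C.L, k = SpTwo.q C.S u p0 0 := ⟨_, rfl⟩
  have hkq : (k : G) = qg C u p0 0 := by rw [hk]; rfl
  have hkk : (k : G) * k = 1 := by rw [hkq]; exact qg_sq C hp0
  have hki : (k : G)⁻¹ = k := inv_eq_of_mul_eq_one_right hkk
  have hku : C.S.ρ k u = u := by
    rw [hk, q_apply C.S hp0, hup0, C.B_self, zero_smul, zero_smul, mul_zero, zero_smul, add_zero, add_zero, add_zero]
  have hkv : C.S.ρ k v = v + u := by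
    rw [hk, q_apply C.S hp0, C.symm v p0, hp0v, hvu, zero_smul, mul_zero, zero_smul, one_smul, add_zero, add_zero]
  have h' : IsX C u v (k * y * k) := by
    have h1 := h.conj k
    rw [hku, hkv, hki] at h1
    exact h1.add_self' hvu
  obtain ⟨a, c, d, hacd⟩ := h.same hu hv hvu h'
  obtain ⟨g, hg⟩ : ∃ g, g = qg C u (c • v) a * C.b (d • v) := ⟨_, rfl⟩
  rw [← hg] at hacd
  have hcv : C.S.B (c • v) u = 0 := by rw [C.B_smul_left, hvu, mul_zero]
  have hdv : C.S.B (d • v) u = 0 := by rw [C.B_smul_left, hvu, mul_zero]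
  have e1 : qg C u (c • v) a * qg C u (c • v) a = 1 := qg_sq C hcv
  have e2 : C.b (d • v) * qg C u (c • v) a = qg C u (c • v) a * C.b (d • v) :=
    qg_b_comm hdv (by rw [C.B_smul_left, C.B_smul_right, C.B_self, mul_zero, mul_zero])
  have hgg : g * g = 1 := by
    rw [hg]
    calc qg C u (c • v) a * C.b (d • v) * (qg C u (c • v) a * C.b (d • v)) =
        qg C u (c • v) a * (C.b (d • v) * qg C u (c • v) a) * C.b (d • v) := by group
      _ = (qg C u (c • v) a * qg C u (c • v) a) * (C.b (d • v) * C.b (d • v)) := by rw [e2]; group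
      _ = 1 := by rw [e1, C.b_sq, one_mul]
  -- `g` commutes with `k`
  have hgk : (k : G) * g = g * k := by
    have h2 : g = k * y * k * y := by rw [hacd, mul_assoc, h.sq, mul_one]
    have h3 : (k : G) * g * k = g⁻¹ := by
      rw [h2]
      have h4 : (k * y * k * y)⁻¹ = y⁻¹ * (k : G)⁻¹ * y⁻¹ * (k : G)⁻¹ := by group
      rw [h4, h.inv_eq, hki]
      calc (k : G) * (k * y * k * y) * k = (k * k) * y * k * y * k := by group
        _ = _ := by rw [hkk, one_mul]
    rw [inv_eq_of_mul_eq_one_right hgg] at h3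
    calc (k : G) * g = k * g * (k * k) := by rw [hkk, mul_one]
      _ = (k * g * k) * k := by group
      _ = _ := by rw [h3]
  have hd : d = 0 := by
    rcases z2 d with h2 | h2
    · exact h2
    exfalso
    rw [hg, h2, one_smul] at hgk
    have h3 : qg C u p0 0 * qg C u (c • v) a = qg C u (c • v) a * qg C u p0 0 := qg_comm C hp0 hcv
    rw [← hkq] at h3
    have h4 : (k : G) * C.b v = C.b v * k := by
      have h5 : qg C u (c • v) a * ((k : G) * C.b v) = qg C u (c • v) a * (C.b v * k) := by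
        rw [← mul_assoc, ← h3, mul_assoc, hgk, mul_assoc]
      exact mul_left_cancel h5
    have h5 := C.fix_of_comm h4
    rw [hkv] at h5
    exact hu (add_eq_left.1 h5)
  rw [hd, zero_smul, C.b_zero, mul_one] at hg
  have hyk : y * k * y = k * g := by
    calc y * k * y = (k * k) * y * k * y := by rw [hkk, one_mul]
      _ = k * (k * y * k) * y := by group
      _ = k * (g * (y * y)) := by rw [hacd]; group
      _ = _ := by rw [h.sq, mul_one]
  refine ⟨a, c, fun p e hp => ?_⟩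
  rcases z2 (C.S.B p v) with hpv | hpv
  · rw [hpv, zero_mul, zero_mul, zero_smul, qg_zero, mul_one, h.comm_q hvu hp hpv, mul_assoc, h.sq, mul_one]
  · rw [hpv, one_mul, one_mul, ← hg]
    have hpp : C.S.B (p + p0) u = 0 := by rw [C.B_add_left, hp, hp0, add_zero]
    have hpp' : C.S.B (p + p0) v = 0 := by rw [C.B_add_left, hpv, hp0v, z2_add]
    obtain ⟨e', he'⟩ : ∃ e', qg C u p e = k * qg C u (p + p0) e' := by
      refine ⟨e + C.S.B p0 (p + p0), ?_⟩
      rw [hkq, qg_mul C hp0 hpp, add_comm p p0, aac]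
      congr 1
      rw [zero_add, add_assoc, z2_add, add_zero]
    have h2 := h.comm_q hvu hpp hpp' e'
    have h3 : qg C u (p + p0) e' * g = g * qg C u (p + p0) e' := by rw [hg]; exact qg_comm C hpp hcv
    rw [he']
    calc y * (k * qg C u (p + p0) e') * y = y * k * (qg C u (p + p0) e' * y) := by group
      _ = (y * k * y) * qg C u (p + p0) e' := by rw [← h2]; group
      _ = k * (g * qg C u (p + p0) e') := by rw [hyk]; group
      _ = _ := by rw [← h3]; group

theorem IsX.mul_bv (h : IsX C u v y) (hvu : C.S.B v u = 0) : IsX C u v (y * C.b v) := by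
  have h1 := h.comm v hvu (C.B_self v)
  have h2 : C.b v * C.t = C.t * C.b v := t_comm C (C.S.τ v)
  have h3 : C.b v * qg C u v 0 = qg C u v 0 * C.b v := qg_b_comm hvu (C.B_self v)
  refine ⟨?_, ?_, ?_⟩
  · calc y * C.b v * (y * C.b v) = (y * C.b v) * y * C.b v := by group
      _ = C.b v * (y * y) * C.b v := by rw [h1]; group
      _ = 1 := by rw [h.sq, mul_one, C.b_sq]
  · calc y * C.b v * C.t * (y * C.b v) = y * (C.b v * C.t) * y * C.b v := by group
      _ = y * C.t * (C.b v * y) * C.b v := by rw [h2]; group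
      _ = (y * C.t * y) * (C.b v * C.b v) := by rw [← h1]; group
      _ = _ := by rw [h.conj_t, C.b_sq, mul_one]
  · intro e he he'
    have h4 := h.comm e he he'
    have h5 : C.b v * C.b e = C.b e * C.b v := C.b_comm (by rw [C.symm]; exact he')
    rw [mul_assoc, h5, ← mul_assoc, h4, mul_assoc]

/-- the two cases -/
theorem IsX.cases [Finite V] (hu : u ≠ 0) (hv : v ∉ ln u) (hvu : C.S.B v u = 0) (h : IsX C u v y) :
    ∃ y', U0 C u v y' ∨ UC C u v y' := by
  obtain ⟨a, c, hac⟩ := h.pencil hu hv hvu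
  have h1 := h.comm v hvu (C.B_self v)
  have key : ∀ p e, C.S.B p u = 0 → y * C.b v * qg C u p e * (y * C.b v) =
      qg C u (p + (C.S.B p v * (1 + c)) • v) (e + C.S.B p v * (a + c)) := by
    intro p e hp
    have h2 := qg_b_conj C (u := u) (p := p) (e := e) (x := v) hvu
    have h3 : C.S.B (p + C.S.B p v • v) u = 0 := by rw [C.B_add_left, C.B_smul_left, hp, hvu, mul_zero, add_zero]
    have h4 := hac _ e h3
    calc y * C.b v * qg C u p e * (y * C.b v) = y * C.b v * qg C u p e * (C.b v * y) := by rw [h1]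
      _ = y * (C.b v * qg C u p e * C.b v) * y := by group
      _ = _ := by
        rw [h2, h4, qg_mul C h3 (by rw [C.B_smul_left, hvu, mul_zero])]
        simp only [C.B_add_left, C.B_smul_left, C.B_smul_right, C.B_self, mul_zero, add_zero]
        rw [add_assoc, ← add_smul]
        generalize C.S.B p v = i
        have e1 : i + i * c = i * (1 + c) := by ring
        have e2 : ∀ e i a c : ZMod 2, e + i * a + i * c * i = e + i * (a + c) := by decide
        rw [e1, e2]
  rcases z2 a with rfl | rfl <;> rcases z2 c with rfl | rfl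
  · refine ⟨y, Or.inl ⟨h, fun p e hp => ?_⟩⟩
    rw [hac p e hp, mul_zero, zero_smul, qg_zero, mul_one]
  · refine ⟨y, Or.inr ⟨h, fun p e hp => ?_⟩⟩
    rw [hac p e hp, mul_zero, mul_one, qg_mul C hp (by rw [C.B_smul_left, hvu, mul_zero])]
    simp only [C.B_smul_right, add_zero, z2_mul]
  · refine ⟨y * C.b v, Or.inr ⟨h.mul_bv hvu, fun p e hp => ?_⟩⟩
    rw [key p e hp, add_zero, mul_one]
  · refine ⟨y * C.b v, Or.inl ⟨h.mul_bv hvu, fun p e hp => ?_⟩⟩
    rw [key p e hp, z2_add, mul_zero, zero_smul, add_zero, add_zero]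

theorem U0.conj (h : U0 C u v y) (m : C.L) : U0 C (C.S.ρ m u) (C.S.ρ m v) (m * y * (m : G)⁻¹) := by
  refine ⟨h.toIsX.conj m, fun p e hp => ?_⟩
  have h1 : C.S.ρ m (C.S.ρ m⁻¹ p) = p := C.S.ρ_apply_inv m p
  have h2 : C.S.B (C.S.ρ m⁻¹ p) u = 0 := by rw [← C.S.inv m, h1]; exact hp
  have h3 := h.act _ e h2
  have h4 := qg_conj C (u := u) (p := C.S.ρ m⁻¹ p) (e := e) m
  rw [h1] at h4
  rw [← h4]
  calc m * y * (m : G)⁻¹ * (m * qg C u (C.S.ρ m⁻¹ p) e * (m : G)⁻¹) * (m * y * (m : G)⁻¹) =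
      m * (y * qg C u (C.S.ρ m⁻¹ p) e * y) * (m : G)⁻¹ := by group
    _ = _ := by rw [h3]

theorem UC.conj (h : UC C u v y) (m : C.L) : UC C (C.S.ρ m u) (C.S.ρ m v) (m * y * (m : G)⁻¹) := by
  refine ⟨h.toIsX.conj m, fun p e hp => ?_⟩
  have h1 : C.S.ρ m (C.S.ρ m⁻¹ p) = p := C.S.ρ_apply_inv m p
  have h2 : C.S.B (C.S.ρ m⁻¹ p) u = 0 := by rw [← C.S.inv m, h1]; exact hp
  have h3 := h.act _ e h2
  have h4 := qg_conj C (u := u) (p := C.S.ρ m⁻¹ p) (e := e) m
  rw [h1] at h4
  have h5 : C.S.B (C.S.ρ m⁻¹ p) v = C.S.B p (C.S.ρ m v) := by rw [← C.S.inv m, h1]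
  rw [← h4]
  calc m * y * (m : G)⁻¹ * (m * qg C u (C.S.ρ m⁻¹ p) e * (m : G)⁻¹) * (m * y * (m : G)⁻¹) =
      m * (y * qg C u (C.S.ρ m⁻¹ p) e * y) * (m : G)⁻¹ := by group
    _ = _ := by rw [h3, qg_conj, map_add, map_smul, h1, h5]

end Cfsg.Agent.OddHalf.SpTwoN.KappaDef

end

-- merged: Cfsg.Agent.OddHalf.SpTwoN.KappaPen
section

/-!
# The pencil of lines through `u`

`U0.kappa_zero`: if the elements `y` over the lines through `u` act trivially on `Q_u` then `κ = 0`.
`UC.three`: if `y` acts like `b_v` then `y (b_x y b_x) y ∈ ⟨b_u⟩ b_x`.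
-/

set_option autoImplicit false

namespace Cfsg.Agent.OddHalf.SpTwoN.KappaPen

open Cfsg.Agent.StandardComponent.SpTwo Cfsg.Agent.OddHalf Cfsg.Agent.OddHalf.SpTwo
open Cfsg.Agent.OddHalf.SpTwoN Cfsg.Agent.OddHalf.SpTwoN.LBStart Cfsg.Agent.OddHalf.SpTwoN.KappaDef

variable {G V : Type*} [Group G] [AddCommGroup V] [Module (ZMod 2) V] {C : Ctx G V}
variable {u v : V} {y : G}

theorem notMem_of_B {u v x : V} (hvu : C.S.B v u = 0) (hx : C.S.B x v = 1) : x ∉ ln u := by
  rw [mem_ln]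
  rintro (rfl | rfl)
  · rw [C.B_zero_left] at hx
    exact zero_ne_one hx
  · rw [C.symm, hvu] at hx
    exact zero_ne_one hx

/-- elements of `C(t)` centralizing `Q_u` -/
theorem exists_qg [Finite V] (hu : u ≠ 0) {g : G} (hg : g * C.t = C.t * g)
    (hq : ∀ p e, C.S.B p u = 0 → g * qg C u p e = qg C u p e * g) :
    ∃ p e, C.S.B p u = 0 ∧ (g = qg C u p e ∨ g = C.t * qg C u p e) := by
  obtain ⟨k, hk⟩ := exists_lift C hg
  have h1 : ∀ p e, C.S.B p u = 0 → (k : G) * qg C u p e = qg C u p e * k := by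
    intro p e hp
    have h2 := hq p e hp
    rcases hk with rfl | rfl
    · exact h2
    · have h3 : C.t * ((k : G) * qg C u p e) = C.t * (qg C u p e * k) := by
        rw [← mul_assoc, h2, ← mul_assoc, qg_t, mul_assoc]
      exact mul_left_cancel h3
  have h2 : k ∈ QU C.S (ln u) := by
    apply mem_QU_of_commute C.S hu
    · have h3 := h1 0 1 (C.B_zero_left u)
      rw [qg_zero_one] at h3
      exact Subtype.ext h3
    · intro p hp
      exact Subtype.ext (h1 p 0 hp)
  obtain ⟨p, e, hp, rfl⟩ := mem_QU_ln C.S hu h2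
  exact ⟨p, e, hp, hk⟩

/-- the trivial action forces `κ = 0` -/
theorem _root_.Cfsg.Agent.OddHalf.SpTwoN.KappaDef.U0.kappa_zero (hu : u ≠ 0) (hv : v ∉ ln u)
    (hvu : C.S.B v u = 0) (h : U0 C u v y) {n : G} (hn : IsY C u n) {κ : ZMod 2} {Q : V → ZMod 2}
    (ht : HasType C u n κ Q) : κ = 0 := by
  have hfinV := C.finV
  obtain ⟨v', hv'u, hv'v⟩ := sep C.S hv
  rw [mem_perp_ln] at hv'u
  have hv' : v' ∉ ln u := notMem_of_B hvu hv'v
  have hwu : C.S.B (v + v') u = 0 := by rw [C.B_add_left, hvu, hv'u, add_zero]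
  have hw' : v + v' ∉ ln u := notMem_of_B hvu (by rw [C.B_add_left, C.B_self, hv'v, zero_add])
  obtain ⟨m2, h2u, h2v, -⟩ := trans_vec_perp C.S hv hv' hvu hv'u
  obtain ⟨m3, h3u, h3v, -⟩ := trans_vec_perp C.S hv hw' hvu hwu
  have h2 := h.conj m2
  have h3 := h.conj m3
  rw [h2u, h2v] at h2
  rw [h3u, h3v] at h3
  obtain ⟨y2, hy2⟩ : ∃ y2, y2 = (m2 : G) * y * (m2 : G)⁻¹ := ⟨_, rfl⟩
  obtain ⟨y3, hy3⟩ : ∃ y3, y3 = (m3 : G) * y * (m3 : G)⁻¹ := ⟨_, rfl⟩
  rw [← hy2] at h2
  rw [← hy3] at h3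
  have cq : ∀ {z : G} {w : V}, U0 C u w z → ∀ p e, C.S.B p u = 0 → z * qg C u p e = qg C u p e * z := by
    intro z w hz p e hp
    have h4 := hz.act p e hp
    calc z * qg C u p e = z * qg C u p e * (z * z) := by rw [hz.sq, mul_one]
      _ = (z * qg C u p e * z) * z := by group
      _ = _ := by rw [h4]
  have c1 := cq h
  have c2 := cq h2
  have c3 := cq h3
  have hcn : ∀ p e, C.S.B p u = 0 → n * qg C u p e = qg C u p e * n := fun p e hp => hn.conj_q hp e
  obtain ⟨f, hf⟩ : ∃ f, f = y * y2 * y3 := ⟨_, rfl⟩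
  have cf : ∀ p e, C.S.B p u = 0 → f * qg C u p e = qg C u p e * f := by
    intro p e hp
    rw [hf]
    exact ((Commute.mul_left (c1 p e hp) (c2 p e hp)).mul_left (c3 p e hp)).eq
  have hb : qg C u v 0 * qg C u v' 0 * qg C u (v + v') 0 = C.b u := by
    rw [qg_mul C hvu hv'u, qg_mul C hwu hwu, aa, C.B_self, C.symm v v', hv'v, ← qg_zero_one]
    congr 1
  have hft : f * C.t = C.t * C.b u * f := by
    have e2 := c1 v' 0 hv'u
    have e3 := c1 (v + v') 0 hwu
    have e4 := c2 (v + v') 0 hwu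
    calc f * C.t = y * y2 * (y3 * C.t) := by rw [hf]; group
      _ = y * (y2 * C.t) * qg C u (v + v') 0 * y3 := by rw [h3.yt]; group
      _ = (y * C.t) * qg C u v' 0 * (y2 * qg C u (v + v') 0) * y3 := by rw [h2.yt]; group
      _ = (y * C.t) * qg C u v' 0 * (qg C u (v + v') 0 * y2) * y3 := by rw [e4]
      _ = C.t * qg C u v 0 * (y * qg C u v' 0) * qg C u (v + v') 0 * y2 * y3 := by rw [h.yt]; group
      _ = C.t * qg C u v 0 * qg C u v' 0 * (y * qg C u (v + v') 0) * y2 * y3 := by rw [e2]; group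
      _ = C.t * (qg C u v 0 * qg C u v' 0 * qg C u (v + v') 0) * (y * y2 * y3) := by rw [e3]; group
      _ = _ := by rw [hb, hf]
  have hnt : n * C.t = C.t * C.b u * n := by rw [← hn.conj_t, mul_assoc (n * C.t), hn.sq, mul_one]
  have hfb : f * C.b u = C.b u * f := by
    have := cf 0 1 (C.B_zero_left u)
    rwa [qg_zero_one] at this
  have hgt : f * n * C.t = C.t * (f * n) := by
    calc f * n * C.t = (f * C.t) * C.b u * n := by rw [mul_assoc, hnt]; group
      _ = C.t * C.b u * (f * C.b u) * n := by rw [hft]; group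
      _ = C.t * (C.b u * C.b u) * f * n := by rw [hfb]; group
      _ = _ := by rw [C.b_sq]; group
  obtain ⟨p0, e0, hp0, hg⟩ := exists_qg hu hgt (fun p e hp => by
    rw [mul_assoc, hcn p e hp, ← mul_assoc, cf p e hp, mul_assoc])
  -- a vector
  obtain ⟨w, hw, hwl⟩ := room C.S C.cardV (A := pl u v ⊔ ln v') (A' := ln u) (by
    have h4 := finrank_pl_le u v
    have h5 := finrank_sup_ln_le (pl u v) v'
    have h6 := finrank_ln_le u
    omega)
  rw [mem_perp_sup, mem_perp_pl, mem_perp_ln] at hw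
  obtain ⟨⟨hwu', hwv⟩, hwv'⟩ := hw
  obtain ⟨i, hi⟩ : ∃ i, i = C.S.B w p0 := ⟨_, rfl⟩
  refine ht.kappa_zero hu hwu' hwl (z := w + i • u) ?_
  have hgb : f * n * C.b w = C.b (w + i • u) * (f * n) := by
    have h4 : qg C u p0 e0 * C.b w = C.b (w + i • u) * qg C u p0 e0 := by
      have h5 := C.b_conj (SpTwo.q C.S u p0 e0) w
      rw [q_apply C.S hp0, hwu', mul_zero, zero_smul, zero_smul, add_zero, add_zero, ← hi] at h5
      exact mul_inv_eq_iff_eq_mul.1 h5
    rcases hg with hg | hg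
    · rw [hg, h4]
    · rw [hg, mul_assoc, h4, ← mul_assoc, ← mul_assoc]
      congr 1
      exact (t_comm C (C.S.τ (w + i • u))).symm
  have huv : C.S.B u v = 0 := by rw [C.symm]; exact hvu
  have huv' : C.S.B u v' = 0 := by rw [C.symm]; exact hv'u
  have hfw : f * C.b (w + i • u) = C.b (w + i • u) * f := by
    have e1 : C.S.B (w + i • u) u = 0 := by rw [C.B_add_left, C.B_smul_left, C.B_self, hwu', mul_zero, add_zero]
    have e2 : C.S.B (w + i • u) v = 0 := by rw [C.B_add_left, C.B_smul_left, huv, hwv, mul_zero, add_zero]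
    have e3 : C.S.B (w + i • u) v' = 0 := by rw [C.B_add_left, C.B_smul_left, huv', hwv', mul_zero, add_zero]
    rw [hf]
    exact ((Commute.mul_left (h.comm _ e1 e2) (h2.comm _ e1 e3)).mul_left
      (h3.comm _ e1 (by rw [C.B_add_right, e2, e3, add_zero]))).eq
  have h4 : f * (n * C.b w) = f * (C.b (w + i • u) * n) := by
    rw [← mul_assoc, hgb, ← mul_assoc, ← mul_assoc, hfw]
  rw [mul_left_cancel h4, mul_assoc, hn.sq, mul_one]

/-- the first form of the relation -/
theorem _root_.Cfsg.Agent.OddHalf.SpTwoN.KappaDef.UC.three_aux [Finite V] (hu : u ≠ 0) (hv : v ∉ ln u)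
    (hvu : C.S.B v u = 0) (h : UC C u v y) {x : V} (hxu : C.S.B x u = 0) (hxv : C.S.B x v = 1) :
    (∃ e, y * (C.b x * y * C.b x) * y = qg C u 0 e * C.b x) ∨
      ∃ e, y * (C.b x * y * C.b x) * y = C.t * qg C u x e * C.b x := by
  have huv : C.S.B u v = 0 := by rw [C.symm]; exact hvu
  have hux : C.S.B u x = 0 := by rw [C.symm]; exact hxu
  have hvx : C.S.B v x = 1 := by rw [C.symm]; exact hxv
  have hvxu : C.S.B (v + x) u = 0 := by rw [C.B_add_left, hvu, hxu, add_zero]
  have hxl : x ∉ ln u := notMem_of_B hvu hxv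
  obtain ⟨y1, hy1⟩ : ∃ y1, y1 = C.b x * y * C.b x := ⟨_, rfl⟩
  rw [← hy1]
  have h1 : UC C u (v + x) y1 := by
    have h2 := h.conj (C.S.τ x)
    rw [C.S.hτ, C.S.hτ, hux, hvx, zero_smul, add_zero, one_smul] at h2
    have e : ((C.S.τ x : C.L) : G)⁻¹ = C.b x := C.b_inv x
    rw [e] at h2
    rw [hy1]
    exact h2
  obtain ⟨f, hf⟩ : ∃ f, f = y * y1 * y := ⟨_, rfl⟩
  rw [← hf]
  have hff : f * f = 1 := by
    rw [hf]
    calc y * y1 * y * (y * y1 * y) = y * y1 * (y * y) * y1 * y := by group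
      _ = y * (y1 * y1) * y := by rw [h.sq]; group
      _ = 1 := by rw [h1.sq, mul_one, h.sq]
  -- action on `Q_u`
  have hact : ∀ p e, C.S.B p u = 0 → f * qg C u p e * f = qg C u (p + C.S.B p x • x) e := by
    intro p e hp
    have e1 := h.act p e hp
    have hp1 : C.S.B (p + C.S.B p v • v) u = 0 := by rw [C.B_add_left, C.B_smul_left, hp, hvu, mul_zero, add_zero]
    have e2 := h1.act _ (e + C.S.B p v) hp1
    have hb1 : C.S.B (p + C.S.B p v • v) (v + x) = C.S.B p x := by
      rw [C.B_add_left, C.B_smul_left, C.B_add_right, C.B_add_right, C.B_self, hvx, zero_add, mul_one,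
        add_right_comm, z2_add, zero_add]
    rw [hb1] at e2
    have hp2 : C.S.B (p + C.S.B p v • v + C.S.B p x • (v + x)) u = 0 := by
      rw [C.B_add_left, C.B_smul_left, hp1, hvxu, mul_zero, add_zero]
    have e3 := h.act _ (e + C.S.B p v + C.S.B p x) hp2
    have hb2 : C.S.B (p + C.S.B p v • v + C.S.B p x • (v + x)) v = C.S.B p v + C.S.B p x := by
      rw [C.B_add_left, C.B_add_left, C.B_smul_left, C.B_smul_left, C.B_add_left, C.B_self, hxv, mul_zero,
        add_zero, zero_add, mul_one]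
    rw [hb2] at e3
    calc f * qg C u p e * f = y * (y1 * (y * qg C u p e * y) * y1) * y := by rw [hf]; group
      _ = _ := by
        rw [e1, e2, e3]
        generalize C.S.B p v = α
        generalize C.S.B p x = β
        have e4 : p + α • v + β • (v + x) + (α + β) • v = p + β • x := by
          rw [smul_add, add_smul]
          have : p + α • v + (β • v + β • x) + (α • v + β • v) =
            p + β • x + (α • v + α • v) + (β • v + β • v) := by abel
          rw [this, aa, aa, add_zero, add_zero]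
        have e5 : ∀ e α β : ZMod 2, e + α + β + (α + β) = e := by decide
        rw [e4, e5]
  -- `f` commutes with `t`
  have hft : f * C.t = C.t * f := by
    have e1 : y * qg C u (v + x) 0 = qg C u x 1 * y := by
      have e2 := h.act (v + x) 0 hvxu
      have e3 : C.S.B (v + x) v = 1 := by rw [C.B_add_left, C.B_self, hxv, zero_add]
      have e4 : v + x + (1 : ZMod 2) • v = x := by rw [one_smul, add_right_comm, aa, zero_add]
      rw [e3, e4, zero_add] at e2
      rw [← e2, mul_assoc (y * _), h.sq, mul_one]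
    have e2 : y1 * qg C u v 0 = qg C u x 1 * y1 := by
      have e3 := h1.act v 0 hvu
      have e4 : C.S.B v (v + x) = 1 := by rw [C.B_add_right, C.B_self, hvx, zero_add]
      have e5 : v + (1 : ZMod 2) • (v + x) = x := by rw [one_smul, aac]
      rw [e4, e5, zero_add] at e3
      rw [← e3, mul_assoc (y1 * _), h1.sq, mul_one]
    have e3 : y * qg C u x 1 = qg C u (x + v) 0 * y := by
      have e4 := h.act x 1 hxu
      rw [hxv, one_smul, z2_add] at e4
      rw [← e4, mul_assoc (y * _), h.sq, mul_one]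
    have e4 : qg C u v 0 * qg C u x 1 * qg C u (x + v) 0 = 1 := by
      rw [qg_mul C hvu hxu, hvx, add_comm x v, qg_mul C hvxu hvxu, aa, C.B_self, ← qg_zero C (u := u)]
      congr 1
    calc f * C.t = y * y1 * (y * C.t) := by rw [hf]; group
      _ = y * (y1 * C.t) * qg C u v 0 * y := by rw [h.yt]; group
      _ = (y * C.t) * qg C u (v + x) 0 * (y1 * qg C u v 0) * y := by rw [h1.yt]; group
      _ = C.t * qg C u v 0 * (y * qg C u (v + x) 0) * qg C u x 1 * y1 * y := by rw [h.yt, e2]; group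
      _ = C.t * qg C u v 0 * qg C u x 1 * (y * qg C u x 1) * y1 * y := by rw [e1]; group
      _ = C.t * (qg C u v 0 * qg C u x 1 * qg C u (x + v) 0) * (y * y1 * y) := by rw [e3]; group
      _ = _ := by rw [e4, mul_one, hf]
  -- `f b_x` centralizes `Q_u`
  have hbt : C.b x * C.t = C.t * C.b x := t_comm C (C.S.τ x)
  obtain ⟨p0, e0, hp0, hg⟩ := exists_qg hu (g := f * C.b x) (by
      rw [mul_assoc, hbt, ← mul_assoc, hft, mul_assoc]) (by
    intro p e hp
    have e1 := qg_b_conj C (u := u) (p := p) (e := e) (x := x) hxu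
    have hp' : C.S.B (p + C.S.B p x • x) u = 0 := by rw [C.B_add_left, C.B_smul_left, hp, hxu, mul_zero, add_zero]
    have e2 := hact _ e hp'
    have e3 : p + C.S.B p x • x + C.S.B (p + C.S.B p x • x) x • x = p := by
      rw [C.B_add_left, C.B_smul_left, C.B_self, mul_zero, add_zero, add_assoc, aa, add_zero]
    rw [e3] at e2
    calc f * C.b x * qg C u p e = f * (C.b x * qg C u p e * C.b x) * C.b x := by
          rw [← mul_assoc, ← mul_assoc, mul_assoc _ (C.b x) (C.b x), C.b_sq, mul_one]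
      _ = f * qg C u (p + C.S.B p x • x) e * (f * f) * C.b x := by rw [e1, hff, mul_one]
      _ = (f * qg C u (p + C.S.B p x • x) e * f) * (f * C.b x) := by group
      _ = _ := by rw [e2])
  -- `p0 ⊥ x`
  have hpx : C.S.B p0 x = 0 := by
    rcases z2 (C.S.B p0 x) with h2 | h2
    · exact h2
    exfalso
    have e1 : f * f = qg C u p0 e0 * (C.b x * qg C u p0 e0 * C.b x) := by
      have e2 : f = f * C.b x * C.b x := by rw [mul_assoc, C.b_sq, mul_one]
      rcases hg with hg | hg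
      · rw [hg] at e2
        calc f * f = qg C u p0 e0 * C.b x * (qg C u p0 e0 * C.b x) := by rw [← e2]
          _ = _ := by group
      · rw [hg] at e2
        have e3 := qg_t C (u := u) (p := p0) (e := e0)
        calc f * f = C.t * qg C u p0 e0 * C.b x * (C.t * qg C u p0 e0 * C.b x) := by rw [← e2]
          _ = C.t * qg C u p0 e0 * (C.b x * C.t) * qg C u p0 e0 * C.b x := by group
          _ = C.t * (qg C u p0 e0 * C.t) * C.b x * qg C u p0 e0 * C.b x := by rw [hbt]; group
          _ = (C.t * C.t) * qg C u p0 e0 * C.b x * qg C u p0 e0 * C.b x := by rw [e3]; group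
          _ = _ := by rw [C.tt]; group
    have hpx' : C.S.B (p0 + x) u = 0 := by rw [C.B_add_left, hp0, hxu, add_zero]
    rw [qg_b_conj C hxu, h2, one_smul, hff, qg_mul C hp0 hpx', ← qg_zero C (u := u)] at e1
    obtain ⟨e2, -⟩ := qg_inj C hu (C.B_zero_left u) (by rw [C.B_add_left, hp0, hpx', add_zero]) e1
    rw [zero_add, aac] at e2
    exact hxl e2
  -- `p0` and the remaining vectors
  have hp0x : ∀ j : ZMod 2, C.S.B p0 v = j → qg C u p0 e0 = qg C u (j • x) e0 := by
    intro j hj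
    have hjx : C.S.B (j • x) u = 0 := by rw [C.B_smul_left, hxu, mul_zero]
    have h2 : p0 + j • x ∈ ln u := by
      apply mem_of_perp C.S
      intro z hz
      rw [mem_perp_ln] at hz
      obtain ⟨e, he⟩ : ∃ e, e = z + (C.S.B z x • v + C.S.B z v • x) := ⟨_, rfl⟩
      have heu : C.S.B e u = 0 := by
        rw [he]; simp only [C.B_add_left, C.B_smul_left, hz, hvu, hxu, mul_zero, add_zero]
      have hev : C.S.B e v = 0 := by
        rw [he]; simp only [C.B_add_left, C.B_smul_left, C.B_self, hxv, mul_zero, mul_one, zero_add, z2_add]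
      have hex : C.S.B e x = 0 := by
        rw [he]; simp only [C.B_add_left, C.B_smul_left, C.B_self, hvx, mul_zero, mul_one, add_zero, z2_add]
      -- `f b_x` commutes with `b_e`
      have h3 : f * C.b x * C.b e = C.b e * (f * C.b x) := by
        have a1 := h.comm e heu hev
        have a2 := h1.comm e heu (by rw [C.B_add_right, hev, hex, add_zero])
        have a3 : C.b x * C.b e = C.b e * C.b x := C.b_comm (by rw [C.symm]; exact hex)
        rw [hf]
        exact (((Commute.mul_left a1 a2).mul_left a1).mul_left a3).eq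
      have h4 : qg C u p0 e0 * C.b e = C.b e * qg C u p0 e0 := by
        rcases hg with hg | hg
        · rwa [hg] at h3
        · rw [hg] at h3
          have a3 : C.b e * C.t = C.t * C.b e := t_comm C (C.S.τ e)
          have a4 : C.t * (qg C u p0 e0 * C.b e) = C.t * (C.b e * qg C u p0 e0) := by
            rw [← mul_assoc, h3, ← mul_assoc, a3, mul_assoc]
          exact mul_left_cancel a4
      have h5 := C.fix_of_comm (k := SpTwo.q C.S u p0 e0) h4
      rw [q_apply C.S hp0, heu, mul_zero, zero_smul, zero_smul, add_zero, add_zero] at h5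
      have h6 : C.S.B e p0 = 0 := by
        rcases z2 (C.S.B e p0) with h7 | h7
        · exact h7
        · rw [h7, one_smul] at h5
          exact absurd (add_eq_left.1 h5) hu
      have h7 : z = e + (C.S.B z x • v + C.S.B z v • x) := by rw [he, add_assoc, aa, add_zero]
      have h8 : C.S.B v p0 = j := by rw [C.symm]; exact hj
      have h9 : C.S.B x p0 = 0 := by rw [C.symm]; exact hpx
      rw [h7]
      simp only [C.B_add_left, C.B_smul_left, C.B_add_right, C.B_smul_right, C.B_self, h6, hex, h8, h9, hvx,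
        mul_zero, mul_one, add_zero, z2_add]
    rcases mem_ln.1 h2 with h3 | h3
    · rw [eq_of_add _ _ h3]
    · have h4 : p0 = j • x + u := by rw [← h3, add_comm p0, ← add_assoc, aa, zero_add]
      rw [h4, qg_add_self C hjx]
  -- `y` commutes with `f b_x`
  have hfb : C.b x * (f * C.b x) = f * C.b x * C.b x := by
    have a1 : C.b x * qg C u p0 e0 = qg C u p0 e0 * C.b x := qg_b_comm hxu hpx
    rcases hg with hg | hg
    · rw [hg, a1]
    · rw [hg, ← mul_assoc, hbt, mul_assoc, a1, mul_assoc]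
  have hyf : y * (f * C.b x) = f * C.b x * y := by
    have a1 : y * C.b x * (f * C.b x) = f * C.b x * (y * C.b x) := by rw [hf, hy1]; group
    calc y * (f * C.b x) = y * (C.b x * C.b x) * (f * C.b x) := by rw [C.b_sq, mul_one]
      _ = y * C.b x * (C.b x * (f * C.b x)) := by group
      _ = y * C.b x * (f * C.b x) * C.b x := by rw [hfb]; group
      _ = f * C.b x * y * (C.b x * C.b x) := by rw [a1]; group
      _ = _ := by rw [C.b_sq, mul_one]
  have hyf' : y * (f * C.b x) * y = f * C.b x := by rw [hyf, mul_assoc, h.sq, mul_one]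
  obtain ⟨α, hα⟩ : ∃ α, α = C.S.B p0 v := ⟨_, rfl⟩
  have ha := h.act p0 e0 hp0
  rw [← hα] at ha
  have hp0' : C.S.B (p0 + α • v) u = 0 := by rw [C.B_add_left, C.B_smul_left, hp0, hvu, mul_zero, add_zero]
  rcases hg with hg | hg
  · left
    rw [hg, ha] at hyf'
    obtain ⟨-, e1⟩ := qg_inj C hu hp0' hp0 hyf'
    have e2 : α = 0 := by
      have : ∀ a b : ZMod 2, a + b = a → b = 0 := by decide
      exact this _ _ e1
    refine ⟨e0, ?_⟩
    have e3 := hp0x 0 (hα.symm.trans e2)
    rw [zero_smul] at e3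
    rw [← e3, ← hg, mul_assoc, C.b_sq, mul_one]
  · right
    have e1 : y * (C.t * qg C u p0 e0) * y = (y * C.t * y) * (y * qg C u p0 e0 * y) := by
      calc y * (C.t * qg C u p0 e0) * y = y * C.t * 1 * qg C u p0 e0 * y := by group
        _ = y * C.t * (y * y) * qg C u p0 e0 * y := by rw [h.sq]
        _ = _ := by group
    rw [hg, e1, h.conj_t, ha, mul_assoc] at hyf'
    have e2 := mul_left_cancel hyf'
    rw [qg_mul C hvu hp0'] at e2
    obtain ⟨e3, -⟩ := qg_inj C hu (by rw [C.B_add_left, hvu, hp0', add_zero]) hp0 e2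
    have e4 : α = 1 := by
      rcases z2 α with h2 | h2
      · exfalso
        rw [h2, zero_smul, add_zero, add_assoc, aa, add_zero] at e3
        exact hv e3
      · exact h2
    refine ⟨e0, ?_⟩
    have e5 := hp0x 1 (hα.symm.trans e4)
    rw [one_smul] at e5
    rw [← e5, ← hg, mul_assoc, C.b_sq, mul_one]

/-- the relation -/
theorem _root_.Cfsg.Agent.OddHalf.SpTwoN.KappaDef.UC.three [Finite V] (hu : u ≠ 0) (hv : v ∉ ln u)
    (hvu : C.S.B v u = 0) (h : UC C u v y) {x : V} (hxu : C.S.B x u = 0) (hxv : C.S.B x v = 1) :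
    ∃ a : ZMod 2, y * (C.b x * y * C.b x) * y = C.b (a • u) * C.b x := by
  rcases h.three_aux hu hv hvu hxu hxv with ⟨e, he⟩ | ⟨e0, he0⟩
  · refine ⟨e, ?_⟩
    rw [he]
    congr 1
    rcases z2 e with rfl | rfl
    · rw [qg_zero, zero_smul, C.b_zero]
    · rw [qg_zero_one, one_smul]
  exfalso
  have huv : C.S.B u v = 0 := by rw [C.symm]; exact hvu
  have hux : C.S.B u x = 0 := by rw [C.symm]; exact hxu
  have hvx : C.S.B v x = 1 := by rw [C.symm]; exact hxv
  have hvxu : C.S.B (v + x) u = 0 := by rw [C.B_add_left, hvu, hxu, add_zero]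
  have hxl : x ∉ ln u := notMem_of_B hvu hxv
  have hvxv : C.S.B (v + x) v = 1 := by rw [C.B_add_left, C.B_self, hxv, zero_add]
  obtain ⟨y1, hy1⟩ : ∃ y1, y1 = C.b x * y * C.b x := ⟨_, rfl⟩
  have h1 : UC C u (v + x) y1 := by
    have h2 := h.conj (C.S.τ x)
    rw [C.S.hτ, C.S.hτ, hux, hvx, zero_smul, add_zero, one_smul] at h2
    have e : ((C.S.τ x : C.L) : G)⁻¹ = C.b x := C.b_inv x
    rw [e] at h2
    rw [hy1]
    exact h2
  obtain ⟨y2, hy2⟩ : ∃ y2, y2 = C.b (v + x) * y * C.b (v + x) := ⟨_, rfl⟩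
  have h2 : UC C u x y2 := by
    have h2 := h.conj (C.S.τ (v + x))
    have e1 : C.S.B u (v + x) = 0 := by rw [C.B_add_right, huv, hux, add_zero]
    have e2 : C.S.B v (v + x) = 1 := by rw [C.B_add_right, C.B_self, hvx, zero_add]
    rw [C.S.hτ, C.S.hτ, e1, e2, zero_smul, add_zero, one_smul, aac] at h2
    have e : ((C.S.τ (v + x) : C.L) : G)⁻¹ = C.b (v + x) := C.b_inv _
    rw [e] at h2
    rw [hy2]
    exact h2
  have haux := h.three_aux hu hv hvu hvxu hvxv
  rw [← hy1] at he0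
  rw [← hy2] at haux
  obtain ⟨f, hf⟩ : ∃ f, f = y * y1 * y := ⟨_, rfl⟩
  obtain ⟨f', hf'⟩ : ∃ f', f' = y * y2 * y := ⟨_, rfl⟩
  rw [← hf] at he0
  rw [← hf'] at haux
  have hff : f * f = 1 := by
    rw [hf]
    calc y * y1 * y * (y * y1 * y) = y * y1 * (y * y) * y1 * y := by group
      _ = y * (y1 * y1) * y := by rw [h.sq]; group
      _ = 1 := by rw [h1.sq, mul_one, h.sq]
  -- first computation
  have k1 : f * y2 * f = qg C u x 0 * y2 := by
    have a1 := h2.comm_q hxu hxu (C.B_self x) e0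
    have a2 := h2.comm x hxu (C.B_self x)
    have a3 := h2.t_conj
    have a4 : f * y2 = qg C u x 0 * y2 * f := by
      calc f * y2 = C.t * qg C u x e0 * (C.b x * y2) := by rw [he0]; group
        _ = C.t * (qg C u x e0 * y2) * C.b x := by rw [← a2]; group
        _ = C.t * y2 * (C.t * C.t) * qg C u x e0 * C.b x := by rw [← a1, C.tt]; group
        _ = (C.t * y2 * C.t) * (C.t * qg C u x e0 * C.b x) := by group
        _ = _ := by rw [a3, he0]
    rw [a4, mul_assoc, hff, mul_one]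
  -- second computation
  have k2 : f * y2 * f = y * (y1 * f' * y1) * y := by rw [hf, hf']; group
  have k3 : y * f' * y = y2 := by
    rw [hf']
    calc y * (y * y2 * y) * y = (y * y) * y2 * (y * y) := by group
      _ = _ := by rw [h.sq]; group
  have a2 := h1.comm (v + x) hvxu (C.B_self _)
  rcases haux with ⟨e, he⟩ | ⟨e, he⟩
  · have a1 := h1.comm_q hvxu (C.B_zero_left u) (C.B_zero_left (v + x)) e
    have a3 : y1 * f' * y1 = f' := by
      calc y1 * f' * y1 = (y1 * qg C u 0 e) * C.b (v + x) * y1 := by rw [he]; group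
        _ = qg C u 0 e * (y1 * C.b (v + x)) * y1 := by rw [a1]; group
        _ = qg C u 0 e * C.b (v + x) * (y1 * y1) := by rw [a2]; group
        _ = _ := by rw [h1.sq, mul_one, he]
    rw [k1, a3, k3] at k2
    have a4 : qg C u x 0 = 1 := by
      have := mul_right_cancel (k2.trans (one_mul y2).symm)
      exact this
    rw [← qg_zero C (u := u)] at a4
    obtain ⟨a5, -⟩ := qg_inj C hu hxu (C.B_zero_left u) a4
    rw [add_zero] at a5
    exact hxl a5
  · have a1 := h1.comm_q hvxu hvxu (C.B_self (v + x)) e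
    have a3 : y1 * f' * y1 = qg C u (v + x) 0 * f' := by
      have a4 := qg_t C (u := u) (p := v + x) (e := 0)
      calc y1 * f' * y1 = (y1 * C.t) * qg C u (v + x) e * C.b (v + x) * y1 := by rw [he]; group
        _ = C.t * qg C u (v + x) 0 * (y1 * qg C u (v + x) e) * C.b (v + x) * y1 := by rw [h1.yt]; group
        _ = C.t * qg C u (v + x) 0 * qg C u (v + x) e * (y1 * C.b (v + x)) * y1 := by rw [a1]; group
        _ = C.t * qg C u (v + x) 0 * qg C u (v + x) e * C.b (v + x) * (y1 * y1) := by rw [a2]; group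
        _ = (C.t * qg C u (v + x) 0) * qg C u (v + x) e * C.b (v + x) := by rw [h1.sq, mul_one]
        _ = _ := by rw [← a4, he]; group
    have a5 : y * (qg C u (v + x) 0 * f') * y = qg C u x 1 * y2 := by
      have a6 := h.act (v + x) 0 hvxu
      have a7 : v + x + (1 : ZMod 2) • v = x := by rw [one_smul, add_right_comm, aa, zero_add]
      rw [hvxv, a7, zero_add] at a6
      calc y * (qg C u (v + x) 0 * f') * y = y * qg C u (v + x) 0 * 1 * f' * y := by group
        _ = y * qg C u (v + x) 0 * (y * y) * f' * y := by rw [h.sq]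
        _ = (y * qg C u (v + x) 0 * y) * (y * f' * y) := by group
        _ = _ := by rw [a6, k3]
    rw [k1, a3, a5] at k2
    obtain ⟨-, a8⟩ := qg_inj C hu hxu hxu (mul_right_cancel k2)
    exact zero_ne_one a8

end Cfsg.Agent.OddHalf.SpTwoN.KappaPen

end

-- merged: Cfsg.Agent.OddHalf.SpTwoN.KappaE
section

/-!
# The commutator of `y` with a long `y_w`

`W` maximal isotropic, `u, v, w ∈ W` independent, `n` a long involution over `w` inducing a translation on `t W`.
`c_mem`: `n y n y ∈ A_W` with diagonal `0` or `w`; `delta_eq`: the diagonal is `w`.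
`triple`: coplanar elements satisfy `y y' y'' ∈ t L`.
-/

set_option autoImplicit false

namespace Cfsg.Agent.OddHalf.SpTwoN.KappaE

open Cfsg.Agent.StandardComponent.SpTwo Cfsg.Agent.OddHalf Cfsg.Agent.OddHalf.SpTwo
open Cfsg.Agent.OddHalf.SpTwoN Cfsg.Agent.OddHalf.SpTwoN.LBStart Cfsg.Agent.OddHalf.SpTwoN.KappaDef
open Cfsg.Agent.OddHalf.SpTwoN.Iso

section Sp

variable {X V : Type*} [Group X] [AddCommGroup V] [Module (ZMod 2) V] (D : SpData X V)

/-- a maximal totally isotropic subspace containing `A` -/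
theorem exists_max_ge [Finite V] {A : Submodule (ZMod 2) V} (hA : A ≤ perp D A) :
    ∃ W : Submodule (ZMod 2) V, Iso.Max D W ∧ A ≤ W := by
  obtain ⟨W, ⟨hW, hAW⟩, hmax⟩ := (wellFounded_gt (α := Submodule (ZMod 2) V)).has_min
    {B : Submodule (ZMod 2) V | B ≤ perp D B ∧ A ≤ B} ⟨A, hA, le_rfl⟩
  have hperp : perp D W ≤ W := by
    intro x hx
    by_contra hxW
    refine hmax (W ⊔ ln x) ⟨?_, hAW.trans le_sup_left⟩ ?_
    · refine sup_le ?_ ?_
      · intro w hw
        rw [mem_perp_sup]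
        refine ⟨hW hw, (mem_perp_ln D).2 ?_⟩
        rw [D.symm]
        exact hx w hw
      · intro y hy
        rcases mem_ln.1 hy with rfl | rfl
        · exact zero_mem _
        · exact (mem_perp_sup D).2 ⟨hx, (mem_perp_ln D).2 (D.alt _)⟩
    · refine lt_of_le_of_ne le_sup_left ?_
      intro h
      apply hxW
      rw [h]
      exact Submodule.mem_sup_right (self_mem_ln x)
  exact ⟨W, fun x => ⟨fun hx => hW hx, fun hx => hperp hx⟩, hAW⟩

/-- an alternating element of `A_⟨u,v,w⟩` commuting with a short root element through `u` -/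
theorem mem_QU_of_alt [Finite V] {u v w : V} (hu : u ≠ 0) (huv : D.B u v = 0) (huw : D.B u w = 0)
    (hw : w ∉ pl u v) {k : X} (hkk : k * k = 1)
    (hk : ∀ e, D.B u e = 0 → D.B v e = 0 → D.B w e = 0 → D.ρ k e = e)
    (halt : ∀ x, D.B x (D.ρ k x) = 0) {p : V} (hpu : D.B p u = 0) (hpw : D.B p w = 0) (hpv : D.B p v = 1)
    (hku : D.ρ k u = u) (hc : k * SpTwo.q D u p 0 = SpTwo.q D u p 0 * k) : k ∈ QU D (ln u) := by
  obtain ⟨f, hf, hfw⟩ := sep D hw
  rw [mem_perp_pl] at hf
  obtain ⟨hfu, hfv⟩ := hf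
  have hnp : D.n k p ∈ ln u := by
    have h1 := q_conj D k (v := u) (u := p) 0
    rw [hc, mul_inv_cancel_right, hku] at h1
    have h2 : D.B (D.ρ k p) u = 0 := by
      have h3 := D.inv k p u
      rw [hku] at h3
      rw [h3]; exact hpu
    obtain ⟨h3, -⟩ := q_inj D hu hpu h2 h1
    rw [D.n_apply, add_comm]
    exact h3
  have hn : ∀ z, D.B z u = 0 → D.n k z = D.B z v • D.n k p + D.B z w • D.n k f := by
    intro z hz
    have h1 : D.ρ k (z + (D.B z v • p + D.B z w • f)) = z + (D.B z v • p + D.B z w • f) := by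
      apply hk
      · rw [D.symm]
        simp only [map_add, LinearMap.add_apply, map_smul, LinearMap.smul_apply, smul_eq_mul, hz, hpu, hfu,
          mul_zero, add_zero]
      · rw [D.symm]
        simp only [map_add, LinearMap.add_apply, map_smul, LinearMap.smul_apply, smul_eq_mul, hpv, hfv,
          mul_zero, mul_one, add_zero, z2_add]
      · rw [D.symm]
        simp only [map_add, LinearMap.add_apply, map_smul, LinearMap.smul_apply, smul_eq_mul, hpw, hfw,
          mul_zero, mul_one, zero_add, z2_add]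
    rw [← D.n_eq_zero, map_add, map_add, map_smul, map_smul] at h1
    exact eq_of_add _ _ h1
  have hBp : ∀ z, D.B z u = 0 → D.B z (D.n k p) = 0 := by
    intro z hz
    rcases mem_ln.1 hnp with h | h
    · rw [h, map_zero]
    · rw [h]; exact hz
  have halt' : ∀ x, D.B x (D.n k x) = 0 := by
    intro x
    rw [D.n_apply, map_add, halt, D.alt, add_zero]
  refine (mem_QU D).2 ⟨fun z hz => ?_, fun z hz => ?_⟩
  · rcases mem_ln.1 hz with rfl | rfl
    · exact map_zero _
    · exact hku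
  · rw [mem_perp_ln] at hz
    change D.n k z ∈ ln u
    apply mem_of_perp D
    intro z' hz'
    rw [mem_perp_ln] at hz'
    have e1 : D.B z' (D.n k f) = 0 := by
      rw [D.n_adj hkk, hn z' hz', map_add, LinearMap.add_apply, map_smul, map_smul, LinearMap.smul_apply,
        LinearMap.smul_apply, D.symm (D.n k p) f, D.symm (D.n k f) f, hBp f hfu, halt', smul_zero, smul_zero, add_zero]
    rw [hn z hz, map_add, map_smul, map_smul, hBp z' hz', e1, smul_zero, smul_zero, add_zero]

end Sp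

variable {G V : Type*} [Group G] [AddCommGroup V] [Module (ZMod 2) V] {C : Ctx G V}

/-- a long involution over `w` inducing a translation on `t W` -/
structure LY (W : Submodule (ZMod 2) V) (w : V) (n : G) (Q : V → ZMod 2) : Prop where
  isY : IsY C w n
  type : HasType C w n 1 Q
  zero : ∀ x ∈ W, Q x = 0
  tr : Transl.E C W w n

theorem exists_LY {W : Submodule (ZMod 2) V} (hW : Iso.Max C.S W) {w : V} (hwW : w ∈ W)
    {y : G} (hy : IsY C w y) {Q : V → ZMod 2} (ht : HasType C w y 1 Q) :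
    ∃ n Q, LY (C := C) W w n Q := by
  have hfinV := C.finV
  have hWv : ∀ x ∈ W, C.S.B x w = 0 := fun x hx => hW.perp hx hwW
  have hQ0 : Q 0 = 0 := by
    have h := ht.quad 0 0 (B_zero C.S w) (B_zero C.S w)
    rw [add_zero, B_zero, mul_zero, add_zero, z2_add] at h
    exact h
  let f : W →+ ZMod 2 :=
    { toFun := fun w => Q w
      map_zero' := hQ0
      map_add' := fun a b => by
        change Q ((a : V) + b) = Q a + Q b
        rw [ht.quad a b (hWv a a.2) (hWv b b.2), hW.perp a.2 b.2, mul_zero, add_zero] }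
  obtain ⟨p, hp⟩ := B_surj_on C.S W (f.toZModLinearMap 2)
  have hp' : ∀ u ∈ W, C.S.B p u = Q u := fun u hu => hp ⟨u, hu⟩
  have hpv : C.S.B p w = 0 := by rw [hp' w hwW, ht.zero]
  have hy' := hy.mul_q hpv 0
  have ht' := ht.mul_q hy hpv 0
  have hz : ∀ x ∈ W, Q x + C.S.B p x = 0 := fun x hx => by rw [hp' x hx, z2_add]
  refine ⟨_, _, hy', ht', hz, ?_, hy'.sq⟩
  intro x hx
  have h3 := ht'.form x (hWv x hx)
  simp only [hz x hx] at h3
  rw [zero_add, one_smul] at h3
  rw [hy'.inv_eq, hy'.mul_conj, hy'.conj_t, h3, mul_assoc]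
  congr 1
  change ((C.S.τ w * (SpTwo.q C.S w x 0 * C.S.τ x) : C.L) : G) = C.S.τ (x + w)
  rw [← q_mul_τ C.S (hWv x hx), ← mul_assoc, ← q_zero_one, q_mul C.S (B_zero C.S w) (hWv x hx), zero_add,
    add_zero, B_zero, add_zero]

section

variable {W : Submodule (ZMod 2) V} {u v w : V} {y n : G} {Q : V → ZMod 2}

/-- `y` centralizes `A_W` -/
theorem comm_AW (hW : Iso.Max C.S W) (huW : u ∈ W) (hvW : v ∈ W) (h : IsX C u v y) {a : C.L}
    (ha : a ∈ AW C.S W) : y * (a : G) = a * y := by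
  have hfinV := C.finV
  have h1 : a ∈ GW C.S W := by rw [← hW.AW_eq_GW]; exact ha
  have key : ∀ a : C.L, a ∈ GW C.S W → y * (a : G) = a * y := by
    intro a ha
    induction ha using Subgroup.closure_induction with
    | mem x hx =>
      obtain ⟨z, hz, rfl⟩ := hx
      exact h.comm z (hW.perp hz huW) (hW.perp hz hvW)
    | one => change y * 1 = 1 * y; group
    | mul x y' _ _ h1 h2 => rw [Subgroup.coe_mul, ← mul_assoc, h1, mul_assoc, h2, mul_assoc]
    | inv x _ h1 =>
      change y * (x : G)⁻¹ = (x : G)⁻¹ * y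
      rw [eq_inv_mul_iff_mul_eq, ← mul_assoc, ← h1, mul_inv_cancel_right]
  exact key a h1

theorem s_eq (u v : V) : Transl.s C u v = qg C u v 0 := by
  change ((Words.sg C.S u v : C.L) : G) = ((SpTwo.q C.S u v 0 : C.L) : G)
  rw [Words.sg, SpTwo.q, zero_smul, C.S.τ_zero, mul_one]

/-- the commutator of `y` and a long involution -/
theorem c_mem (hW : Iso.Max C.S W) (huW : u ∈ W) (hvW : v ∈ W) (hwW : w ∈ W) (hu : u ≠ 0) (hv : v ∉ ln u)
    (hw0 : w ≠ 0) (h : IsX C u v y) (hn : LY (C := C) W w n Q) :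
    ∃ k : C.L, n * y * n * y = k ∧ k ∈ AW C.S W ∧ (δ C.S k = 0 ∨ δ C.S k = w) ∧
      ∀ e, C.S.B u e = 0 → C.S.B v e = 0 → C.S.B w e = 0 → C.S.ρ k e = e := by
  have hfinV := C.finV
  have hvu : C.S.B v u = 0 := hW.perp hvW huW
  have huv : C.S.B u v = 0 := hW.perp huW hvW
  have hs := h.comm_s hvu
  have hsW : Words.sg C.S u v ∈ AW C.S W := hW.sg_mem huW hvW
  have hns : n * qg C u v 0 = qg C u v 0 * n := by
    rw [← s_eq u v]
    exact hn.tr.1.comm_alt hW hwW hsW (δ_sg huv)
  have hbn : n * C.b w = C.b w * n := hn.isY.comm_b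
  have hby : y * C.b w = C.b w * y := h.comm w (hW.perp hwW huW) (hW.perp hwW hvW)
  have hbs : C.b w * qg C u v 0 = qg C u v 0 * C.b w := qg_b_comm (hW.perp hwW huW) (hW.perp hvW hwW)
  have hss : qg C u v 0 * qg C u v 0 = 1 := qg_sq C hvu
  have hnt : n * C.t = C.t * C.b w * n := by
    rw [← hn.isY.conj_t, mul_assoc (n * C.t), hn.isY.sq, mul_one]
  have hct : n * y * n * y * C.t = C.t * (n * y * n * y) := by
    have e1 : y * n * y * C.t = C.t * C.b w * (y * n * y) := by
      calc y * n * y * C.t = y * n * (y * C.t) := by group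
        _ = y * (n * C.t) * qg C u v 0 * y := by rw [h.yt]; group
        _ = (y * C.t) * C.b w * (n * qg C u v 0) * y := by rw [hnt]; group
        _ = C.t * qg C u v 0 * (y * C.b w) * qg C u v 0 * n * y := by rw [h.yt, hns]; group
        _ = C.t * (C.b w * qg C u v 0) * (y * qg C u v 0) * n * y := by rw [hby, hbs]; group
        _ = C.t * C.b w * (qg C u v 0 * qg C u v 0) * y * n * y := by rw [hs]; group
        _ = _ := by rw [hss]; group
    calc n * y * n * y * C.t = n * (y * n * y * C.t) := by group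
      _ = (n * C.t) * C.b w * (y * n * y) := by rw [e1]; group
      _ = C.t * C.b w * (n * C.b w) * (y * n * y) := by rw [hnt]; group
      _ = C.t * (C.b w * C.b w) * (n * y * n * y) := by rw [hbn]; group
      _ = _ := by rw [C.b_sq, mul_one]
  obtain ⟨k, hk, hkf⟩ := Dich.lift_fix (E := fun e => C.S.B u e = 0 ∧ C.S.B v e = 0 ∧ C.S.B w e = 0) hct (by
    rintro e ⟨h1, h2, h3⟩
    rw [C.symm] at h1 h2 h3
    have e1 := h.comm e h1 h2
    have e2 := hn.type.form e h3
    obtain ⟨g, hg⟩ : ∃ g : G, g = ((SpTwo.q C.S w ((Q e + 1) • e) (Q e) * C.S.τ e : C.L) : G) := ⟨_, rfl⟩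
    rw [← hg] at e2
    have e3 : y * g = g * y := by
      have hwy : y * C.b w = C.b w * y := hby
      have a1 : ∀ i : ZMod 2, y * C.b (i • w) = C.b (i • w) * y := fun i => by
        rcases z2 i with rfl | rfl
        · rw [zero_smul, C.b_zero, mul_one, one_mul]
        · rw [one_smul]; exact hby
      have a2 : ∀ i : ZMod 2, y * C.b (i • e) = C.b (i • e) * y := fun i => by
        rcases z2 i with rfl | rfl
        · rw [zero_smul, C.b_zero, mul_one, one_mul]
        · rw [one_smul]; exact e1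
      have a3 : ∀ i : ZMod 2, y * C.b (w + i • e) = C.b (w + i • e) * y := fun i => by
        apply h.comm
        · rw [C.B_add_left, C.B_smul_left, h1, hW.perp hwW huW, mul_zero, add_zero]
        · rw [C.B_add_left, C.B_smul_left, h2, hW.perp hwW hvW, mul_zero, add_zero]
      have a4 : g = C.b w * C.b ((Q e + 1) • e) * C.b (w + (Q e + 1) • e) * C.b (Q e • w) * C.b e := hg
      rw [a4]
      exact ((((Commute.mul_right hwy (a2 _)).mul_right (a3 _)).mul_right (a1 _)).mul_right e1).eq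
    have e4 : n * C.b e = g * n := by rw [← e2, mul_assoc (n * C.b e), hn.isY.sq, mul_one]
    have e5 : n * g = C.b e * n := by
      rw [← e2, ← mul_assoc, ← mul_assoc, hn.isY.sq, one_mul]
    calc n * y * n * y * C.b e = n * y * n * (y * C.b e) := by group
      _ = n * y * (n * C.b e) * y := by rw [e1]; group
      _ = n * (y * g) * n * y := by rw [e4]; group
      _ = (n * g) * y * n * y := by rw [e3]; group
      _ = _ := by rw [e5]; group)
  have hkW : k ∈ AW C.S W := fun x hx => hkf x ⟨hW.perp huW hx, hW.perp hvW hx, hW.perp hwW hx⟩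
  have hyk := comm_AW hW huW hvW h hkW
  have hkk : (k : G) * k = 1 := Transl.asq hW hkW
  have hinv : (n * y * n * y)⁻¹ = y * n * y * n := by
    rw [mul_inv_rev, mul_inv_rev, mul_inv_rev, h.inv_eq, hn.isY.inv_eq]; group
  have hyc : y * (n * y * n * y) * y = y * n * y * n := by
    calc y * (n * y * n * y) * y = y * n * y * n * (y * y) := by group
      _ = _ := by rw [h.sq, mul_one]
  have hnc : n * (n * y * n * y) * n = y * n * y * n := by
    calc n * (n * y * n * y) * n = (n * n) * (y * n * y * n) := by group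
      _ = _ := by rw [hn.isY.sq, one_mul]
  rcases hk with hk | hk
  · refine ⟨k, hk, hkW, ?_, fun e h1 h2 h3 => hkf e ⟨h1, h2, h3⟩⟩
    have e1 := hn.tr.conj_a hW hwW hkW
    rw [← hinv, hk, Transl.inv_of_sq hkk] at hnc
    rw [hnc] at e1
    have e2 : Transl.s C w (δ C.S k) = 1 := by
      have e3 : (k : G) * 1 = k * Transl.s C w (δ C.S k) := by rw [mul_one]; exact e1
      exact (mul_left_cancel e3).symm
    exact Transl.δ_cases hW hwW hw0 hkW e2
  · exfalso
    rw [← hinv, hk] at hyc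
    have e1 : (C.t * (k : G))⁻¹ = C.t * k := by
      rw [mul_inv_rev, Transl.inv_of_sq hkk, C.t_inv, t_comm C k]
    rw [e1] at hyc
    have e2 : y * (C.t * (k : G)) * y = C.t * (qg C u v 0 * k) := by
      calc y * (C.t * (k : G)) * y = y * C.t * (k * y) := by group
        _ = (y * C.t * y) * k := by rw [← hyk]; group
        _ = _ := by rw [h.conj_t]; group
    rw [e2] at hyc
    have e3 := mul_left_cancel hyc
    have e4 : qg C u v 0 = 1 := by
      have e5 : qg C u v 0 * (k : G) = 1 * k := by rw [one_mul]; exact e3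
      exact mul_right_cancel e5
    rw [← qg_zero C (u := u)] at e4
    obtain ⟨e5, -⟩ := qg_inj C hu hvu (C.B_zero_left u) e4
    rw [add_zero] at e5
    exact hv e5

/-- `b_w` is not in `Q_u` -/
theorem b_notMem (hw : w ∉ ln u) {g : C.L} (hg : g ∈ QU C.S (ln u)) :
    C.b w ≠ (g : G) := by
  have hfinV := C.finV
  intro h
  have h1 : C.S.τ w = g := Subtype.ext h
  obtain ⟨z, hz, hzw⟩ := sep C.S hw
  have h2 := hg.2 z hz
  rw [← h1, C.S.hτ, hzw, one_smul, add_comm z w, add_assoc, aa, add_zero] at h2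
  exact hw h2

/-- the diagonal of the commutator -/
theorem delta_eq (hW : Iso.Max C.S W) (huW : u ∈ W) (hvW : v ∈ W) (hwW : w ∈ W) (hu : u ≠ 0) (hv : v ∉ ln u)
    (hw : w ∉ pl u v) (h : UC C u v y) (hn : LY (C := C) W w n Q) :
    ∃ k : C.L, n * y * n * y = k ∧ k ∈ AW C.S W ∧ δ C.S k = w := by
  have hfinV := C.finV
  have hw0 : w ≠ 0 := ne_zero_of_notMem hw
  obtain ⟨k, hk, hkW, hδ, hkf⟩ := c_mem hW huW hvW hwW hu hv hw0 h.toIsX hn
  refine ⟨k, hk, hkW, ?_⟩
  rcases hδ with hδ | hδ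
  swap
  · exact hδ
  exfalso
  have huv : C.S.B u v = 0 := hW.perp huW hvW
  have hvu : C.S.B v u = 0 := hW.perp hvW huW
  have huw : C.S.B u w = 0 := hW.perp huW hwW
  have hwu : C.S.B w u = 0 := hW.perp hwW huW
  have hvw : C.S.B v w = 0 := hW.perp hvW hwW
  have hkk : k * k = 1 := hW.sq hkW
  have hkkG : (k : G) * k = 1 := Transl.asq hW hkW
  have hyk := comm_AW hW huW hvW h.toIsX hkW
  -- the vector `p`
  obtain ⟨p, hpu, hpw, hpv, hQp⟩ : ∃ p, C.S.B p u = 0 ∧ C.S.B p w = 0 ∧ C.S.B p v = 1 ∧ Q p = 0 := by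
    have h1 : v ∉ pl u w := by
      intro h2
      rcases mem_pl.1 h2 with h3 | h3 | h3 | h3
      · exact hv (by rw [h3]; exact zero_mem _)
      · exact hv (by rw [h3]; exact self_mem_ln u)
      · exact hw (by rw [← h3]; exact right_mem_pl u v)
      · apply hw
        have h4 : w = u + v := by rw [h3, aac]
        rw [h4]
        exact add_mem (left_mem_pl u v) (right_mem_pl u v)
    obtain ⟨p, hp, hpv⟩ := sep C.S h1
    rw [mem_perp_pl] at hp
    rcases z2 (Q p) with h2 | h2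
    · exact ⟨p, hp.1, hp.2, hpv, h2⟩
    · refine ⟨p + v, ?_, ?_, ?_, ?_⟩
      · rw [C.B_add_left, hp.1, hvu, add_zero]
      · rw [C.B_add_left, hp.2, hvw, add_zero]
      · rw [C.B_add_left, hpv, C.B_self, add_zero]
      · rw [hn.type.quad p v hp.2 hvw, h2, hn.zero v hvW, hpv]
        decide
  have hup : C.S.B u p = 0 := by rw [C.symm]; exact hpu
  have hwp : C.S.B w p = 0 := by rw [C.symm]; exact hpw
  -- `n` commutes with `q u p 0`
  have hnp : n * qg C u p 0 = qg C u p 0 * n := by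
    have f1 := hn.type.form u huw
    have f2 := hn.type.form p hpw
    have hupw : C.S.B (u + p) w = 0 := by rw [C.B_add_left, huw, hpw, add_zero]
    have f3 := hn.type.form (u + p) hupw
    rw [hn.type.quad u p huw hpw, hn.zero u huW, hQp, hup, mul_zero, add_zero, add_zero] at f3
    rw [hn.zero u huW] at f1
    rw [hQp] at f2
    rw [zero_add, one_smul] at f1 f2 f3
    have e1 : qg C u p 0 = C.b u * C.b p * C.b (u + p) := by
      change ((SpTwo.q C.S u p 0 : C.L) : G) = _
      rw [SpTwo.q, zero_smul, C.S.τ_zero, mul_one]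
      rfl
    have e2 : n * qg C u p 0 * n = (n * C.b u * n) * (n * C.b p * n) * (n * C.b (u + p) * n) := by
      rw [e1]
      calc n * (C.b u * C.b p * C.b (u + p)) * n = n * C.b u * 1 * C.b p * 1 * C.b (u + p) * n := by group
        _ = n * C.b u * (n * n) * C.b p * (n * n) * C.b (u + p) * n := by rw [hn.isY.sq]
        _ = _ := by group
    have e3 : SpTwo.q C.S w u 0 * C.S.τ u * (SpTwo.q C.S w p 0 * C.S.τ p) *
        (SpTwo.q C.S w (u + p) 0 * C.S.τ (u + p)) = C.S.τ u * C.S.τ p * C.S.τ (u + p) := by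
      have c1 : C.S.τ u * SpTwo.q C.S w p 0 = SpTwo.q C.S w p 0 * C.S.τ u :=
        q_comm_τ_perp C.S huw hpu 0
      have c2 : C.S.τ p * SpTwo.q C.S w (u + p) 0 = SpTwo.q C.S w (u + p) 0 * C.S.τ p :=
        q_comm_τ_perp C.S hpw (by rw [C.B_add_left, hup, C.B_self, add_zero]) 0
      have c3 : C.S.τ u * SpTwo.q C.S w (u + p) 0 = SpTwo.q C.S w (u + p) 0 * C.S.τ u :=
        q_comm_τ_perp C.S huw (by rw [C.B_add_left, C.B_self, hpu, add_zero]) 0
      have c4 : SpTwo.q C.S w u 0 * SpTwo.q C.S w p 0 * SpTwo.q C.S w (u + p) 0 = 1 := by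
        rw [q_mul C.S huw hpw, hup, q_mul C.S hupw hupw, aa, C.S.alt, add_zero, add_zero, add_zero, add_zero, q_zero]
      calc SpTwo.q C.S w u 0 * C.S.τ u * (SpTwo.q C.S w p 0 * C.S.τ p) *
          (SpTwo.q C.S w (u + p) 0 * C.S.τ (u + p)) =
          SpTwo.q C.S w u 0 * (C.S.τ u * SpTwo.q C.S w p 0) * (C.S.τ p * SpTwo.q C.S w (u + p) 0) *
            C.S.τ (u + p) := by group
        _ = SpTwo.q C.S w u 0 * SpTwo.q C.S w p 0 * (C.S.τ u * SpTwo.q C.S w (u + p) 0) * C.S.τ p *
            C.S.τ (u + p) := by rw [c1, c2]; group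
        _ = (SpTwo.q C.S w u 0 * SpTwo.q C.S w p 0 * SpTwo.q C.S w (u + p) 0) * (C.S.τ u * C.S.τ p *
            C.S.τ (u + p)) := by rw [c3]; group
        _ = _ := by rw [c4, one_mul]
    have e4 : n * qg C u p 0 * n = qg C u p 0 := by
      rw [e2, f1, f2, f3, e1]
      exact congrArg Subtype.val e3
    calc n * qg C u p 0 = n * qg C u p 0 * (n * n) := by rw [hn.isY.sq, mul_one]
      _ = (n * qg C u p 0 * n) * n := by group
      _ = _ := by rw [e4]
  -- `k` commutes with `q u p 0`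
  have hsG := h.toIsX.comm_s hvu
  have hsn : n * qg C u v 0 = qg C u v 0 * n := by
    rw [← s_eq u v]
    exact hn.tr.1.comm_alt hW hwW (hW.sg_mem huW hvW) (δ_sg huv)
  have hkp : (k : G) * qg C u p 0 = qg C u p 0 * k := by
    obtain ⟨r, hr⟩ : ∃ r, r = qg C u p 0 := ⟨_, rfl⟩
    have hrr : r * r = 1 := by rw [hr]; exact qg_sq C hpu
    have e1 : r * y * r = qg C u v 0 * y := by
      have e2 := h.act p 0 hpu
      rw [hpv, one_smul, zero_add, ← hr] at e2
      have hpvu : C.S.B (p + v) u = 0 := by rw [C.B_add_left, hpu, hvu, add_zero]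
      have e3 : r * qg C u (p + v) 1 = qg C u v 0 := by
        rw [hr, qg_mul C hpu hpvu, aac, C.B_add_right, C.B_self, hpv]
        congr 1
      calc r * y * r = r * (y * r * y) * y := by rw [mul_assoc y r y]; simp only [mul_assoc, h.sq, mul_one]
        _ = _ := by rw [e2, e3]
    rw [← hr] at hnp ⊢
    have e4 : r * (k : G) * r = k := by
      rw [← hk]
      calc r * (n * y * n * y) * r = r * n * y * 1 * n * y * r := by group
        _ = r * n * y * (r * r) * n * y * r := by rw [hrr]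
        _ = (r * n) * y * r * (r * n) * y * r := by group
        _ = n * (r * y * r) * n * (r * y * r) := by rw [← hnp]; group
        _ = n * qg C u v 0 * y * (n * qg C u v 0) * y := by rw [e1]; group
        _ = n * qg C u v 0 * (y * qg C u v 0) * n * y := by rw [hsn]; group
        _ = n * (qg C u v 0 * qg C u v 0) * y * n * y := by rw [hsG]; group
        _ = _ := by rw [qg_sq C hvu, mul_one]
    calc (k : G) * r = (r * r) * k * r := by rw [hrr, one_mul]
      _ = r * (r * k * r) := by group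
      _ = _ := by rw [e4]
  have hku : C.S.ρ k u = u := hkf u (C.B_self u) hvu hwu
  have hkQ : k ∈ QU C.S (ln u) := by
    refine mem_QU_of_alt C.S hu huv huw hw hkk hkf ?_ hpu hpw hpv hku (Subtype.ext hkp)
    intro x
    rw [← B_δ hkk x, hδ, map_zero]
  obtain ⟨r, e, hru, hkr⟩ := mem_QU_ln C.S hu hkQ
  -- the vector `x`
  obtain ⟨x, hx⟩ : ∃ x, x = p + v := ⟨_, rfl⟩
  have hxu : C.S.B x u = 0 := by rw [hx, C.B_add_left, hpu, hvu, add_zero]
  have hxw : C.S.B x w = 0 := by rw [hx, C.B_add_left, hpw, hvw, add_zero]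
  have hxv : C.S.B x v = 1 := by rw [hx, C.B_add_left, hpv, C.B_self, add_zero]
  have hQx : Q x = 1 := by
    rw [hx, hn.type.quad p v hpw hvw, hQp, hn.zero v hvW, hpv]
    decide
  obtain ⟨a, ha⟩ := h.three hu hv hvu hxu hxv
  have hnx : n * C.b x * n = C.b w * C.b x := by
    have e1 := hn.type.form x hxw
    have e2 : (1 : ZMod 2) + 1 = 0 := by decide
    rw [hQx, e2, zero_smul, q_zero_one] at e1
    exact e1
  have hbx : C.b w * C.b x = C.b x * C.b w := C.b_comm (by rw [C.symm]; exact hxw)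
  have hby : C.b w * y = y * C.b w := (h.comm w hwu (hW.perp hwW hvW)).symm
  have hbk : C.b w * (k : G) = k * C.b w := Transl.acomm hW (hW.τ_mem hwW) hkW
  obtain ⟨k1, hk1⟩ : ∃ k1, k1 = C.b x * (k : G) * C.b x := ⟨_, rfl⟩
  have hk1' : k1 = qg C u (r + C.S.B r x • x) e := by
    rw [hk1, hkr]
    exact qg_b_conj C hxu
  have hr1 : C.S.B (r + C.S.B r x • x) u = 0 := by
    rw [C.B_add_left, C.B_smul_left, hru, hxu, mul_zero, add_zero]
  obtain ⟨k2, hk2⟩ : ∃ k2, k2 = y * k1 * y := ⟨_, rfl⟩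
  have hk2' := h.act _ e hr1
  rw [← hk1', ← hk2] at hk2'
  have hyy := h.sq
  have hnyn : n * y * n = k * y := by rw [← hk, mul_assoc (n * y * n), hyy, mul_one]
  -- left side
  have hL : n * (y * (C.b x * y * C.b x) * y) * n = k * k2 * (C.b (a • u) * k1) * C.b x := by
    calc n * (y * (C.b x * y * C.b x) * y) * n = n * y * 1 * C.b x * 1 * y * 1 * C.b x * 1 * y * n := by group
      _ = n * y * (n * n) * C.b x * (n * n) * y * (n * n) * C.b x * (n * n) * y * n := by rw [hn.isY.sq]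
      _ = (n * y * n) * (n * C.b x * n) * (n * y * n) * (n * C.b x * n) * (n * y * n) := by group
      _ = (k * y) * (C.b w * C.b x) * (k * y) * (C.b w * C.b x) * (k * y) := by rw [hnyn, hnx]
      _ = (k * y) * (C.b x * C.b w) * (k * y) * (C.b w * C.b x) * (k * y) := by rw [hbx]
      _ = k * y * C.b x * (C.b w * k) * y * C.b w * C.b x * k * y := by group
      _ = k * y * C.b x * k * (C.b w * y) * C.b w * C.b x * k * y := by rw [hbk]; group
      _ = k * y * C.b x * k * y * (C.b w * C.b w) * C.b x * k * y := by rw [hby]; group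
      _ = k * y * C.b x * k * 1 * y * C.b x * (k * y) := by rw [C.b_sq]; group
      _ = k * y * C.b x * k * (C.b x * C.b x) * y * C.b x * (y * k) := by rw [C.b_sq, hyk]
      _ = k * y * (C.b x * k * C.b x) * 1 * (C.b x * y * C.b x) * y * k := by group
      _ = k * y * (C.b x * k * C.b x) * (y * y) * (C.b x * y * C.b x) * y * k := by rw [hyy]
      _ = k * (y * (C.b x * k * C.b x) * y) * (y * (C.b x * y * C.b x) * y) * k := by group
      _ = k * k2 * (C.b (a • u) * C.b x) * k := by rw [ha, ← hk1, ← hk2]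
      _ = k * k2 * C.b (a • u) * (C.b x * k * (C.b x * C.b x)) := by rw [C.b_sq]; group
      _ = k * k2 * (C.b (a • u) * (C.b x * k * C.b x)) * C.b x := by group
      _ = _ := by rw [← hk1]
  -- right side
  have hauW : a • u ∈ W := W.smul_mem a huW
  have hR : n * (C.b (a • u) * C.b x) * n = (C.b (a • u) * Transl.s C w (a • u)) * C.b w * C.b x := by
    have e1 := hn.tr.1.conj_b hW hwW hauW
    rw [hn.isY.inv_eq] at e1
    calc n * (C.b (a • u) * C.b x) * n = n * C.b (a • u) * 1 * C.b x * n := by group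
      _ = n * C.b (a • u) * (n * n) * C.b x * n := by rw [hn.isY.sq]
      _ = (n * C.b (a • u) * n) * (n * C.b x * n) := by group
      _ = _ := by rw [e1, hnx]; group
  rw [ha, hR] at hL
  have hfin := mul_right_cancel hL
  -- the contradiction
  have hwl : w ∉ ln u := fun h1 => hw (by
    rcases mem_ln.1 h1 with h2 | h2
    · rw [h2]; exact zero_mem _
    · rw [h2]; exact left_mem_pl u v)
  have m1 : ∀ p' e', C.S.B p' u = 0 → SpTwo.q C.S u p' e' ∈ QU C.S (ln u) := fun p' e' hp' =>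
    q_mem_QU C.S hu hp' e'
  have m2 : C.S.τ (a • u) ∈ QU C.S (ln u) :=
    τ_mem_QU C.S (ln_ti C.S u) (Submodule.smul_mem _ a (self_mem_ln u))
  have m3 : Words.sg C.S w (a • u) ∈ QU C.S (ln u) := by
    rcases z2 a with h1 | h1
    · rw [h1, zero_smul, Words.sg_zero_right]; exact one_mem _
    · rw [h1, one_smul, Words.sg_comm C.S hwu]
      have e1 : Words.sg C.S u w = SpTwo.q C.S u w 0 := by
        rw [Words.sg, SpTwo.q, zero_smul, C.S.τ_zero, mul_one]
      rw [e1]
      exact m1 w 0 hwu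
  have hr2 : C.S.B (r + C.S.B r x • x + C.S.B (r + C.S.B r x • x) v • v) u = 0 := by
    rw [C.B_add_left, C.B_smul_left, hr1, hvu, mul_zero, add_zero]
  refine b_notMem hwl (g := (C.S.τ (a • u) * Words.sg C.S w (a • u))⁻¹ *
    (k * SpTwo.q C.S u (r + C.S.B r x • x + C.S.B (r + C.S.B r x • x) v • v) (e + C.S.B (r + C.S.B r x • x) v) *
      (C.S.τ (a • u) * SpTwo.q C.S u (r + C.S.B r x • x) e))) ?_ ?_
  · exact mul_mem (inv_mem (mul_mem m2 m3)) (mul_mem (mul_mem hkQ (m1 _ _ hr2)) (mul_mem m2 (m1 _ _ hr1)))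
  · have e1 : C.b w = (C.b (a • u) * Transl.s C w (a • u))⁻¹ * (k * k2 * (C.b (a • u) * k1)) := by
      rw [← hfin]; group
    rw [e1, hk2', hk1']
    rfl

end

/-- coplanar elements -/
theorem triple (hY : ∀ w, w ≠ 0 → ∃ n Q, IsY C w n ∧ HasType C w n 1 Q) {u a b : V} (hu : u ≠ 0) (ha : a ∉ ln u)
    (hb : b ∉ pl u a) (hau : C.S.B a u = 0) (hbu : C.S.B b u = 0) (hba : C.S.B b a = 0) {y1 y2 y3 : G}
    (h1 : UC C u a y1) (h2 : UC C u b y2) (h3 : UC C u (a + b) y3) :
    ∃ k : C.L, y1 * y2 * y3 = C.t * k ∧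
      ∀ e, C.S.B u e = 0 → C.S.B a e = 0 → C.S.B b e = 0 → C.S.ρ k e = e := by
  have hfinV := C.finV
  obtain ⟨A, hA⟩ : ∃ A, A = pl u a ⊔ ln b := ⟨_, rfl⟩
  have hAr : Module.finrank (ZMod 2) A ≤ 3 := by
    have e1 := finrank_pl_le u a
    have e2 := finrank_sup_ln_le (pl u a) b
    rw [hA]
    omega
  obtain ⟨w, hw, hwA⟩ := room C.S C.cardV (A := A) (A' := A) (by omega)
  have huA : u ∈ A := by rw [hA]; exact Submodule.mem_sup_left (left_mem_pl u a)
  have haA : a ∈ A := by rw [hA]; exact Submodule.mem_sup_left (right_mem_pl u a)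
  have hbA : b ∈ A := by rw [hA]; exact Submodule.mem_sup_right (self_mem_ln b)
  have hua : C.S.B u a = 0 := by rw [C.symm]; exact hau
  have hub : C.S.B u b = 0 := by rw [C.symm]; exact hbu
  have hab : C.S.B a b = 0 := by rw [C.symm]; exact hba
  have hwu : C.S.B w u = 0 := hw u huA
  have hwa : C.S.B w a = 0 := hw a haA
  have hwb : C.S.B w b = 0 := hw b hbA
  have hti : A ⊔ ln w ≤ perp C.S (A ⊔ ln w) := by
    have e0 : ∀ z, C.S.B z u = 0 → C.S.B z a = 0 → C.S.B z b = 0 → C.S.B z w = 0 → z ∈ perp C.S (A ⊔ ln w) := by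
      intro z e1 e2 e3 e4
      rw [mem_perp_sup, hA, mem_perp_sup, mem_perp_pl, mem_perp_ln, mem_perp_ln]
      exact ⟨⟨⟨e1, e2⟩, e3⟩, e4⟩
    rw [hA, pl_eq]
    have sy : ∀ {x y : V}, C.S.B x y = 0 → C.S.B y x = 0 := fun {x y} hxy => by rw [C.symm]; exact hxy
    have e5 : ∀ x : V, x ∈ perp C.S (A ⊔ ln w) → ln x ≤ perp C.S (A ⊔ ln w) := by
      intro x hx z hz
      rcases mem_ln.1 hz with rfl | rfl
      · exact zero_mem _
      · exact hx
    rw [← pl_eq, ← hA]
    have e6 : A ≤ perp C.S (A ⊔ ln w) := by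
      have e7 : ln u ⊔ ln a ⊔ ln b ≤ perp C.S (A ⊔ ln w) :=
        sup_le (sup_le (e5 u (e0 u (C.B_self u) hua hub (sy hwu))) (e5 a (e0 a hau (C.B_self a) hab (sy hwa))))
          (e5 b (e0 b hbu hba (C.B_self b) (sy hwb)))
      rwa [← pl_eq, ← hA] at e7
    exact sup_le e6 (e5 w (e0 w hwu hwa hwb (C.B_self w)))
  obtain ⟨W, hW, hAW⟩ := exists_max_ge C.S hti
  have hA' : A ≤ W := le_sup_left.trans hAW
  have huW := hA' huA
  have haW := hA' haA
  have hbW := hA' hbA
  have hwW : w ∈ W := hAW (Submodule.mem_sup_right (self_mem_ln w))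
  have hw0 : w ≠ 0 := ne_zero_of_notMem hwA
  obtain ⟨n0, Q0, hn0, ht0⟩ := hY w hw0
  obtain ⟨n, Q, hn⟩ := exists_LY hW hwW hn0 ht0
  have habW : a + b ∈ W := add_mem haW hbW
  have hpl : ∀ {x}, x ∈ A → pl u x ≤ A := by
    intro x hx z hz
    rcases mem_pl.1 hz with rfl | rfl | rfl | rfl
    · exact zero_mem _
    · exact huA
    · exact hx
    · exact add_mem huA hx
  have hb' : b ∉ ln u := fun e1 => hb (by
    rcases mem_ln.1 e1 with e2 | e2
    · rw [e2]; exact zero_mem _
    · rw [e2]; exact left_mem_pl u a)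
  have hab' : a + b ∉ ln u := fun e1 => hb (by
    rcases mem_ln.1 e1 with e2 | e2
    · rw [← eq_of_add _ _ e2]; exact right_mem_pl u a
    · have e3 : b = a + u := by rw [← e2, aac]
      rw [e3]; exact add_mem (right_mem_pl u a) (left_mem_pl u a))
  obtain ⟨k1, hk1, hk1W, hδ1⟩ := delta_eq hW huW haW hwW hu ha (fun e => hwA (hpl haA e)) h1 hn
  obtain ⟨k2, hk2, hk2W, hδ2⟩ := delta_eq hW huW hbW hwW hu hb' (fun e => hwA (hpl hbA e)) h2 hn
  obtain ⟨k3, hk3, hk3W, hδ3⟩ := delta_eq hW huW habW hwW hu hab' (fun e => hwA (hpl (add_mem haA hbA) e)) h3 hn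
  have habu : C.S.B (a + b) u = 0 := hW.perp habW huW
  -- `y1 y2 y3` commutes with `t`
  have c12 : y1 * qg C u b 0 = qg C u b 0 * y1 := h1.comm_q hau hbu hba 0
  have c13 : y1 * qg C u (a + b) 0 = qg C u (a + b) 0 * y1 := h1.comm_q hau habu (hW.perp habW haW) 0
  have c23 : y2 * qg C u (a + b) 0 = qg C u (a + b) 0 * y2 := h2.comm_q hbu habu (hW.perp habW hbW) 0
  have hsss : qg C u a 0 * qg C u b 0 * qg C u (a + b) 0 = 1 := by
    rw [qg_mul C hau hbu, hab, qg_mul C habu habu, aa, C.B_self, add_zero, add_zero, add_zero, add_zero, qg_zero]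
  have hct : y1 * y2 * y3 * C.t = C.t * (y1 * y2 * y3) := by
    calc y1 * y2 * y3 * C.t = y1 * y2 * (y3 * C.t) := by group
      _ = y1 * (y2 * C.t) * qg C u (a + b) 0 * y3 := by rw [h3.yt]; group
      _ = (y1 * C.t) * qg C u b 0 * (y2 * qg C u (a + b) 0) * y3 := by rw [h2.yt]; group
      _ = C.t * qg C u a 0 * (y1 * qg C u b 0) * qg C u (a + b) 0 * y2 * y3 := by rw [h1.yt, c23]; group
      _ = C.t * qg C u a 0 * qg C u b 0 * (y1 * qg C u (a + b) 0) * y2 * y3 := by rw [c12]; group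
      _ = C.t * (qg C u a 0 * qg C u b 0 * qg C u (a + b) 0) * (y1 * y2 * y3) := by rw [c13]; group
      _ = _ := by rw [hsss, mul_one]
  obtain ⟨k, hk, hkf⟩ := Dich.lift_fix (E := fun e => C.S.B u e = 0 ∧ C.S.B a e = 0 ∧ C.S.B b e = 0) hct (by
    rintro e ⟨e1, e2, e3⟩
    rw [C.symm] at e1 e2 e3
    exact ((Commute.mul_left (h1.comm e e1 e2) (h2.comm e e1 e3)).mul_left
      (h3.comm e e1 (by rw [C.B_add_right, e2, e3, add_zero]))).eq)
  have hkf' : ∀ e, C.S.B u e = 0 → C.S.B a e = 0 → C.S.B b e = 0 → C.S.ρ k e = e :=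
    fun e e1 e2 e3 => hkf e ⟨e1, e2, e3⟩
  rcases hk with hk | hk
  swap
  · exact ⟨k, hk, hkf'⟩
  exfalso
  have hkW : k ∈ AW C.S W := fun x hx => hkf' x (hW.perp huW hx) (hW.perp haW hx) (hW.perp hbW hx)
  have e1 := hn.tr.conj_a hW hwW hkW
  have nn := hn.isY.sq
  have a1 : n * y1 * n = k1 * y1 := by rw [← hk1, mul_assoc (n * y1 * n), h1.sq, mul_one]
  have a2 : n * y2 * n = k2 * y2 := by rw [← hk2, mul_assoc (n * y2 * n), h2.sq, mul_one]
  have a3 : n * y3 * n = k3 * y3 := by rw [← hk3, mul_assoc (n * y3 * n), h3.sq, mul_one]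
  have b12 := comm_AW hW huW haW h1.toIsX hk2W
  have b13 := comm_AW hW huW haW h1.toIsX hk3W
  have b23 := comm_AW hW huW hbW h2.toIsX hk3W
  have e2 : n * (y1 * y2 * y3) * n = (k1 * k2 * k3 : C.L) * (y1 * y2 * y3) := by
    calc n * (y1 * y2 * y3) * n = n * y1 * 1 * y2 * 1 * y3 * n := by group
      _ = n * y1 * (n * n) * y2 * (n * n) * y3 * n := by rw [nn]
      _ = (n * y1 * n) * (n * y2 * n) * (n * y3 * n) := by group
      _ = k1 * (y1 * k2) * y2 * k3 * y3 := by rw [a1, a2, a3]; group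
      _ = k1 * k2 * y1 * (y2 * k3) * y3 := by rw [b12]; group
      _ = k1 * k2 * (y1 * k3) * y2 * y3 := by rw [b23]; group
      _ = _ := by rw [b13, Subgroup.coe_mul, Subgroup.coe_mul]; group
  rw [hk, e1] at e2
  have hsW : Words.sg C.S w (δ C.S k) ∈ AW C.S W := hW.sg_mem hwW (hW.δ_mem hkW)
  have e3 : Words.sg C.S w (δ C.S k) = k1 * k2 * k3 := by
    apply Subtype.ext
    have e4 := Transl.acomm hW hkW hsW
    have e5 : ((Words.sg C.S w (δ C.S k) : C.L) : G) * k = (k1 * k2 * k3 : C.L) * k := by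
      rw [← e4]; exact e2
    exact mul_right_cancel e5
  have e4 := congrArg (δ C.S) e3
  rw [δ_sg (hW.perp hwW (hW.δ_mem hkW)), hW.δ_mul (mul_mem hk1W hk2W) hk3W, hW.δ_mul hk1W hk2W, hδ1, hδ2, hδ3, aa,
    zero_add] at e4
  exact hw0 e4.symm

end Cfsg.Agent.OddHalf.SpTwoN.KappaE

end

-- merged: Cfsg.Agent.OddHalf.SpTwoN.KappaKill
section

/-!
# `κ = 0`

`kill'`: the homocyclic configuration in relation form; `kappa`: if all classes are moved then there is an element
`y` over `u` commuting with `C_L(b_u)`.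
-/

set_option autoImplicit false

namespace Cfsg.Agent.OddHalf.SpTwoN.KappaKill

open Cfsg.Agent.StandardComponent.SpTwo Cfsg.Agent.OddHalf.SpTwo Cfsg.Agent.OddHalf.SpTwoN.Words
open Cfsg.Agent.OddHalf.SpTwoN Cfsg.Agent.OddHalf.SpTwoN.DichFrame Cfsg.Agent.OddHalf.SpTwoN.DichKill
open Cfsg.Agent.OddHalf.SpTwoN.LBStart Cfsg.Agent.OddHalf.SpTwoN.KappaDef Cfsg.Agent.OddHalf.SpTwoN.KappaE

variable {G V : Type*} [Group G] [AddCommGroup V] [Module (ZMod 2) V]

theorem kill' [Finite V] (C : Ctx G V) {u : V} (hu : u ≠ 0) (M : V → G → Prop)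
    (hex : ∀ v, C.S.B u v = 0 → v ≠ 0 → v ≠ u → ∃ m, M v m)
    (hcen : ∀ v m, C.S.B u v = 0 → M v m → ∀ e, C.S.B u e = 0 → C.S.B v e = 0 → m * C.b e = C.b e * m)
    (hsq : ∀ v m, C.S.B u v = 0 → v ≠ 0 → v ≠ u → M v m → m * m = (sg C.S u v : C.L))
    (hcomm : ∀ v v' m m', C.S.B u v = 0 → C.S.B u v' = 0 → C.S.B v v' = 0 → v ≠ 0 → v ≠ u → v' ≠ 0 → v' ≠ u →
      M v m → M v' m' → m * m' = m' * m)
    (heq : ∀ k : C.L, C.S.ρ k u = u → ∀ v m, M v m → M (C.S.ρ k v) (k * m * (k : G)⁻¹))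
    (hT : ∀ v v' m m' m'', C.S.B u v = 0 → C.S.B u v' = 0 → C.S.B v v' = 0 → v ≠ 0 → v ≠ u → v' ≠ 0 → v' ≠ u →
      v + v' ≠ 0 → v + v' ≠ u → M v m → M v' m' → M (v + v') m'' → ∃ k : C.L, m * m' * m'' = k ∧
        ∀ e, C.S.B u e = 0 → C.S.B v e = 0 → C.S.B v' e = 0 → C.S.ρ k e = e) : False := by
  obtain ⟨a, b, c, e, f, g, h, F⟩ := exists_fr C.S C.cardV hu
  have sy : ∀ {x y : V} {i : ZMod 2}, C.S.B x y = i → C.S.B y x = i := fun {x y i} hxy => by
    rw [C.S.symm]; exact hxy
  have ne : ∀ {x y z : V}, C.S.B x z = 1 → C.S.B y z = 0 → x ≠ y := by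
    rintro x y z h1 h2 rfl
    rw [h1] at h2
    exact one_ne_zero h2
  have z0 : ∀ z, C.S.B 0 z = 0 := fun z => by rw [map_zero]; rfl
  -- nonzero conditions
  have a0 : a ≠ 0 := ne F.af (z0 f)
  have au : a ≠ u := ne F.af F.uf
  have b0 : b ≠ 0 := ne F.bg (z0 g)
  have bu : b ≠ u := ne F.bg F.ug
  have c0 : c ≠ 0 := ne F.ch (z0 h)
  have cu : c ≠ u := ne F.ch F.uh
  have abg : C.S.B (a + b) g = 1 := by rw [B_add, F.ag, F.bg, zero_add]
  have bcg : C.S.B (b + c) g = 1 := by rw [B_add, F.bg, F.cg, add_zero]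
  have abcg : C.S.B (a + b + c) g = 1 := by rw [B_add, abg, F.cg, add_zero]
  have ab0 : a + b ≠ 0 := ne abg (z0 g)
  have abu : a + b ≠ u := ne abg F.ug
  have bc0 : b + c ≠ 0 := ne bcg (z0 g)
  have bcu : b + c ≠ u := ne bcg F.ug
  have abc0 : a + b + c ≠ 0 := ne abcg (z0 g)
  have abcu : a + b + c ≠ u := ne abcg F.ug
  -- the two short root elements
  obtain ⟨x, hx⟩ : ∃ x, x = sg C.S a g := ⟨_, rfl⟩
  obtain ⟨x', hx'⟩ : ∃ x', x' = sg C.S c g := ⟨_, rfl⟩
  have rx : ∀ z, C.S.ρ x z = z + (C.S.B z g • a + C.S.B z a • g) := fun z => by rw [hx, ρ_sg C.S F.ag]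
  have rx' : ∀ z, C.S.ρ x' z = z + (C.S.B z g • c + C.S.B z c • g) := fun z => by rw [hx', ρ_sg C.S F.cg]
  have xi : x⁻¹ = x := by rw [hx, sg_inv C.S F.ag]
  have xi' : x'⁻¹ = x' := by rw [hx', sg_inv C.S F.cg]
  have xu : C.S.ρ x u = u := by rw [rx, F.ug, F.ua, zero_smul, zero_smul, add_zero, add_zero]
  have xa : C.S.ρ x a = a := by rw [rx, F.ag, C.S.alt, zero_smul, zero_smul, add_zero, add_zero]
  have xb : C.S.ρ x b = b + a := by rw [rx, F.bg, sy F.ab, one_smul, zero_smul, add_zero]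
  have xc : C.S.ρ x c = c := by rw [rx, F.cg, sy F.ac, zero_smul, zero_smul, add_zero, add_zero]
  have xu' : C.S.ρ x' u = u := by rw [rx', F.ug, F.uc, zero_smul, zero_smul, add_zero, add_zero]
  have xa' : C.S.ρ x' a = a := by rw [rx', F.ag, F.ac, zero_smul, zero_smul, add_zero, add_zero]
  have xb' : C.S.ρ x' b = b + c := by rw [rx', F.bg, F.bc, one_smul, zero_smul, add_zero]
  have xc' : C.S.ρ x' c = c := by rw [rx', F.cg, C.S.alt, zero_smul, zero_smul, add_zero, add_zero]
  have uab : C.S.B u (a + b) = 0 := by rw [map_add, F.ua, F.ub, add_zero]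
  have ubc : C.S.B u (b + c) = 0 := by rw [map_add, F.ub, F.uc, add_zero]
  have uabc : C.S.B u (a + b + c) = 0 := by rw [map_add, uab, F.uc, add_zero]
  -- the six elements
  obtain ⟨A, hA⟩ := hex a F.ua a0 au
  obtain ⟨B, hB⟩ := hex b F.ub b0 bu
  obtain ⟨C0, hC⟩ := hex c F.uc c0 cu
  obtain ⟨P, hPd⟩ : ∃ P, P = (x : G) * B * (x : G)⁻¹ := ⟨_, rfl⟩
  obtain ⟨Q, hQd⟩ : ∃ Q, Q = (x' : G) * B * (x' : G)⁻¹ := ⟨_, rfl⟩
  obtain ⟨R, hRd⟩ : ∃ R, R = (x' : G) * P * (x' : G)⁻¹ := ⟨_, rfl⟩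
  have hP : M (a + b) P := by
    have := heq x xu _ _ hB
    rwa [xb, add_comm b a, ← hPd] at this
  have hQ : M (b + c) Q := by
    have := heq x' xu' _ _ hB
    rwa [xb', ← hQd] at this
  have hR : M (a + b + c) R := by
    have := heq x' xu' _ _ hP
    rwa [map_add, xa', xb', ← add_assoc, ← hRd] at this
  -- commutation with the short root elements
  have cs : ∀ {v : V} {m : G} {p q : V}, C.S.B u v = 0 → M v m → C.S.B u p = 0 → C.S.B v p = 0 →
      C.S.B u q = 0 → C.S.B v q = 0 → m * (sg C.S p q : C.L) = (sg C.S p q : C.L) * m := by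
    intro v m p q h0 hm h1 h2 h3 h4
    have e1 := hcen v m h0 hm p h1 h2
    have e2 := hcen v m h0 hm q h3 h4
    have e3 := hcen v m h0 hm (p + q) (by rw [map_add, h1, h3, add_zero]) (by rw [map_add, h2, h4, add_zero])
    exact ((Commute.mul_right e1 e2).mul_right e3).eq
  have conj_of : ∀ {m s : G}, m * s = s * m → s * m * s⁻¹ = m := fun {m s} hms => by
    rw [← hms, mul_inv_cancel_right]
  have xA : (x : G) * A * (x : G)⁻¹ = A := conj_of (by rw [hx]; exact cs F.ua hA F.ua (C.S.alt a) F.ug F.ag)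
  have xC : (x : G) * C0 * (x : G)⁻¹ = C0 := conj_of (by rw [hx]; exact cs F.uc hC F.ua (sy F.ac) F.ug F.cg)
  have xA' : (x' : G) * A * (x' : G)⁻¹ = A := conj_of (by rw [hx']; exact cs F.ua hA F.uc F.ac F.ug F.ag)
  have xC' : (x' : G) * C0 * (x' : G)⁻¹ = C0 := conj_of (by rw [hx']; exact cs F.uc hC F.uc (C.S.alt c) F.ug F.cg)
  have xx' : x * x' = x' * x := by
    apply C.S.ext_iff
    intro z
    rw [C.S.ρ_mul, C.S.ρ_mul, rx', rx z]
    simp only [map_add, map_smul, rx, rx', LinearMap.add_apply, LinearMap.smul_apply, F.ag, F.cg, sy F.ag, sy F.cg,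
      F.ac, sy F.ac, C.S.alt, add_zero, smul_eq_mul, mul_zero]
    abel
  have hRd2 : (x : G) * Q * (x : G)⁻¹ = R := by
    have e1 : (x : G) * x' = x' * x := congrArg Subtype.val xx'
    have e2 : (x' : G)⁻¹ * (x : G)⁻¹ = (x : G)⁻¹ * (x' : G)⁻¹ := by rw [← mul_inv_rev, ← mul_inv_rev, e1]
    rw [hQd, hRd, hPd]
    calc (x : G) * (x' * B * (x' : G)⁻¹) * (x : G)⁻¹ = (x * x') * B * ((x' : G)⁻¹ * (x : G)⁻¹) := by group
      _ = _ := by rw [e1, e2]; group
  have hQ2 : (x' : G) * Q * (x' : G)⁻¹ = B := by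
    have e1 : (x' : G)⁻¹ = x' := congrArg Subtype.val xi'
    have e2 : (x' : G) * x' = 1 := by
      calc (x' : G) * x' = (x' : G)⁻¹ * x' := by rw [e1]
        _ = 1 := by group
    rw [hQd, e1]
    calc (x' : G) * (x' * B * x') * x' = (x' * x') * B * (x' * x') := by group
      _ = _ := by rw [e2]; group
  -- the products
  obtain ⟨k, hk, hkf⟩ := hT a b A B P F.ua F.ub F.ab a0 au b0 bu ab0 abu hA hB hP
  obtain ⟨l, hl, hlf⟩ := hT b c B C0 Q F.ub F.uc F.bc b0 bu c0 cu bc0 bcu hB hC hQ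
  have t0 : ∀ {i j : ZMod 2}, i = 0 → j = 0 → i + j = 0 := by
    rintro _ _ rfl rfl
    rfl
  have hBQ := hcomm _ _ _ _ F.ub ubc (by rw [map_add]; exact t0 (C.S.alt b) F.bc) b0 bu bc0 bcu hB hQ
  have hCQ := hcomm _ _ _ _ F.uc ubc (by rw [map_add]; exact t0 (sy F.bc) (C.S.alt c)) c0 cu bc0 bcu hC hQ
  have hBC := hcomm _ _ _ _ F.ub F.uc F.bc b0 bu c0 cu hB hC
  have hk' : (x' : G) * k * (x' : G)⁻¹ = A * Q * R := by
    rw [← hk, show (x' : G) * (A * B * P) * (x' : G)⁻¹ = (x' * A * (x' : G)⁻¹) *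
      (x' * B * (x' : G)⁻¹) * (x' * P * (x' : G)⁻¹) by group, xA', ← hQd, ← hRd]
  have hl' : (x : G) * l * (x : G)⁻¹ = P * C0 * R := by
    rw [← hl, show (x : G) * (B * C0 * Q) * (x : G)⁻¹ = (x * B * (x : G)⁻¹) *
      (x * C0 * (x : G)⁻¹) * (x * Q * (x : G)⁻¹) by group, xC, ← hPd, hRd2]
  have hl2 : (x' : G) * l * (x' : G)⁻¹ = l := by
    rw [← hl, show (x' : G) * (B * C0 * Q) * (x' : G)⁻¹ = (x' * B * (x' : G)⁻¹) *
      (x' * C0 * (x' : G)⁻¹) * (x' * Q * (x' : G)⁻¹) by group, xC', ← hQd, hQ2]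
    rw [← hCQ, mul_assoc, ← hBQ, ← mul_assoc, ← hBC]
  -- the main identity
  have hmain : (x' : G) * k * (x' : G)⁻¹ * k * (C0 * C0) = A * A * (l * ((x : G) * l * (x : G)⁻¹)) := by
    rw [hk', hl', ← hk, ← hl]
    apply six
    · exact hcomm _ _ _ _ F.ua F.ub F.ab a0 au b0 bu hA hB
    · exact hcomm _ _ _ _ F.ua F.uc F.ac a0 au c0 cu hA hC
    · exact hcomm _ _ _ _ F.ua uab (by rw [map_add]; exact t0 (C.S.alt a) F.ab) a0 au ab0 abu hA hP
    · exact hcomm _ _ _ _ F.ua ubc (by rw [map_add]; exact t0 F.ab F.ac) a0 au bc0 bcu hA hQ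
    · exact hcomm _ _ _ _ F.ua uabc (by rw [map_add, map_add]; exact t0 (t0 (C.S.alt a) F.ab) F.ac) a0 au abc0 abcu
        hA hR
    · exact hBC
    · exact hcomm _ _ _ _ F.ub uab (by rw [map_add]; exact t0 (sy F.ab) (C.S.alt b)) b0 bu ab0 abu hB hP
    · exact hBQ
    · exact hcomm _ _ _ _ F.ub uabc (by rw [map_add, map_add]; exact t0 (t0 (sy F.ab) (C.S.alt b)) F.bc)
        b0 bu abc0 abcu hB hR
    · exact hcomm _ _ _ _ F.uc uab (by rw [map_add]; exact t0 (sy F.ac) (sy F.bc)) c0 cu ab0 abu hC hP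
    · exact hCQ
    · exact hcomm _ _ _ _ F.uc uabc (by rw [map_add, map_add]; exact t0 (t0 (sy F.ac) (sy F.bc)) (C.S.alt c))
        c0 cu abc0 abcu hC hR
    · exact hcomm _ _ _ _ uab ubc (by
        rw [B_add, map_add, map_add]; exact t0 (t0 F.ab F.ac) (t0 (C.S.alt b) F.bc)) ab0 abu bc0 bcu hP hQ
    · exact hcomm _ _ _ _ uab uabc (by
        rw [map_add, C.S.alt, B_add]; exact t0 rfl (t0 F.ac F.bc)) ab0 abu abc0 abcu hP hR
    · exact hcomm _ _ _ _ ubc uabc (by
        rw [add_assoc a b c, map_add, C.S.alt, B_add]; exact t0 (t0 (sy F.ab) (sy F.ac)) rfl) bc0 bcu abc0 abcu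
        hQ hR
  rw [hsq a A F.ua a0 au hA, hsq c C0 F.uc c0 cu hC] at hmain
  have hmain' : x' * k * x'⁻¹ * k * sg C.S u c = sg C.S u a * (l * (x * l * x⁻¹)) := Subtype.ext hmain
  have hl2' : x' * l * x'⁻¹ = l := Subtype.ext hl2
  -- the action
  obtain ⟨α, β, γ, h1⟩ := fix3 C.S hkf f
  obtain ⟨α', β', γ', h2⟩ := fix3 C.S hlf g
  obtain ⟨α₂, β₂, γ₂, h3⟩ := fix3 C.S hlf h
  have ku : C.S.ρ k u = u := hkf u (C.S.alt u) (sy F.ua) (sy F.ub)
  have ka : C.S.ρ k a = a := hkf a F.ua (C.S.alt a) (sy F.ab)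
  have kb : C.S.ρ k b = b := hkf b F.ub F.ab (C.S.alt b)
  have kc : C.S.ρ k c = c := hkf c F.uc F.ac F.bc
  have lu : C.S.ρ l u = u := hlf u (C.S.alt u) (sy F.ub) (sy F.uc)
  have la : C.S.ρ l a = a := hlf a F.ua (sy F.ab) (sy F.ac)
  have lb : C.S.ρ l b = b := hlf b F.ub (C.S.alt b) (sy F.bc)
  have lc : C.S.ρ l c = c := hlf c F.uc F.bc (C.S.alt c)
  have lf : C.S.ρ l f = f := hlf f F.uf F.bf F.cf
  -- `α' = 0`
  have hα' : α' = 0 := by
    have h4 : l * x' = x' * l := by
      calc l * x' = x' * l * x'⁻¹ * x' := by rw [hl2']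
        _ = x' * l := by group
    have h5 : C.S.ρ (l * x') h = C.S.ρ (x' * l) h := by rw [h4]
    rw [C.S.ρ_mul, C.S.ρ_mul, rx', h3, sy F.ch, one_smul] at h5
    simp only [map_add, map_smul, lc, h2, h3, xu', xb', xc'] at h5
    rw [rx' h, sy F.ch, one_smul] at h5
    have h6 := congrArg (fun z => C.S.B z e) h5
    simp only [map_add, map_smul, LinearMap.add_apply, LinearMap.smul_apply, smul_eq_mul, F.ue, F.be, F.ce,
      mul_zero, mul_one, add_zero] at h6
    have h7 : ∀ p q r s : ZMod 2, p + r + (0 + (q + s)) = p + (0 + q) + r → s = 0 := by decide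
    exact h7 _ _ _ _ h6
  have h5 : C.S.ρ (x' * k * x'⁻¹ * k * sg C.S u c) f = C.S.ρ (sg C.S u a * (l * (x * l * x⁻¹))) f := by rw [hmain']
  have hs1 : C.S.ρ (sg C.S u c) f = f := by
    rw [ρ_sg C.S F.uc, sy F.cf, sy F.uf, zero_smul, zero_smul, add_zero, add_zero]
  rw [xi, xi'] at h5
  simp only [C.S.ρ_mul] at h5
  rw [hs1, h1] at h5
  have h7 : C.S.ρ x' f = f + C.S.B f g • c := by rw [rx', sy F.cf, zero_smul, add_zero]
  have h8 : C.S.ρ x f = f + (C.S.B f g • a + g) := by rw [rx, sy F.af, one_smul]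
  have h9 : C.S.ρ x g = g := by rw [rx, C.S.alt, sy F.ag, zero_smul, zero_smul, add_zero, add_zero]
  simp only [map_add, map_smul, h7, xu', xa', xb', ku, ka, kb, kc, h1, h8, h9, lf, la, h2, xu, xa, xb, xc, xc',
    lu, lb, lc, ρ_sg C.S F.ua] at h5
  have h6 := congrArg (fun z => C.S.B z e) h5
  have hgu : C.S.B g u = 0 := sy F.ug
  have hfu : C.S.B f u = 0 := sy F.uf
  have hfa : C.S.B f a = 1 := sy F.af
  have hga : C.S.B g a = 0 := sy F.ag
  simp only [map_add, map_smul, LinearMap.add_apply, LinearMap.smul_apply, smul_eq_mul, F.ue, F.ae, F.be, F.ce,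
    mul_zero, mul_one, add_zero, C.S.alt, sy F.ua, sy F.ub, sy F.uc, F.ua, sy F.ab,
    sy F.ac, hgu, hfu, hfa, hga, zero_add] at h6
  subst hα'
  have h10 : ∀ p q r : ZMod 2, p + r + r = p + (q + 0) + (q + 0 + 0) + 1 → False := by decide
  exact h10 _ _ _ h6

/-- existence of the elements `y` over lines (form of `Asm.Inputs.short`) -/
def Short (C : Ctx G V) : Prop :=
  ∀ u w, C.S.B u w = 0 → u ≠ 0 → w ≠ 0 → u ≠ w → ∃ y : G, y * y = 1 ∧
    y * C.t * y = C.t * ((Words.sg C.S u w : C.L) : G) ∧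
    ∀ e, C.S.B u e = 0 → C.S.B w e = 0 → y * C.b e = C.b e * y

theorem sg_eq (C : Ctx G V) (u w : V) : ((Words.sg C.S u w : C.L) : G) = qg C u w 0 := KappaE.s_eq u w

theorem uc_or (C : Ctx G V) (hS : Short C) {u v : V} (hu : u ≠ 0) (hv : v ∉ ln u) (hvu : C.S.B v u = 0) :
    ∃ y, U0 C u v y ∨ UC C u v y := by
  have hfinV := C.finV
  obtain ⟨y, h1, h2, h3⟩ := hS u v (by rw [C.symm]; exact hvu) hu (ne_zero_of_notMem hv)
    (fun h => hv (by rw [← h]; exact self_mem_ln u))
  have h : IsX C u v y := ⟨h1, by rw [h2, sg_eq], fun e he he' => h3 e (by rw [C.symm]; exact he)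
    (by rw [C.symm]; exact he')⟩
  exact h.cases hu hv hvu

theorem _root_.Cfsg.Agent.OddHalf.SpTwoN.KappaDef.UC.add_self {C : Ctx G V} {u v : V} {y : G}
    (h : UC C u v y) (hv : C.S.B v u = 0) : UC C u (v + u) y := by
  refine ⟨h.toIsX.add_self hv, fun p e hp => ?_⟩
  rw [h.act p e hp, C.B_add_right, hp, add_zero, smul_add]
  rcases z2 (C.S.B p v) with h1 | h1
  · simp only [h1, zero_smul, add_zero]
  · rw [h1, one_smul, one_smul, ← add_assoc, qg_add_self C (by rw [C.B_add_left, hp, hv, add_zero])]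

/-- **`κ = 0`** -/
theorem kappa_ne_one (C : Ctx G V) (hS : Short C) (hY : ∀ w, w ≠ 0 → ∃ n Q, IsY C w n ∧ HasType C w n 1 Q) :
    False := by
  have hfinV := C.finV
  obtain ⟨u, hu⟩ : ∃ u : V, u ≠ 0 := by
    obtain ⟨x, -, hx⟩ := room C.S C.cardV (A := ⊥) (A' := ⊥) (by simp)
    exact ⟨x, by simpa using hx⟩
  have hUC : ∀ v, v ∉ ln u → C.S.B v u = 0 → ∃ y, UC C u v y := by
    intro v hv hvu
    obtain ⟨y, h | h⟩ := uc_or C hS hu hv hvu
    · exfalso
      obtain ⟨n, Q, hn, ht⟩ := hY u hu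
      exact one_ne_zero (h.kappa_zero hu hv hvu hn ht)
    · exact ⟨y, h⟩
  have sy : ∀ {x y : V}, C.S.B x y = 0 → C.S.B y x = 0 := fun {x y} hxy => by rw [C.symm]; exact hxy
  have hst : ∀ v, C.t * qg C u v 0 = qg C u v 0 * C.t := fun v => (qg_t C).symm
  have htyt : ∀ v y, C.S.B v u = 0 → UC C u v y → C.t * y * C.t = qg C u v 0 * y := fun v y _ h => h.toIsX.t_conj
  -- coplanar elements
  have htr : ∀ v v' y y' y'', C.S.B v u = 0 → C.S.B v' u = 0 → C.S.B v' v = 0 → v ∉ ln u → v' ∉ pl u v →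
      UC C u v y → UC C u v' y' → UC C u (v + v') y'' → ∃ k : C.L, y * y' * y'' = C.t * k ∧
        ∀ e, C.S.B u e = 0 → C.S.B v e = 0 → C.S.B v' e = 0 → C.S.ρ k e = e :=
    fun v v' y y' y'' h1 h2 h3 h4 h5 h6 h7 h8 => triple hY hu h4 h5 h1 h2 h3 h6 h7 h8
  refine kill' C hu (fun v m => ∃ y, UC C u v y ∧ m = y * C.t) ?_ ?_ ?_ ?_ ?_ ?_
  · intro v huv h0 h1
    obtain ⟨y, hy⟩ := hUC v (notMem_ln h0 h1) (sy huv)
    exact ⟨_, y, hy, rfl⟩
  · rintro v m huv ⟨y, hy, rfl⟩ e he he'
    have e1 := hy.comm e (sy he) (sy he')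
    have e2 : C.t * C.b e = C.b e * C.t := (t_comm C (C.S.τ e)).symm
    exact (Commute.mul_left e1 e2).eq
  · rintro v m huv h0 h1 ⟨y, hy, rfl⟩
    rw [sg_eq]
    calc y * C.t * (y * C.t) = (y * C.t * y) * C.t := by group
      _ = C.t * qg C u v 0 * C.t := by rw [hy.conj_t]
      _ = qg C u v 0 * (C.t * C.t) := by rw [hst]; group
      _ = _ := by rw [C.tt, mul_one]
  · rintro v v' m m' huv huv' hvv' h0 h1 h0' h1' ⟨y, hy, rfl⟩ ⟨y', hy', rfl⟩
    have hvu := sy huv
    have hvu' := sy huv'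
    have hvl := notMem_ln h0 h1
    by_cases hpl : v' ∈ pl u v
    · -- the same line
      have h2 : IsX C u v y' := by
        rcases mem_pl.1 hpl with h3 | h3 | h3 | h3
        · exact absurd h3 h0'
        · exact absurd h3 h1'
        · rw [h3] at hy'; exact hy'.toIsX
        · rw [h3, add_comm u v] at hy'; exact hy'.toIsX.add_self' hvu
      obtain ⟨a, c, d, h4⟩ := hy.toIsX.same hu hvl hvu h2
      have hcv : C.S.B (c • v) u = 0 := by rw [C.B_smul_left, hvu, mul_zero]
      have hdv : C.S.B (d • v) u = 0 := by rw [C.B_smul_left, hvu, mul_zero]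
      have e1 : y * qg C u (c • v) a = qg C u (c • v) a * y :=
        hy.toIsX.comm_q hvu hcv (by rw [C.B_smul_left, C.B_self, mul_zero]) a
      have e2 : y * C.b (d • v) = C.b (d • v) * y :=
        hy.comm _ hdv (by rw [C.B_smul_left, C.B_self, mul_zero])
      have e3 : C.t * qg C u (c • v) a = qg C u (c • v) a * C.t := (qg_t C).symm
      have e4 : C.t * C.b (d • v) = C.b (d • v) * C.t := (t_comm C (C.S.τ (d • v))).symm
      have e5 : Commute (y * C.t) (qg C u (c • v) a * C.b (d • v)) :=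
        (Commute.mul_left e1 e3).mul_right (Commute.mul_left e2 e4)
      rw [h4, mul_assoc _ y C.t]
      exact (e5.mul_right (Commute.refl _)).eq
    · -- a plane
      have hpl' : v + v' ∉ ln u := fun e1 => hpl (by
        rcases mem_ln.1 e1 with e2 | e2
        · rw [← eq_of_add _ _ e2]; exact right_mem_pl u v
        · have e3 : v' = v + u := by rw [← e2, aac]
          rw [e3]; exact add_mem (right_mem_pl u v) (left_mem_pl u v))
      have hwu : C.S.B (v + v') u = 0 := by rw [C.B_add_left, hvu, hvu', add_zero]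
      obtain ⟨y'', hy''⟩ := hUC (v + v') hpl' hwu
      obtain ⟨k, hk, hkf⟩ := htr v v' y y' y'' hvu hvu' (sy hvv') hvl hpl hy hy' hy''
      -- `k` is an involution commuting with `y, y', y''`
      obtain ⟨W, hW, hAW⟩ := exists_max_ge C.S (A := pl u v ⊔ ln v') (by
        have e0 : ∀ z, C.S.B z u = 0 → C.S.B z v = 0 → C.S.B z v' = 0 → z ∈ perp C.S (pl u v ⊔ ln v') := by
          intro z e1 e2 e3
          rw [mem_perp_sup, mem_perp_pl, mem_perp_ln]
          exact ⟨⟨e1, e2⟩, e3⟩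
        have e5 : ∀ x : V, x ∈ perp C.S (pl u v ⊔ ln v') → ln x ≤ perp C.S (pl u v ⊔ ln v') := by
          intro x hx z hz
          rcases mem_ln.1 hz with rfl | rfl
          · exact zero_mem _
          · exact hx
        have e6 : ln u ⊔ ln v ≤ perp C.S (pl u v ⊔ ln v') :=
          sup_le (e5 u (e0 u (C.B_self u) huv huv')) (e5 v (e0 v hvu (C.B_self v) hvv'))
        rw [← pl_eq] at e6
        exact sup_le e6 (e5 v' (e0 v' hvu' (sy hvv') (C.B_self v'))))
      have huW : u ∈ W := hAW (Submodule.mem_sup_left (left_mem_pl u v))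
      have hvW : v ∈ W := hAW (Submodule.mem_sup_left (right_mem_pl u v))
      have hv'W : v' ∈ W := hAW (Submodule.mem_sup_right (self_mem_ln v'))
      have hkW : k ∈ Iso.AW C.S W := fun x hx => hkf x (hW.perp huW hx) (hW.perp hvW hx) (hW.perp hv'W hx)
      have hkk : (k : G) * k = 1 := Transl.asq hW hkW
      have c1 := comm_AW hW huW hvW hy.toIsX hkW
      have c2 := comm_AW hW huW hv'W hy'.toIsX hkW
      have hkt := t_comm C k
      have e1 : y * y' = C.t * k * y'' := by rw [← hk, mul_assoc _ y'' y'', hy''.sq, mul_one]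
      have e2 : y'' = k * C.t * (y * y') := by
        rw [e1]
        calc y'' = k * (C.t * C.t) * k * y'' := by rw [C.tt, mul_one, hkk, one_mul]
          _ = _ := by group
      have e3 := hy''.sq
      -- `t y y' t y y' = 1`
      have e4 : (C.t * (y * y')) * (C.t * (y * y')) = 1 := by
        have e5 : (k : G) * (C.t * (y * y')) = (C.t * (y * y')) * k := by
          calc (k : G) * (C.t * (y * y')) = (k * C.t) * y * y' := by group
            _ = C.t * (k * y) * y' := by rw [hkt]; group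
            _ = C.t * y * (k * y') := by rw [← c1]; group
            _ = _ := by rw [← c2]; group
        rw [e2] at e3
        calc (C.t * (y * y')) * (C.t * (y * y')) = (k * k) * ((C.t * (y * y')) * (C.t * (y * y'))) := by
              rw [hkk, one_mul]
          _ = k * (k * (C.t * (y * y'))) * (C.t * (y * y')) := by group
          _ = k * (C.t * (y * y') * k) * (C.t * (y * y')) := by rw [e5]
          _ = k * (C.t * (y * y')) * (k * (C.t * (y * y'))) := by group
          _ = 1 := by rw [← e3]; group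
      have f1 := htyt v y hvu hy
      have f2 := htyt v' y' hvu' hy'
      have g1 := hy.toIsX.comm_q hvu hvu' (sy hvv') 0
      have g2 : y' * qg C u v 0 = qg C u v 0 * y' := hy'.toIsX.comm_q hvu' hvu hvv' 0
      have ss : qg C u v 0 * qg C u v 0 = 1 := qg_sq C hvu
      have ss' : qg C u v' 0 * qg C u v' 0 = 1 := qg_sq C hvu'
      have scomm : qg C u v 0 * qg C u v' 0 = qg C u v' 0 * qg C u v 0 := qg_comm C hvu hvu'
      -- `s s' y y' y y' = 1`
      have e6 : qg C u v 0 * qg C u v' 0 * (y * y' * (y * y')) = 1 := by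
        rw [← e4]
        calc qg C u v 0 * qg C u v' 0 * (y * y' * (y * y')) = qg C u v 0 * (qg C u v' 0 * y) * y' * (y * y') := by
              group
          _ = (qg C u v 0 * y) * (qg C u v' 0 * y') * (y * y') := by rw [← g1]; group
          _ = C.t * y * (C.t * C.t) * y' * C.t * (y * y') := by rw [← f1, ← f2]; group
          _ = _ := by rw [C.tt]; group
      have yy := hy.sq
      have yy' := hy'.sq
      -- `y y' = s s' y' y`
      have e7 : y * y' = qg C u v 0 * qg C u v' 0 * (y' * y) := by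
        have e8 : qg C u v 0 * qg C u v' 0 * (y * y') * (y * y') = 1 := by rw [← e6]; group
        have e9 : qg C u v 0 * qg C u v' 0 * (y * y') = y' * y := by
          calc qg C u v 0 * qg C u v' 0 * (y * y') = qg C u v 0 * qg C u v' 0 * (y * y') * (y * y') * (y' * y) := by
                calc qg C u v 0 * qg C u v' 0 * (y * y') =
                    qg C u v 0 * qg C u v' 0 * (y * y') * (y * (y' * y') * y) := by rw [yy', mul_one, yy, mul_one]
                  _ = _ := by group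
            _ = _ := by rw [e8, one_mul]
        rw [← e9]
        calc y * y' = (qg C u v 0 * qg C u v 0) * (qg C u v' 0 * qg C u v' 0) * (y * y') := by
              rw [ss, ss', one_mul, one_mul]
          _ = qg C u v 0 * (qg C u v 0 * qg C u v' 0) * qg C u v' 0 * (y * y') := by group
          _ = qg C u v 0 * (qg C u v' 0 * qg C u v 0) * qg C u v' 0 * (y * y') := by rw [scomm]
          _ = _ := by group
      calc y * C.t * (y' * C.t) = y * (C.t * y' * C.t) := by group
        _ = (y * qg C u v' 0) * y' := by rw [f2]; group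
        _ = qg C u v' 0 * (y * y') := by rw [g1]; group
        _ = (qg C u v' 0 * qg C u v 0) * qg C u v' 0 * (y' * y) := by rw [e7]; group
        _ = qg C u v 0 * (qg C u v' 0 * qg C u v' 0) * (y' * y) := by rw [← scomm]; group
        _ = (qg C u v 0 * y') * y := by rw [ss']; group
        _ = y' * (qg C u v 0 * y) := by rw [← g2]; group
        _ = y' * (C.t * y * C.t) := by rw [f1]
        _ = _ := by group
  · rintro k hk v m ⟨y, hy, rfl⟩
    refine ⟨k * y * (k : G)⁻¹, ?_, ?_⟩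
    · have := hy.conj k
      rwa [hk] at this
    · have e1 : (k : G)⁻¹ * C.t = C.t * (k : G)⁻¹ := by
        rw [inv_mul_eq_iff_eq_mul, ← mul_assoc, t_comm C k, mul_inv_cancel_right]
      rw [mul_assoc _ (k : G)⁻¹ C.t, e1]
      group
  · rintro v v' m m' m'' huv huv' hvv' h0 h1 h0' h1' h2 h3 ⟨y, hy, rfl⟩ ⟨y', hy', rfl⟩ ⟨y'', hy'', rfl⟩
    have hvu := sy huv
    have hvu' := sy huv'
    have hvl := notMem_ln h0 h1
    have hpl : v' ∉ pl u v := by
      intro h4
      rcases mem_pl.1 h4 with h5 | h5 | h5 | h5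
      · exact h0' h5
      · exact h1' h5
      · exact h2 (by rw [h5, aa])
      · exact h3 (by rw [h5, add_comm u v, aac])
    obtain ⟨k, hk, hkf⟩ := htr v v' y y' y'' hvu hvu' (sy hvv') hvl hpl hy hy' hy''
    have g1 := hy.toIsX.comm_q hvu hvu' (sy hvv') 0
    have f2 := htyt v' y' hvu' hy'
    refine ⟨SpTwo.q C.S u v' 0 * k, ?_, fun e e1 e2 e3 => ?_⟩
    · calc y * C.t * (y' * C.t) * (y'' * C.t) = y * (C.t * y' * C.t) * y'' * C.t := by group
        _ = (y * qg C u v' 0) * y' * y'' * C.t := by rw [f2]; group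
        _ = qg C u v' 0 * (y * y' * y'') * C.t := by rw [g1]; group
        _ = qg C u v' 0 * C.t * (k * C.t) := by rw [hk]; group
        _ = qg C u v' 0 * (C.t * C.t) * k := by rw [t_comm C k]; group
        _ = _ := by rw [C.tt, mul_one]; rfl
    · rw [C.S.ρ_mul, hkf e e1 e2 e3, q_apply C.S hvu', sy e3, sy e1, zero_smul, zero_smul, mul_zero, zero_smul,
        add_zero, add_zero, add_zero]

theorem kappa [Finite G] (C : Ctx G V) (hS : Short C) (hL : PL C) : ∃ v y, v ≠ 0 ∧ Asm.Long C v y := by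
  have hfinV := C.finV
  obtain ⟨u, hu⟩ : ∃ u : V, u ≠ 0 := by
    obtain ⟨x, -, hx⟩ := room C.S C.cardV (A := ⊥) (A' := ⊥) (by simp)
    exact ⟨x, by simpa using hx⟩
  obtain ⟨κ, hκ⟩ := exists_kappa C
  have hYex : ∀ w, w ≠ 0 → ∃ y, IsY C w y := by
    intro w hw
    obtain ⟨g, hg⟩ := hL w hw
    exact SpTwo.exists_y C ⟨g, w, hw, hg.symm⟩ hw
  rcases z2 κ with h0 | h1
  · rw [h0] at hκ
    obtain ⟨y, hy⟩ := hYex u hu
    obtain ⟨Q, hQ⟩ := hκ u y hu hy
    obtain ⟨y', hy', hc⟩ := exists_commuting hu hy hQ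
    exact ⟨u, y', hu, hy'.sq, hy'.conj_t, fun k hk => (hc k hk).symm⟩
  · exfalso
    rw [h1] at hκ
    refine kappa_ne_one C hS fun w hw => ?_
    obtain ⟨y, hy⟩ := hYex w hw
    obtain ⟨Q, hQ⟩ := hκ w y hw hy
    exact ⟨y, Q, hy, hQ⟩

end Cfsg.Agent.OddHalf.SpTwoN.KappaKill

end
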