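import Cfsg.Agent.OddHalf.SpTwo.LongOut
import Cfsg.Agent.OddHalf.SpTwoN.Asm
import Cfsg.Agent.OddHalf.SpTwo.EndCO
import Cfsg.Agent.OddHalf.SpTwoN.KappaKill

-- merged: Cfsg.Agent.OddHalf.SpTwo.ShortSp
section

/-!
# The unipotent radical of the stabilizer of a totally isotropic line

`AU D U` : pointwise stabilizer of `U^⊥`; `FU D U` : pointwise stabilizer of `U`.
-/

set_option autoImplicit false
set_option linter.unusedSimpArgs false
set_option linter.unusedSectionVars false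

open scoped commutatorElement

namespace Cfsg.Agent.OddHalf.SpTwo

open Cfsg.Agent.StandardComponent.SpTwo

variable {X V : Type*} [Group X] [AddCommGroup V] [Module (ZMod 2) V] (D : SpData X V)

/-- pointwise stabilizer of `U` -/
def FU (U : Submodule (ZMod 2) V) : Subgroup X where
  carrier := {g | ∀ u ∈ U, D.ρ g u = u}
  one_mem' := fun u _ => D.ρ_one u
  mul_mem' := fun {a b} ha hb u hu => by rw [D.ρ_mul, hb u hu, ha u hu]
  inv_mem' := fun {a} ha u hu => by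
    have := D.ρ_inv_apply a u
    rwa [ha u hu] at this

/-- pointwise stabilizer of `U^⊥` -/
def AU (U : Submodule (ZMod 2) V) : Subgroup X := FU D (perp D U)

theorem mem_FU {U : Submodule (ZMod 2) V} {g : X} : g ∈ FU D U ↔ ∀ u ∈ U, D.ρ g u = u := Iff.rfl

theorem mem_AU {U : Submodule (ZMod 2) V} {g : X} : g ∈ AU D U ↔ ∀ u ∈ perp D U, D.ρ g u = u := Iff.rfl

theorem FU_le_PU {U : Submodule (ZMod 2) V} : FU D U ≤ PU D U := by
  intro g hg u
  refine ⟨fun hu => ?_, fun hu => by rw [hg u hu]; exact hu⟩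
  have h1 := (inv_mem hg : g⁻¹ ∈ FU D U) _ hu
  rw [D.ρ_inv_apply] at h1
  rw [h1]; exact hu

theorem QU_le_FU {U : Submodule (ZMod 2) V} : QU D U ≤ FU D U := fun _ hg => hg.1

theorem AU_le_QU {U : Submodule (ZMod 2) V} (hU : U ≤ perp D U) : AU D U ≤ QU D U := by
  intro g hg
  refine ⟨fun u hu => hg u (hU hu), fun x hx => ?_⟩
  rw [hg x hx, aa]; exact zero_mem _

theorem AU_apply [Finite V] {U : Submodule (ZMod 2) V} {g : X} (hg : g ∈ AU D U) (x : V) :
    D.ρ g x + x ∈ U := by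
  apply mem_of_perp D
  intro z hz
  have h1 := D.inv g z x
  rw [hg z hz] at h1
  rw [map_add, h1, z2_add]

theorem FU_apply {U : Submodule (ZMod 2) V} {g : X} (hg : g ∈ FU D U) (x : V) :
    D.ρ g x + x ∈ perp D U := by
  intro u hu
  have h1 := D.inv g x u
  rw [hg u hu] at h1
  rw [B_add, h1, z2_add]

/-- `A_U` commutes with the pointwise stabilizer of `U` -/
theorem AU_comm [Finite V] {U : Submodule (ZMod 2) V} {a m : X} (ha : a ∈ AU D U) (hm : m ∈ FU D U) :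
    a * m = m * a := by
  apply D.ext_iff
  intro x
  rw [D.ρ_mul, D.ρ_mul]
  have h1 : D.ρ a x = x + (D.ρ a x + x) := by rw [add_comm (D.ρ a x), aac]
  have h2 : D.ρ m x = x + (D.ρ m x + x) := by rw [add_comm (D.ρ m x), aac]
  have h3 : D.ρ a (D.ρ m x) = D.ρ a x + (D.ρ m x + x) := by
    nth_rewrite 1 [h2]
    rw [map_add, ha _ (FU_apply D hm x)]
  have h4 : D.ρ m (D.ρ a x) = D.ρ m x + (D.ρ a x + x) := by
    nth_rewrite 1 [h1]
    rw [map_add, hm _ (AU_apply D ha x)]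
  rw [h3, h4]
  abel

theorem AU_sq [Finite V] {U : Submodule (ZMod 2) V} (hU : U ≤ perp D U) {a : X} (ha : a ∈ AU D U) :
    a * a = 1 := by
  apply D.ext_iff
  intro x
  have h1 : D.ρ a x = x + (D.ρ a x + x) := by rw [add_comm (D.ρ a x), aac]
  rw [D.ρ_mul, D.ρ_one]
  nth_rewrite 1 [h1]
  rw [map_add, ha _ (hU (AU_apply D ha x)), add_comm (D.ρ a x) x, ← add_assoc, add_comm (D.ρ a x) x,
    aab]

theorem AU_conj {U : Submodule (ZMod 2) V} {g x : X} (hg : g ∈ PU D U) (hx : x ∈ AU D U) :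
    g * x * g⁻¹ ∈ AU D U := by
  intro y hy
  rw [D.ρ_mul, D.ρ_mul, hx _ (PU_perp D (inv_mem hg) hy), D.ρ_apply_inv]

theorem τ_mem_AU {U : Submodule (ZMod 2) V} {u : V} (hu : u ∈ U) : D.τ u ∈ AU D U := by
  intro x hx
  rw [D.hτ, hx u hu, zero_smul, add_zero]

/-! ### lines -/

variable {D}

/-- basis of a t.i. line -/
structure IsLn (D : SpData X V) (v w : V) : Prop where
  hv : v ≠ 0
  hw : w ∉ ln v
  hvw : D.B v w = 0

namespace IsLn

variable {v w : V} (h : IsLn D v w)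
include h

theorem hwv : D.B w v = 0 := by rw [D.symm]; exact h.hvw

theorem hv' : v ∉ ln w := by
  rw [mem_ln]
  rintro (h1 | h1)
  · exact h.hv h1
  · exact h.hw (by rw [h1]; exact self_mem_ln _)

theorem hw0 : w ≠ 0 := ne_zero_of_notMem h.hw

theorem symm : IsLn D w v := ⟨h.hw0, h.hv', h.hwv⟩

theorem ti : pl v w ≤ perp D (pl v w) := pl_ti D h.hvw

theorem pl_symm : pl w v = pl v w := pl_comm w v

theorem add_ne : v + w ≠ 0 := fun h1 => h.hw (by rw [← eq_of_add _ _ h1]; exact self_mem_ln v)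

theorem add_notMem : v + w ∉ ln v := fun h1 => h.hw (by
  have := add_mem (self_mem_ln v) h1
  rwa [aac] at this)

theorem right_add : IsLn D v (v + w) := ⟨h.hv, h.add_notMem, by rw [map_add, D.alt, h.hvw, add_zero]⟩

theorem of_mem {a b : V} (ha : a ∈ pl v w) (hb : b ∈ pl v w) (ha0 : a ≠ 0) (hab : b ∉ ln a) :
    IsLn D a b := ⟨ha0, hab, h.ti ha b hb⟩

theorem pl_eq_of_mem {a b : V} (ha : a ∈ pl v w) (hb : b ∈ pl v w) (ha0 : a ≠ 0) (hab : b ∉ ln a) :
    pl a b = pl v w := by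
  apply le_antisymm
  · intro x hx
    rcases mem_pl.1 hx with rfl | rfl | rfl | rfl
    · exact zero_mem _
    · exact ha
    · exact hb
    · exact add_mem ha hb
  · intro x hx
    have hb0 : b ≠ 0 := ne_zero_of_notMem hab
    have hne : b ≠ a := fun h => hab (by rw [h]; exact self_mem_ln a)
    rw [mem_pl] at hx ha hb ⊢
    rcases hx with hx | hx | hx | hx <;> rcases ha with ha | ha | ha | ha <;>
      rcases hb with hb | hb | hb | hb <;>
      first
      | exact absurd ha ha0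
      | exact absurd hb hb0
      | exact absurd (hb.trans ha.symm) hne
      | (rw [hx, ha, hb]; left; rfl)
      | (rw [hx, ha, hb]; right; left; rfl)
      | (rw [hx, ha, hb]; right; right; left; rfl)
      | (rw [hx, ha, hb]; right; right; right; rfl)
      | (rw [hx, ha, hb]; right; right; right; exact (aac _ _).symm)
      | (rw [hx, ha, hb]; right; right; right; exact add_comm _ _)
      | (rw [hx, ha, hb]; right; right; right; rw [add_comm v w, aac])
      | (rw [hx, ha, hb]; right; right; right; rw [add_comm v w, aab])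
      | (rw [hx, ha, hb]; right; right; right; rw [aab])

theorem q_symm : q D w v 0 = q D v w 0 := by
  apply q_pl D h.hvw (right_mem_pl v w) (left_mem_pl v w) h.hw0 h.hv'

theorem q_of_mem {a b : V} (ha : a ∈ pl v w) (hb : b ∈ pl v w) (ha0 : a ≠ 0) (hab : b ∉ ln a) :
    q D a b 0 = q D v w 0 := q_pl D h.hvw ha hb ha0 hab

/-- dual basis -/
theorem exists_dual [Finite V] : ∃ v' w' : V, D.B v' v = 1 ∧ D.B v' w = 0 ∧ D.B w' v = 0 ∧ D.B w' w = 1 := by
  obtain ⟨w', hw', hww⟩ := sep D h.hw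
  obtain ⟨v', hv', hvv⟩ := sep D h.hv'
  exact ⟨v', w', hvv, (mem_perp_ln D).1 hv', (mem_perp_ln D).1 hw', hww⟩

theorem ext_dual {v' w' : V} (h1 : D.B v' v = 1) (h2 : D.B v' w = 0) (h3 : D.B w' v = 0) (h4 : D.B w' w = 1)
    {g k : X} (h0 : ∀ z ∈ perp D (pl v w), D.ρ g z = D.ρ k z) (hv : D.ρ g v' = D.ρ k v')
    (hw : D.ρ g w' = D.ρ k w') : g = k := by
  apply D.ext_iff
  intro x
  have hz : x + D.B x v • v' + D.B x w • w' ∈ perp D (pl v w) := by
    rw [mem_perp_pl]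
    constructor
    · rw [B_add, B_add, map_smul, LinearMap.smul_apply, map_smul, LinearMap.smul_apply, h1, h3, smul_zero,
        add_zero, smul_eq_mul, mul_one, z2_add]
    · rw [B_add, B_add, map_smul, LinearMap.smul_apply, map_smul, LinearMap.smul_apply, h2, h4, smul_zero,
        add_zero, smul_eq_mul, mul_one, z2_add]
  have h5 := h0 _ hz
  rw [map_add, map_add, map_add, map_add, map_smul, map_smul, map_smul, map_smul, hv, hw] at h5
  exact add_right_cancel (add_right_cancel h5)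

/-- `q v x e ∈ Q_ℓ` -/
theorem qv_mem {x : V} (hx : x ∈ perp D (pl v w)) (e : ZMod 2) : q D v x e ∈ QU D (pl v w) :=
  q_left_mem_QU_pl D h.hw h.hvw hx e

theorem qw_mem {x : V} (hx : x ∈ perp D (pl v w)) (e : ZMod 2) : q D w x e ∈ QU D (pl v w) :=
  q_mem_QU_pl D h.hw h.hvw hx e

/-- powers of `s` -/
theorem sp_mem (f : ZMod 2) : q D v (f • w) 0 ∈ AU D (pl v w) := by
  intro x hx
  rw [mem_perp_pl] at hx
  have h1 : D.B (f • w) v = 0 := by rw [map_smul, LinearMap.smul_apply, h.hwv, smul_zero]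
  rw [q_apply D h1, hx.1, map_smul, hx.2]; simp

theorem ac_mem (a b c : ZMod 2) : q D v (b • w) a * q D w 0 c ∈ AU D (pl v w) := by
  have hz : ∀ (u : V) (c : ZMod 2), u ∈ pl v w → q D u 0 c ∈ AU D (pl v w) := by
    intro u c hu
    rcases z2 c with rfl | rfl
    · rw [q_zero]; exact one_mem _
    · rw [q_zero_one]; exact τ_mem_AU D hu
  have h1 : D.B (b • w) v = 0 := by rw [map_smul, LinearMap.smul_apply, h.hwv, smul_zero]
  have h2 : q D v (b • w) a = q D v (b • w) 0 * q D v 0 a := by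
    rw [q_mul D h1 (B_zero D v), map_zero]; simp
  rw [h2]
  exact mul_mem (mul_mem (h.sp_mem b) (hz v a (left_mem_pl v w))) (hz w c (right_mem_pl v w))

/-- the elements of `A_ℓ` -/
theorem mem_AU_pl [Finite V] {g : X} (hg : g ∈ AU D (pl v w)) :
    ∃ a b c : ZMod 2, g = q D v (b • w) a * q D w 0 c := by
  obtain ⟨v', w', h1, h2, h3, h4⟩ := h.exists_dual
  have hvv' : D.B v v' = 1 := by rw [D.symm]; exact h1
  have hwv' : D.B w v' = 0 := by rw [D.symm]; exact h2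
  have hvw' : D.B v w' = 0 := by rw [D.symm]; exact h3
  have hww' : D.B w w' = 1 := by rw [D.symm]; exact h4
  have key : ∀ x ∈ pl v w, ∃ a b : ZMod 2, x = a • v + b • w := by
    intro x hx
    rcases mem_pl.1 hx with rfl | rfl | rfl | rfl
    · exact ⟨0, 0, by simp⟩
    · exact ⟨1, 0, by simp⟩
    · exact ⟨0, 1, by simp⟩
    · exact ⟨1, 1, by simp⟩
  obtain ⟨a, b, hab⟩ := key _ (AU_apply D hg v')
  obtain ⟨b', c, hbc⟩ := key _ (AU_apply D hg w')
  have e1 : D.ρ g v' = v' + (a • v + b • w) := by rw [← hab, add_comm (D.ρ g v'), aac]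
  have e2 : D.ρ g w' = w' + (b' • v + c • w) := by rw [← hbc, add_comm (D.ρ g w'), aac]
  have hbb : b' = b := by
    have h5 := D.inv g v' w'
    rw [e1, e2] at h5
    simp only [map_add, LinearMap.add_apply, map_smul, LinearMap.smul_apply, smul_eq_mul, D.alt, h1, h2, h3, h4,
      hvv', hwv', hvw', hww', h.hvw, h.hwv, mul_zero, add_zero, zero_add, mul_one] at h5
    have fin : ∀ k b b' : ZMod 2, k + b + b' = k → b' = b := by decide
    exact fin _ _ _ h5
  subst hbb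
  refine ⟨a, b', c, ?_⟩
  have hbv : D.B (b' • w) v = 0 := by rw [map_smul, LinearMap.smul_apply, h.hwv, smul_zero]
  apply h.ext_dual h1 h2 h3 h4
  · intro z hz
    rw [hg z hz, h.ac_mem a b' c z hz]
  · rw [e1, D.ρ_mul, q_apply D (B_zero D w), q_apply D hbv, h2]
    simp only [map_zero, zero_smul, mul_zero, add_zero, map_smul, h2, h1, smul_eq_mul, mul_one, one_smul, zero_add]
    abel
  · rw [e2, D.ρ_mul, q_apply D (B_zero D w), q_apply D hbv, h4]
    simp only [map_zero, zero_smul, mul_zero, add_zero, map_smul, h4, h3, smul_eq_mul, mul_one, one_smul, zero_add,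
      B_add, LinearMap.smul_apply, LinearMap.add_apply, h.hwv, D.alt, map_add]
    abel

/-- the elements of `Q_ℓ` -/
theorem mem_QU_pl [Finite V] {g : X} (hg : g ∈ QU D (pl v w)) :
    ∃ a b, a ∈ perp D (pl v w) ∧ b ∈ perp D (pl v w) ∧ ∃ k ∈ AU D (pl v w), g = q D v a 0 * q D w b 0 * k := by
  obtain ⟨v', w', h1, h2, h3, h4⟩ := h.exists_dual
  have hmem : ∀ u, D.ρ g⁻¹ u + u ∈ perp D (pl v w) := fun u =>
    FU_apply D (inv_mem (QU_le_FU D hg)) u
  refine ⟨D.ρ g⁻¹ v' + v', D.ρ g⁻¹ w' + w', hmem v', hmem w', _, ?_,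
    (mul_inv_cancel_left (q D v (D.ρ g⁻¹ v' + v') 0 * q D w (D.ρ g⁻¹ w' + w') 0) g).symm⟩
  set a := D.ρ g⁻¹ v' + v' with ha
  set b := D.ρ g⁻¹ w' + w' with hb
  have hva : D.B a v = 0 := ((mem_perp_pl D).1 (hmem v')).1
  have hvb : D.B b w = 0 := ((mem_perp_pl D).1 (hmem w')).2
  -- coefficients of `ρ g z + z`
  have key : ∀ x ∈ pl v w, x = D.B x v' • v + D.B x w' • w := by
    intro x hx
    have hvv' : D.B v v' = 1 := by rw [D.symm]; exact h1
    have hwv' : D.B w v' = 0 := by rw [D.symm]; exact h2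
    have hvw' : D.B v w' = 0 := by rw [D.symm]; exact h3
    have hww' : D.B w w' = 1 := by rw [D.symm]; exact h4
    rcases mem_pl.1 hx with rfl | rfl | rfl | rfl
    · rw [B_zero, B_zero]; simp
    · rw [hvv', hvw']; simp
    · rw [hwv', hww']; simp
    · rw [B_add, B_add, hvv', hvw', hwv', hww']; simp
  have hB : ∀ z u, D.B (D.ρ g z + z) u = D.B z (D.ρ g⁻¹ u + u) := by
    intro z u
    rw [B_add, D.inv_left, map_add]
  intro z hz
  have hgz : D.ρ g z = z + (D.B z a • v + D.B z b • w) := by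
    have h5 := key _ (hg.2 z hz)
    rw [hB, hB] at h5
    rw [← h5, add_comm (D.ρ g z), aac]
  have hz' := (mem_perp_pl D).1 hz
  have hk : D.ρ (q D v a 0 * q D w b 0) z = z + (D.B z a • v + D.B z b • w) := by
    rw [D.ρ_mul, q_apply D hvb, q_apply D hva]
    have hwa : D.B w a = 0 := by rw [D.symm]; exact ((mem_perp_pl D).1 (hmem v')).2
    simp only [map_add, LinearMap.add_apply, map_smul, LinearMap.smul_apply, hz'.1, hz'.2, hwa, h.hwv, smul_zero,
      zero_smul, mul_zero, add_zero, zero_add]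
    abel
  rw [D.ρ_mul, hgz, ← hk, D.ρ_inv_apply]

/-- commutators in `Q_ℓ` -/
theorem conj_qv {x y : V} (hx : x ∈ perp D (pl v w)) (hy : y ∈ perp D (pl v w)) (e e' : ZMod 2) :
    q D w y e' * q D v x e * (q D w y e')⁻¹ = q D v x e * q D v (D.B x y • w) 0 := by
  have hx' := (mem_perp_pl D).1 hx
  have hy' := (mem_perp_pl D).1 hy
  have hvy : D.B v y = 0 := by rw [D.symm]; exact hy'.1
  have h1 : D.ρ (q D w y e') v = v := by rw [q_apply D hy'.2, hvy, h.hvw]; simp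
  have h2 : D.ρ (q D w y e') x = x + D.B x y • w := by rw [q_apply D hy'.2, hx'.2]; simp
  have h3 : D.B (D.B x y • w) v = 0 := by rw [map_smul, LinearMap.smul_apply, h.hwv, smul_zero]
  rw [q_conj, h1, h2, q_mul D hx'.1 h3, map_smul, hx'.2]; simp

/-- the centralizer of `Q_ℓ` -/
theorem mem_AU_of_commute [Finite V] {g : X} (hgv : g * D.τ v = D.τ v * g) (hgw : g * D.τ w = D.τ w * g)
    (h1 : ∀ x ∈ perp D (pl v w), g * q D v x 0 = q D v x 0 * g)
    (h2 : ∀ x ∈ perp D (pl v w), g * q D w x 0 = q D w x 0 * g) : g ∈ AU D (pl v w) := by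
  intro x hx
  have hx' := (mem_perp_pl D).1 hx
  have e1 := (commute_τ_iff D).1 hgv
  have e2 := (commute_τ_iff D).1 hgw
  have h3 : D.ρ g x + x ∈ ln v := by
    have h4 := q_conj D g (v := v) (u := x) 0
    rw [h1 x hx, mul_inv_cancel_right, e1] at h4
    have h5 : D.B (D.ρ g x) v = 0 := by rw [← e1, D.inv, hx'.1]
    exact (q_inj D h.hv h5 hx'.1 h4.symm).1
  have h3' : D.ρ g x + x ∈ ln w := by
    have h4 := q_conj D g (v := w) (u := x) 0
    rw [h2 x hx, mul_inv_cancel_right, e2] at h4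
    have h5 : D.B (D.ρ g x) w = 0 := by rw [← e2, D.inv, hx'.2]
    exact (q_inj D h.hw0 h5 hx'.2 h4.symm).1
  rcases mem_ln.1 h3 with h4 | h4
  · exact eq_of_add _ _ h4
  · rw [h4] at h3'
    exact absurd h3' h.hv'

/-- `s_{v+w,x} = s_{v,x} s_{w,x}` -/
theorem q_add {x : V} (hx : x ∈ perp D (pl v w)) : q D (v + w) x 0 = q D v x 0 * q D w x 0 := by
  have hx' := (mem_perp_pl D).1 hx
  have h1 : D.B x (v + w) = 0 := by rw [map_add, hx'.1, hx'.2, add_zero]
  have hwx : D.B w x = 0 := by rw [D.symm]; exact hx'.2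
  apply D.ext_iff
  intro z
  apply ext_B D
  intro y
  rw [D.ρ_mul, q_apply D h1, q_apply D hx'.2, q_apply D hx'.1]
  simp only [map_add, LinearMap.add_apply, map_smul, LinearMap.smul_apply, smul_eq_mul, D.alt, h.hwv, hwx, hx'.1]
  generalize D.B z x = a1
  generalize D.B z v = a2
  generalize D.B z w = a3
  generalize D.B z y = a4
  generalize D.B v y = a5
  generalize D.B w y = a6
  generalize D.B x y = a7
  revert a1 a2 a3 a4 a5 a6 a7
  decide

end IsLn

end Cfsg.Agent.OddHalf.SpTwo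

end

-- merged: Cfsg.Agent.OddHalf.SpTwo.Short
section

/-!
# Existence of `y_ℓ` (short roots), first part

`g` with `t ↦ t s_ℓ`, `s_ℓ ↦ s_ℓ` normalises `Q_ℓ` and `A_ℓ`, and can be chosen to centralise `A_ℓ`.
-/

set_option autoImplicit false
set_option linter.unusedSimpArgs false
set_option linter.unusedSectionVars false

open scoped commutatorElement

namespace Cfsg.Agent.OddHalf.SpTwo

open Cfsg.Agent.StandardComponent.SpTwo
open Cfsg.Agent.OddHalf.SpTwoN

section Sp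

variable {X V : Type*} [Group X] [AddCommGroup V] [Module (ZMod 2) V] {D : SpData X V}

/-- a common neighbour in `A^⊥` -/
theorem exists_neighbour' [Finite V] (D : SpData X V) {A : Submodule (ZMod 2) V} {w w' : V} (hw : w ∉ A)
    (hw' : w' ∉ A) : ∃ y ∈ perp D A, D.B w y = 1 ∧ D.B y w' = 1 := by
  obtain ⟨y1, hy1, h1⟩ := sep D hw
  obtain ⟨y2, hy2, h2⟩ := sep D hw'
  rcases z2 (D.B y1 w') with h3 | h3
  · rcases z2 (D.B y2 w) with h4 | h4
    · refine ⟨y1 + y2, add_mem hy1 hy2, ?_, ?_⟩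
      · rw [D.symm, B_add, h1, h4, add_zero]
      · rw [B_add, h2, h3, zero_add]
    · exact ⟨y2, hy2, by rw [D.symm]; exact h4, h2⟩
  · exact ⟨y1, hy1, by rw [D.symm]; exact h1, h3⟩

/-- transitivity on the vectors of `A^⊥` outside `A` -/
theorem trans_perp [Finite V] (D : SpData X V) {A : Submodule (ZMod 2) V} {w w' : V} (hw : w ∉ A)
    (hw' : w' ∉ A) (h : w ∈ perp D A) (h' : w' ∈ perp D A) :
    ∃ g ∈ TG D (perp D A : Set V), D.ρ g w = w' := by
  have key : ∀ a b : V, D.B a b = 1 → D.ρ (D.τ (a + b)) a = b := by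
    intro a b h
    rw [D.hτ, map_add, D.alt, h, zero_add, one_smul, aac]
  obtain ⟨y, hy, h1, h2⟩ := exists_neighbour' D hw hw'
  refine ⟨D.τ (y + w') * D.τ (w + y), mul_mem (τ_mem_TG D (add_mem hy h')) (τ_mem_TG D (add_mem h hy)), ?_⟩
  rw [D.ρ_mul, key _ _ h1, key _ _ h2]

namespace IsLn

variable {v w : V} (h : IsLn D v w)
include h

theorem sp_one : q D v ((1 : ZMod 2) • w) 0 = q D v w 0 := by rw [one_smul]

theorem s_ne_one [Finite V] : q D v w 0 ≠ 1 := by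
  intro h1
  rw [← q_zero D v] at h1
  have := (q_inj D h.hv h.hwv (B_zero D v) h1).1
  rw [add_zero] at this
  exact h.hw this

theorem sp_add (e e' : ZMod 2) : q D v (e • w) 0 * q D v (e' • w) 0 = q D v ((e + e') • w) 0 := by
  have h1 : ∀ f : ZMod 2, D.B (f • w) v = 0 := fun f => by
    rw [map_smul, LinearMap.smul_apply, h.hwv, smul_zero]
  rw [q_mul D (h1 e) (h1 e'), ← add_smul, map_smul, map_smul, LinearMap.smul_apply, D.alt]; simp

theorem sp_inj [Finite V] {e e' : ZMod 2} (h1 : q D v (e • w) 0 = q D v (e' • w) 0) : e = e' := by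
  have h2 : ∀ f : ZMod 2, D.B (f • w) v = 0 := fun f => by
    rw [map_smul, LinearMap.smul_apply, h.hwv, smul_zero]
  have h3 := (q_inj D h.hv (h2 e) (h2 e') h1).1
  rw [← add_smul] at h3
  rcases z2 (e + e') with h4 | h4
  · exact eq_of_add _ _ h4
  · rw [h4, one_smul] at h3; exact absurd h3 h.hw

/-- `τ a τ b = τ (a+b) s` for different nonzero vectors of the line -/
theorem ττ {a b : V} (ha : a ∈ pl v w) (hb : b ∈ pl v w) (ha0 : a ≠ 0) (hab : b ∉ ln a) :
    D.τ a * D.τ b = D.τ (a + b) * q D v w 0 := by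
  have h1 := h.q_of_mem ha hb ha0 hab
  have h2 : D.B a b = 0 := h.ti ha b hb
  have h3 : D.τ (a + b) * (D.τ a * D.τ b) = D.τ a * D.τ b * D.τ (a + b) := by
    have e1 : D.τ (a + b) * D.τ a = D.τ a * D.τ (a + b) := D.τ_commute (by
      rw [B_add, D.alt, D.symm, h2, add_zero])
    have e2 : D.τ (a + b) * D.τ b = D.τ b * D.τ (a + b) := D.τ_commute (by
      rw [B_add, D.alt, h2, add_zero])
    rw [← mul_assoc, e1, mul_assoc, e2, mul_assoc]
  rw [← h1, q, zero_smul, D.τ_zero, mul_one, ← h3, ← mul_assoc, D.τ_sq, one_mul]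

theorem τ_sp_inj [Finite V] {a b : V} (ha : a ∈ pl v w) (hb : b ∈ pl v w) (ha0 : a ≠ 0) (hb0 : b ≠ 0)
    {e e' : ZMod 2} (h1 : D.τ a * q D v (e • w) 0 = D.τ b * q D v (e' • w) 0) : a = b ∧ e = e' := by
  have hsp : ∀ f : ZMod 2, q D v (f • w) 0 * q D v (f • w) 0 = 1 := by
    intro f
    rw [h.sp_add, z2_add, zero_smul, q_zero]
  have h2 : D.τ b * D.τ a = q D v ((e' + e) • w) 0 := by
    rw [← h.sp_add]
    calc D.τ b * D.τ a = D.τ b * (D.τ a * q D v (e • w) 0) * q D v (e • w) 0 := by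
          rw [mul_assoc, mul_assoc, hsp, mul_one]
      _ = _ := by rw [h1, ← mul_assoc, D.τ_sq, one_mul]
  by_cases hab : a = b
  · refine ⟨hab, ?_⟩
    rw [hab, D.τ_sq, ← q_zero D v, ← zero_smul (ZMod 2) w] at h2
    have := h.sp_inj h2
    exact (eq_of_add _ _ this.symm).symm
  · exfalso
    have hab' : a ∉ ln b := notMem_ln ha0 hab
    have h3 := h.ττ hb ha hb0 hab'
    rw [h2] at h3
    rcases z2 (e' + e) with h4 | h4
    · rw [h4, zero_smul, q_zero] at h3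
      -- `τ (b + a) = s`
      have h5 : D.τ b * D.τ a = 1 := by rw [h2, h4, zero_smul, q_zero]
      have h6 : D.τ b = D.τ a := by rw [← D.τ_inv a]; exact eq_inv_of_mul_eq_one_left h5
      exact hab (D.τ_injective h6).symm
    · rw [h4, one_smul] at h3
      have h5 : D.τ (b + a) = 1 := by
        have := h3.symm
        exact mul_eq_right.1 this
      exact hab (eq_of_add _ _ (D.τ_eq_one h5)).symm

/-- cases for the elements of `A_ℓ` -/
theorem AU_cases [Finite V] {a : X} (ha : a ∈ AU D (pl v w)) :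
    (∃ e : ZMod 2, a = q D v (e • w) 0) ∨
      ∃ u ∈ pl v w, u ≠ 0 ∧ ∃ e : ZMod 2, a = D.τ u * q D v (e • w) 0 := by
  obtain ⟨α, b, c, rfl⟩ := h.mem_AU_pl ha
  have h1 : D.B (b • w) v = 0 := by rw [map_smul, LinearMap.smul_apply, h.hwv, smul_zero]
  have h2 : q D v (b • w) α = q D v 0 α * q D v (b • w) 0 := by
    rw [q_mul D (B_zero D v) h1, B_zero]; simp
  have hcw : q D v (b • w) 0 * D.τ w = D.τ w * q D v (b • w) 0 :=
    AU_comm D (h.sp_mem b) (QU_le_FU D (AU_le_QU D h.ti (τ_mem_AU D (right_mem_pl v w))))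
  rcases z2 α with rfl | rfl <;> rcases z2 c with rfl | rfl
  · left
    refine ⟨b, ?_⟩
    rw [q_zero, mul_one]
  · right
    refine ⟨w, right_mem_pl v w, h.hw0, b, ?_⟩
    rw [q_zero_one, hcw]
  · right
    refine ⟨v, left_mem_pl v w, h.hv, b, ?_⟩
    rw [q_zero, mul_one, h2, q_zero_one]
  · right
    refine ⟨v + w, add_mem (left_mem_pl v w) (right_mem_pl v w), h.add_ne, 1 + b, ?_⟩
    rw [h2, q_zero_one, q_zero_one, mul_assoc, hcw, ← mul_assoc,
      h.ττ (left_mem_pl v w) (right_mem_pl v w) h.hv h.hw, mul_assoc, ← h.sp_one, h.sp_add]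

/-- `q v x e` for `x` in the line -/
theorem q_mem_AU {x : V} (hx : x ∈ pl v w) (e : ZMod 2) : q D v x e ∈ AU D (pl v w) := by
  intro z hz
  rw [mem_perp_pl] at hz
  have hxv : D.B x v = 0 := h.ti hx v (left_mem_pl v w)
  have h1 : D.B z x = 0 := (mem_perp_pl D).2 hz x hx
  rw [q_apply D hxv, hz.1, h1]; simp

/-- `q v x 0` depends on `x` modulo the line, up to `A_ℓ` -/
theorem q_mod {x x' : V} (hx : x ∈ perp D (pl v w)) (hxx : x + x' ∈ pl v w) (e : ZMod 2) :
    ∃ a ∈ AU D (pl v w), q D v x' e = q D v x e * a := by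
  have hx' := (mem_perp_pl D).1 hx
  have h1 : D.B (x + x') v = 0 := h.ti hxx v (left_mem_pl v w)
  refine ⟨q D v (x + x') 0, h.q_mem_AU hxx 0, ?_⟩
  rw [q_mul D hx'.1 h1, aac, add_zero, hx (x + x') hxx, add_zero]

/-- converse -/
theorem mem_of_q_eq [Finite V] {x x' : V} (hx : x ∈ perp D (pl v w)) (hx' : x' ∈ perp D (pl v w))
    {e e' : ZMod 2} {a a' : X} (ha : a ∈ AU D (pl v w)) (ha' : a' ∈ AU D (pl v w))
    (h1 : q D v x e * a = q D v x' e' * a') : x + x' ∈ pl v w := by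
  apply mem_of_perp D
  intro z hz
  have h2 := (ρ_eq D).1 h1 z
  have hz' := (mem_perp_pl D).1 hz
  have hxv := ((mem_perp_pl D).1 hx).1
  have hxv' := ((mem_perp_pl D).1 hx').1
  rw [D.ρ_mul, D.ρ_mul, ha z hz, ha' z hz, q_apply D hxv, q_apply D hxv', hz'.1] at h2
  simp only [mul_zero, zero_smul, add_zero] at h2
  have h3 := add_left_cancel h2
  rw [map_add]
  rcases z2 (D.B z x + D.B z x') with h4 | h4
  · exact h4
  · exfalso
    have h5 : (D.B z x + D.B z x') • v = 0 := by rw [add_smul, h3, aa]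
    rw [h4, one_smul] at h5
    exact h.hv h5

/-- elements of `Q_ℓ` acting as `⟨v⟩` on `ℓ^⊥` -/
theorem XU_struct [Finite V] {p : X} (hp : p ∈ QU D (pl v w))
    (hp' : ∀ z ∈ perp D (pl v w), D.ρ p z + z ∈ ln v) :
    ∃ x ∈ perp D (pl v w), ∃ a ∈ AU D (pl v w), p = q D v x 0 * a := by
  obtain ⟨a, b, ha, hb, k, hk, rfl⟩ := h.mem_QU_pl hp
  refine ⟨a, ha, q D w b 0 * k, ?_, by rw [mul_assoc]⟩
  have hbl : b ∈ pl v w := by
    apply mem_of_perp D
    intro z hz
    have h1 := hp' z hz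
    have hz' := (mem_perp_pl D).1 hz
    have ha' := (mem_perp_pl D).1 ha
    have hb' := (mem_perp_pl D).1 hb
    have hwa : D.B w a = 0 := by rw [D.symm]; exact ha'.2
    rw [D.ρ_mul, D.ρ_mul, hk z hz, q_apply D hb'.2, q_apply D ha'.1] at h1
    simp only [map_add, LinearMap.add_apply, map_smul, LinearMap.smul_apply, hz'.1, hz'.2, hwa, h.hwv, smul_zero,
      zero_smul, mul_zero, add_zero, zero_add] at h1
    have e1 : z + D.B z b • w + D.B z a • v + z = D.B z b • w + D.B z a • v + (z + z) := by abel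
    rw [e1, aa, add_zero] at h1
    rcases z2 (D.B z b) with h2 | h2
    · exact h2
    · exfalso
      rw [h2, one_smul] at h1
      have h3 := add_mem h1 (Submodule.smul_mem _ (D.B z a) (self_mem_ln v))
      rw [aab] at h3
      exact h.hw h3
  have h2 := h.symm.q_mem_AU (by rw [h.pl_symm]; exact hbl) 0
  rw [h.pl_symm] at h2
  exact mul_mem h2 hk

end IsLn

end Sp

/-! ### contexts -/

variable {G V : Type*} [Group G] [AddCommGroup V] [Module (ZMod 2) V] {C : Ctx G V}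
variable {v w : V} {g : G}

theorem nrm_pl (h : IsLn C.S v w) (ht : g * C.t * g⁻¹ = C.t * (q C.S v w 0 : C.L))
    (hs : g * (q C.S v w 0 : C.L) * g⁻¹ = (q C.S v w 0 : C.L)) : Nrm C (pl v w) (q C.S v w 0) g := by
  have hfinV := C.finV
  exact ⟨fun x => commute_s_iff C.S h.hv h.hw h.hvw, q_sq C.S h.hwv 0, ht, hs⟩

theorem Nrm.symm_pl (h : IsLn C.S v w) (H : Nrm C (pl v w) (q C.S v w 0) g) :
    Nrm C (pl w v) (q C.S w v 0) g := by
  rw [h.pl_symm, h.q_symm]; exact H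

theorem Nrm.of_mem_pl (h : IsLn C.S v w) (H : Nrm C (pl v w) (q C.S v w 0) g) {a b : V} (ha : a ∈ pl v w)
    (hb : b ∈ pl v w) (ha0 : a ≠ 0) (hab : b ∉ ln a) : Nrm C (pl a b) (q C.S a b 0) g := by
  rw [h.pl_eq_of_mem ha hb ha0 hab, h.q_of_mem ha hb ha0 hab]; exact H

theorem triv_pl (h : IsLn C.S v w) : Nrm.Triv C (pl v w) := by
  have hfinV := C.finV
  intro N hN hNn x hx x0 hx0 hxx
  let N' : Subgroup C.L :=
    { carrier := {y | y ∈ PU C.S (pl v w) ∧ ((y : G) ∈ N ∨ C.t * (y : G) ∈ N)}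
      one_mem' := ⟨one_mem _, Or.inl (one_mem _)⟩
      mul_mem' := by
        rintro a b ⟨ha, ha'⟩ ⟨hb, hb'⟩
        refine ⟨mul_mem ha hb, ?_⟩
        rcases ha' with ha' | ha' <;> rcases hb' with hb' | hb'
        · left; exact mul_mem ha' hb'
        · right
          have := mul_mem ha' hb'
          rwa [← mul_assoc, t_comm, mul_assoc] at this
        · right
          have := mul_mem ha' hb'
          rwa [mul_assoc] at this
        · left
          have := mul_mem ha' hb'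
          rwa [← t_comm, tt_mid] at this
      inv_mem' := by
        rintro a ⟨ha, ha'⟩
        refine ⟨inv_mem ha, ?_⟩
        rcases ha' with ha' | ha'
        · left; exact inv_mem ha'
        · right
          have := inv_mem ha'
          rw [mul_inv_rev, C.t_inv] at this
          have h2 := t_comm C a⁻¹
          change C.t * ((a⁻¹ : C.L) : G) ∈ N
          rw [← h2]; exact this }
  have hN'p : IsPGroup 2 N' := by
    rintro ⟨y, hy, hy'⟩
    have hc : Commute C.t (y : G) := (t_comm C y).symm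
    have : ∃ k, (y : G) ^ 2 ^ (k + 1) = 1 := by
      rcases hy' with hy' | hy'
      · obtain ⟨k, hk⟩ := hN ⟨_, hy'⟩
        have hk' : (y : G) ^ 2 ^ k = 1 := congrArg Subtype.val hk
        exact ⟨k, by rw [pow_succ 2, pow_mul, hk', one_pow]⟩
      · obtain ⟨k, hk⟩ := hN ⟨_, hy'⟩
        have hk' : (C.t * (y : G)) ^ 2 ^ k = 1 := congrArg Subtype.val hk
        refine ⟨k, ?_⟩
        have h1 : (C.t * (y : G)) ^ 2 ^ (k + 1) = 1 := by rw [pow_succ 2, pow_mul, hk', one_pow]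
        rw [hc.mul_pow] at h1
        have h2 : C.t ^ 2 ^ (k + 1) = 1 := by
          rw [pow_succ 2, mul_comm, pow_mul, pow_two, C.tt, one_pow]
        rwa [h2, one_mul] at h1
    obtain ⟨k, hk⟩ := this
    exact ⟨k + 1, Subtype.ext (Subtype.ext hk)⟩
  obtain ⟨u, hu, hu0, hfix⟩ := exists_fixed_quot hN'p (C.S.ρ.comp N'.subtype) ⊥ (pl v w)
    (by
      rw [bot_lt_iff_ne_bot]
      intro h1
      have := left_mem_pl v w
      rw [h1, Submodule.mem_bot] at this
      exact h.hv this)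
    (fun s x hx => by
      rw [Submodule.mem_bot] at hx ⊢
      rw [hx]; exact map_zero _)
    (fun s x hx => (s.2.1 x).2 hx)
  have hu0' : u ≠ 0 := fun h1 => hu0 (by rw [h1]; exact zero_mem _)
  have hfix' : ∀ y ∈ N', C.S.ρ y u = u := by
    intro y hy
    have := hfix ⟨y, hy⟩
    rw [Submodule.mem_bot] at this
    exact eq_of_add _ _ this
  have hx0N : x0 ∈ N' := by
    refine ⟨hx0, ?_⟩
    rcases hxx with rfl | rfl
    · left; exact hx
    · right; exact hx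
  intro u' hu'
  by_cases h0 : u' = 0
  · rw [h0, map_zero]
  by_cases h1 : u' = u
  · rw [h1]; exact hfix' x0 hx0N
  have hul : u' ∉ ln u := notMem_ln h0 h1
  obtain ⟨m, hm, hmu, -⟩ := exists_swap C.S hu0' hul (h.ti hu u' hu')
  rw [h.pl_eq_of_mem hu hu' hu0' hul] at hm
  have h2 : m⁻¹ * x0 * m ∈ N' := by
    have hmi : m⁻¹ ∈ PU C.S (pl v w) := inv_mem hm
    refine ⟨mul_mem (mul_mem hmi hx0) hm, ?_⟩
    rcases hx0N.2 with h3 | h3
    · left
      have := hNn _ hmi _ h3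
      change (m : G)⁻¹ * x0 * ((m : G)⁻¹)⁻¹ ∈ N at this
      rw [inv_inv] at this
      exact this
    · right
      have := hNn _ hmi _ h3
      change (m : G)⁻¹ * (C.t * x0) * ((m : G)⁻¹)⁻¹ ∈ N at this
      rw [inv_inv] at this
      have e1 : (m : G)⁻¹ * (C.t * x0) * m = C.t * ((m : G)⁻¹ * x0 * m) := by
        have := t_comm C m⁻¹
        have h4 : (m : G)⁻¹ * C.t = C.t * (m : G)⁻¹ := this
        rw [← mul_assoc, h4]; group
      rw [e1] at this
      exact this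
  have h3 := hfix' _ h2
  rw [C.S.ρ_mul, C.S.ρ_mul, hmu] at h3
  have h4 := congrArg (C.S.ρ m) h3
  rwa [C.S.ρ_apply_inv, hmu] at h4

theorem qv_mem_QF (h : IsLn C.S v w) (H : Nrm C (pl v w) (q C.S v w 0) g) {x : V} (hx : x ∈ perp C.S (pl v w))
    (e : ZMod 2) : q C.S v x e ∈ H.QF := by
  have hfinV := C.finV
  have h256 := C.cardV
  -- vectors outside the line
  have h1 : ∀ y ∈ perp C.S (pl v w), y ∉ pl v w → q C.S v y 1 ∈ H.QF := by
    intro y hy hyl
    obtain ⟨u, hu, huy⟩ := sep C.S hyl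
    have hu' := (mem_perp_pl C.S).1 hu
    have hy' := (mem_perp_pl C.S).1 hy
    have h2 := H.commutator_mem_QF h.ti (triv_pl h) (h.qv_mem hu 0) (τ_mem_PU C.S hy)
    rw [q_inv C.S hu'.1, C.S.τ_inv] at h2
    have h3 : q C.S v u 0 * (C.S.τ y * q C.S v u 0 * C.S.τ y) = q C.S v y 1 := by
      have := q_comm_τ C.S hy'.1 hu'.1 (0 : ZMod 2)
      rw [huy, one_smul] at this
      rw [← this]; simp only [mul_assoc]
    rwa [h3] at h2
  obtain ⟨y, hy, hyl⟩ := room C.S h256 (A := pl v w) (A' := pl v w) (by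
    have := finrank_pl_le v w; omega)
  obtain ⟨y', hy', hyl'⟩ := room C.S h256 (A := pl v w ⊔ ln y) (A' := pl v w ⊔ ln y) (by
    have := finrank_pl_le v w
    have := finrank_sup_ln_le (pl v w) y
    omega)
  rw [mem_perp_sup, mem_perp_ln] at hy'
  have hyl'' : y' ∉ pl v w := fun h2 => hyl' (Submodule.mem_sup_left h2)
  have hyy : y + y' ∉ pl v w := fun h2 => hyl' (mem_sup_ln.2 (Or.inr (by rw [add_comm]; exact h2)))
  have hyv := ((mem_perp_pl C.S).1 hy).1
  have hyv' := ((mem_perp_pl C.S).1 hy'.1).1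
  have h0 : q C.S v 0 1 ∈ H.QF := by
    have e1 : q C.S v 0 1 = q C.S v y 1 * q C.S v y' 1 * q C.S v (y + y') 1 := by
      rw [q_mul C.S hyv hyv', q_mul C.S (by rw [B_add, hyv, hyv', add_zero])
        (by rw [B_add, hyv, hyv', add_zero]), aa, C.S.alt, C.S.symm y y', hy'.2]
      have : (1 : ZMod 2) + 1 + 0 + 1 + 0 = 1 := by decide
      rw [this]
    rw [e1]
    exact mul_mem (mul_mem (h1 y hy hyl) (h1 y' hy'.1 hyl'')) (h1 _ (add_mem hy hy'.1) hyy)
  have h0' : ∀ f : ZMod 2, q C.S v 0 f ∈ H.QF := by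
    intro f
    rcases z2 f with rfl | rfl
    · rw [q_zero]; exact one_mem _
    · exact h0
  have h2 : ∀ y ∈ perp C.S (pl v w), y ∉ pl v w → ∀ f : ZMod 2, q C.S v y f ∈ H.QF := by
    intro y hy hyl f
    have e1 : q C.S v y f = q C.S v y 1 * q C.S v 0 (1 + f) := by
      rw [q_mul C.S ((mem_perp_pl C.S).1 hy).1 (B_zero C.S v), map_zero]
      simp only [add_zero]
      rw [z2_add']
    rw [e1]; exact mul_mem (h1 y hy hyl) (h0' _)
  by_cases hxl : x ∈ pl v w
  · have hxv := ((mem_perp_pl C.S).1 hx).1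
    have e1 : q C.S v x e = q C.S v (x + y) e * q C.S v y 0 := by
      have hyx : C.S.B x y = 0 := by rw [C.S.symm]; exact hy x hxl
      rw [q_mul C.S (by rw [B_add, hxv, hyv, add_zero]) hyv, aab, B_add, C.S.alt, hyx]; simp
    rw [e1]
    refine mul_mem (h2 _ (add_mem hx hy) (fun h3 => hyl ?_) e) (h2 y hy hyl 0)
    have := add_mem hxl h3
    rwa [aac] at this
  · exact h2 x hx hxl e

theorem exists_QF (h : IsLn C.S v w) (H : Nrm C (pl v w) (q C.S v w 0) g) {x : C.L}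
    (hx : x ∈ QU C.S (pl v w)) : ∃ y ∈ QU C.S (pl v w), g * (x : G) * g⁻¹ = (y : G) := by
  have hfinV := C.finV
  have hv : ∀ a ∈ perp C.S (pl v w), ∀ e, q C.S v a e ∈ H.QF := fun a ha e => qv_mem_QF h H ha e
  have hw : ∀ a ∈ perp C.S (pl v w), ∀ e, q C.S w a e ∈ H.QF := by
    intro a ha e
    have H' := H.symm_pl h
    have h1 := qv_mem_QF h.symm H' (x := a) (by rw [h.pl_symm]; exact ha) e
    obtain ⟨h2, y, hy, hy'⟩ := h1
    rw [h.pl_symm] at h2 hy
    exact ⟨h2, y, hy, hy'⟩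
  obtain ⟨a, b, ha, hb, k, hk, rfl⟩ := h.mem_QU_pl hx
  obtain ⟨α, b', c, rfl⟩ := h.mem_AU_pl hk
  have h1 : q C.S v a 0 * q C.S w b 0 * (q C.S v (b' • w) α * q C.S w 0 c) ∈ H.QF :=
    mul_mem (mul_mem (hv a ha 0) (hw b hb 0)) (mul_mem
      (hv _ (Submodule.smul_mem _ _ (h.ti (right_mem_pl v w))) α) (hw 0 (zero_mem _) c))
  exact h1.2

/-- `g` normalises `A_ℓ` -/
theorem exists_AU (h : IsLn C.S v w) (H : Nrm C (pl v w) (q C.S v w 0) g) {x : C.L}
    (hx : x ∈ AU C.S (pl v w)) : ∃ y ∈ AU C.S (pl v w), g * (x : G) * g⁻¹ = (y : G) := by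
  have hfinV := C.finV
  obtain ⟨y, hy, hy'⟩ := exists_QF h H (AU_le_QU C.S h.ti hx)
  refine ⟨y, ?_, hy'⟩
  have key : ∀ r ∈ QU C.S (pl v w), y * r = r * y := by
    intro r hr
    obtain ⟨r', hr', hrr⟩ := exists_QF h H.inv hr
    rw [inv_inv] at hrr
    have h1 : x * r' = r' * x := AU_comm C.S hx (QU_le_FU C.S hr')
    have h1' : (x : G) * r' = r' * x := congrArg Subtype.val h1
    have h2 : (r : G) = g * r' * g⁻¹ := by rw [← hrr]; group
    apply Subtype.ext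
    change (y : G) * r = r * y
    rw [← hy', h2]
    calc g * x * g⁻¹ * (g * r' * g⁻¹) = g * (x * r') * g⁻¹ := by group
      _ = _ := by rw [h1']; group
  apply h.mem_AU_of_commute
  · exact key _ (AU_le_QU C.S h.ti (τ_mem_AU C.S (left_mem_pl v w)))
  · exact key _ (AU_le_QU C.S h.ti (τ_mem_AU C.S (right_mem_pl v w)))
  · intro x hx; exact key _ (h.qv_mem hx 0)
  · intro x hx; exact key _ (h.qw_mem hx 0)

end Cfsg.Agent.OddHalf.SpTwo

end

-- merged: Cfsg.Agent.OddHalf.SpTwo.ShortA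
section

/-!
# Existence of `y_ℓ` (short roots): `g` centralising `A_ℓ`
-/

set_option autoImplicit false
set_option linter.unusedSimpArgs false
set_option linter.unusedSectionVars false

open scoped commutatorElement

namespace Cfsg.Agent.OddHalf.SpTwo

open Cfsg.Agent.StandardComponent.SpTwo
open Cfsg.Agent.OddHalf.SpTwoN

variable {G V : Type*} [Group G] [AddCommGroup V] [Module (ZMod 2) V] {C : Ctx G V}
variable {v w : V} {g : G}

theorem sp_conj (_h : IsLn C.S v w) (H : Nrm C (pl v w) (q C.S v w 0) g) (e : ZMod 2) :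
    g * (q C.S v (e • w) 0 : C.L) * g⁻¹ = (q C.S v (e • w) 0 : C.L) := by
  rcases z2 e with rfl | rfl
  · rw [zero_smul, q_zero]
    change g * (1 : G) * g⁻¹ = 1
    group
  · rw [one_smul]; exact H.hz

/-- the image of `τ a` -/
theorem exists_τ_image (h : IsLn C.S v w) (H : Nrm C (pl v w) (q C.S v w 0) g) {a : V} (ha : a ∈ pl v w)
    (ha0 : a ≠ 0) : ∃ b ∈ pl v w, b ≠ 0 ∧ ∃ e : ZMod 2,
      g * C.b a * g⁻¹ = ((C.S.τ b * q C.S v (e • w) 0 : C.L) : G) := by
  have hfinV := C.finV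
  obtain ⟨y, hy, hy'⟩ := exists_AU h H (τ_mem_AU C.S ha)
  rcases h.AU_cases hy with ⟨e, rfl⟩ | ⟨b, hb, hb0, e, rfl⟩
  · exfalso
    have h1 := hy'.trans (sp_conj h H e).symm
    have h2 : ((C.S.τ a : C.L) : G) = (q C.S v (e • w) 0 : C.L) :=
      mul_left_cancel (mul_right_cancel h1)
    have h3 : C.S.τ a = q C.S v (e • w) 0 := Subtype.ext h2
    rcases z2 e with rfl | rfl
    · rw [zero_smul, q_zero] at h3
      exact ha0 (C.S.τ_eq_one h3)
    · rw [one_smul] at h3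
      -- `τ a = s`: write `s = q a b 0 = τ a τ b τ (a+b)`
      obtain ⟨b, hb, hab⟩ : ∃ b ∈ pl v w, b ∉ ln a := by
        by_cases h4 : v ∈ ln a
        · refine ⟨w, right_mem_pl v w, fun h5 => ?_⟩
          rcases mem_ln.1 h4 with h4 | h4
          · exact h.hv h4
          · rw [← h4] at h5; exact h.hw h5
        · exact ⟨v, left_mem_pl v w, h4⟩
      have h4 := h.ττ ha hb ha0 hab
      rw [← h3] at h4
      have h5 : C.S.τ (a + b) * C.S.τ a = C.S.τ a * C.S.τ (a + b) := C.S.τ_commute (by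
        rw [B_add, C.S.alt, h.ti hb a ha, add_zero])
      rw [h5] at h4
      have h6 := C.S.τ_injective (mul_left_cancel h4)
      exact ha0 (add_eq_right.1 h6.symm)
  · exact ⟨b, hb, hb0, e, hy'⟩

/-- `g` centralises `A_ℓ` -/
structure NrmA (C : Ctx G V) (v w : V) (g : G) : Prop where
  ln : IsLn C.S v w
  nrm : Nrm C (pl v w) (q C.S v w 0) g
  cv : g * C.b v * g⁻¹ = C.b v
  cw : g * C.b w * g⁻¹ = C.b w

theorem exists_NrmA (h : IsLn C.S v w) (H : Nrm C (pl v w) (q C.S v w 0) g) : ∃ g', NrmA C v w g' := by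
  have hfinV := C.finV
  obtain ⟨a, ha, ha0, e1, he1⟩ := exists_τ_image h H (left_mem_pl v w) h.hv
  obtain ⟨b, hb, hb0, e2, he2⟩ := exists_τ_image h H (right_mem_pl v w) h.hw0
  have hsq : ∀ f : ZMod 2, q C.S v (f • w) 0 * q C.S v (f • w) 0 = 1 := by
    intro f
    rw [h.sp_add, z2_add, zero_smul, q_zero]
  -- `a ≠ b`
  have hab : b ∉ ln a := by
    apply notMem_ln hb0
    intro h1
    rw [h1] at he2
    have h2 : g * (C.S.τ v * C.S.τ w : C.L) * g⁻¹ = ((q C.S v ((e1 + e2) • w) 0 : C.L) : G) := by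
      have e3 : (C.S.τ a * q C.S v (e1 • w) 0) * (C.S.τ a * q C.S v (e2 • w) 0) = q C.S v ((e1 + e2) • w) 0 := by
        have hc : q C.S v (e1 • w) 0 * C.S.τ a = C.S.τ a * q C.S v (e1 • w) 0 :=
          AU_comm C.S (h.sp_mem e1) (QU_le_FU C.S (AU_le_QU C.S h.ti (τ_mem_AU C.S ha)))
        calc (C.S.τ a * q C.S v (e1 • w) 0) * (C.S.τ a * q C.S v (e2 • w) 0) =
            C.S.τ a * (q C.S v (e1 • w) 0 * C.S.τ a) * q C.S v (e2 • w) 0 := by simp only [mul_assoc]
          _ = (C.S.τ a * C.S.τ a) * (q C.S v (e1 • w) 0 * q C.S v (e2 • w) 0) := by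
              rw [hc]; simp only [mul_assoc]
          _ = _ := by rw [C.S.τ_sq, one_mul, h.sp_add]
      rw [← e3]
      change g * (C.b v * C.b w) * g⁻¹ = ((C.S.τ a * q C.S v (e1 • w) 0 : C.L) : G) *
        ((C.S.τ a * q C.S v (e2 • w) 0 : C.L) : G)
      rw [← he1, ← he2]; group
    rw [← sp_conj h H (e1 + e2)] at h2
    have h3 := mul_left_cancel (mul_right_cancel h2)
    have h4 : C.S.τ v * C.S.τ w = q C.S v ((e1 + e2) • w) 0 := Subtype.ext h3
    rw [h.ττ (left_mem_pl v w) (right_mem_pl v w) h.hv h.hw, ← h.sp_one] at h4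
    have h5 : C.S.τ (v + w) = q C.S v ((e1 + e2 + 1) • w) 0 := by
      rw [← h.sp_add, ← h4, mul_assoc, hsq, mul_one]
    have h6 := exists_τ_image h H (add_mem (left_mem_pl v w) (right_mem_pl v w)) h.add_ne
    obtain ⟨c, hc, hc0, e3, he3⟩ := h6
    have h7 : C.b (v + w) = (q C.S v ((e1 + e2 + 1) • w) 0 : C.L) := congrArg Subtype.val h5
    rw [h7, sp_conj h H] at he3
    have h8 : q C.S v ((e1 + e2 + 1) • w) 0 = C.S.τ c * q C.S v (e3 • w) 0 := Subtype.ext he3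
    have h9 : C.S.τ c * q C.S v (e3 • w) 0 = C.S.τ (v + w) * q C.S v ((0 : ZMod 2) • w) 0 := by
      rw [← h8, h5, h.sp_add, add_zero]
    have h10 := h.τ_sp_inj hc (add_mem (left_mem_pl v w) (right_mem_pl v w)) hc0 h.add_ne h9
    -- then `τ (v+w)` is a power of `s`
    have h11 : C.S.τ v * q C.S v ((0 : ZMod 2) • w) 0 = C.S.τ w * q C.S v ((e1 + e2) • w) 0 := by
      rw [zero_smul, q_zero, mul_one]
      have : C.S.τ v = C.S.τ w * (C.S.τ v * C.S.τ w) := by
        have hcm : C.S.τ v * C.S.τ w = C.S.τ w * C.S.τ v := C.S.τ_commute h.hvw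
        rw [hcm, ← mul_assoc, C.S.τ_sq, one_mul]
      rw [this, h.ττ (left_mem_pl v w) (right_mem_pl v w) h.hv h.hw, ← h.sp_one, h4]
    have h12 := h.τ_sp_inj (left_mem_pl v w) (right_mem_pl v w) h.hv h.hw0 h11
    exact h.hw (by rw [← h12.1]; exact self_mem_ln v)
  -- adjust
  obtain ⟨m, hmv, hmw⟩ := trans_pl C.S h.hv h.hw h.hvw ha0 hab (h.ti ha b hb)
  have hmP : m ∈ PU C.S (pl v w) := mem_PU_pl C.S (by rw [hmv]; exact ha) (by rw [hmw]; exact hb)
  have hmi : m⁻¹ ∈ PU C.S (pl v w) := inv_mem hmP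
  have H1 : Nrm C (pl v w) (q C.S v w 0) ((m : G)⁻¹ * g) := H.mul_left hmi
  have hms : ∀ f : ZMod 2, m * q C.S v (f • w) 0 = q C.S v (f • w) 0 * m := by
    intro f
    rcases z2 f with rfl | rfl
    · rw [zero_smul, q_zero, mul_one, one_mul]
    · rw [one_smul]; exact (H.cz m).2 hmP
  have himg : ∀ (x y : V) (f : ZMod 2), g * C.b x * g⁻¹ = ((C.S.τ y * q C.S v (f • w) 0 : C.L) : G) →
      C.S.ρ m x = y → ((m : G)⁻¹ * g) * C.b x * ((m : G)⁻¹ * g)⁻¹ = ((C.S.τ x * q C.S v (f • w) 0 : C.L) : G) := by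
    intro x y f h1 h2
    have h3 : m⁻¹ * (C.S.τ y * q C.S v (f • w) 0) * m = C.S.τ x * q C.S v (f • w) 0 := by
      have h4 : m⁻¹ * C.S.τ y * m = C.S.τ x := by
        rw [← h2, ← C.S.conj_τ]; group
      calc m⁻¹ * (C.S.τ y * q C.S v (f • w) 0) * m = m⁻¹ * C.S.τ y * (q C.S v (f • w) 0 * m) := by
            simp only [mul_assoc]
        _ = m⁻¹ * C.S.τ y * m * q C.S v (f • w) 0 := by rw [← hms]; simp only [mul_assoc]
        _ = _ := by rw [h4]
    rw [← h3]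
    change _ = (m : G)⁻¹ * ((C.S.τ y * q C.S v (f • w) 0 : C.L) : G) * m
    rw [← h1]; group
  have i1 := himg v a e1 he1 hmv
  have i2 := himg w b e2 he2 hmw
  -- the image of `τ (v+w)`
  have hcs : ∀ (a b : V) (f f' : ZMod 2), a ∈ pl v w → b ∈ pl v w →
      (C.S.τ a * q C.S v (f • w) 0) * (C.S.τ b * q C.S v (f' • w) 0) =
        C.S.τ a * C.S.τ b * q C.S v ((f + f') • w) 0 := by
    intro a b f f' ha hb
    have hc : q C.S v (f • w) 0 * C.S.τ b = C.S.τ b * q C.S v (f • w) 0 :=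
      AU_comm C.S (h.sp_mem f) (QU_le_FU C.S (AU_le_QU C.S h.ti (τ_mem_AU C.S hb)))
    calc (C.S.τ a * q C.S v (f • w) 0) * (C.S.τ b * q C.S v (f' • w) 0) =
        C.S.τ a * (q C.S v (f • w) 0 * C.S.τ b) * q C.S v (f' • w) 0 := by simp only [mul_assoc]
      _ = C.S.τ a * C.S.τ b * (q C.S v (f • w) 0 * q C.S v (f' • w) 0) := by rw [hc]; simp only [mul_assoc]
      _ = _ := by rw [h.sp_add]
  set k := (m : G)⁻¹ * g with hk
  have hs1 := sp_conj h H1 1
  have i3 : k * C.b (v + w) * k⁻¹ = ((C.S.τ (v + w) * q C.S v ((e1 + e2) • w) 0 : C.L) : G) := by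
    have e3 : C.S.τ (v + w) = C.S.τ v * C.S.τ w * q C.S v ((1 : ZMod 2) • w) 0 := by
      rw [h.ττ (left_mem_pl v w) (right_mem_pl v w) h.hv h.hw, h.sp_one, mul_assoc,
        q_sq C.S h.hwv, mul_one]
    have e4 : C.S.τ (v + w) * q C.S v ((e1 + e2) • w) 0 =
        (C.S.τ v * q C.S v (e1 • w) 0) * (C.S.τ w * q C.S v (e2 • w) 0) * q C.S v ((1 : ZMod 2) • w) 0 := by
      rw [hcs v w e1 e2 (left_mem_pl v w) (right_mem_pl v w), e3]
      have hc : q C.S v ((1 : ZMod 2) • w) 0 * q C.S v ((e1 + e2) • w) 0 =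
          q C.S v ((e1 + e2) • w) 0 * q C.S v ((1 : ZMod 2) • w) 0 := by
        rw [h.sp_add, h.sp_add, add_comm]
      rw [mul_assoc _ (q C.S v ((1 : ZMod 2) • w) 0), hc, ← mul_assoc]
    have e5 : C.b (v + w) = C.b v * C.b w * (q C.S v ((1 : ZMod 2) • w) 0 : C.L) := congrArg Subtype.val e3
    rw [e4, e5]
    change k * (C.b v * C.b w * (q C.S v ((1 : ZMod 2) • w) 0 : C.L)) * k⁻¹ =
      ((C.S.τ v * q C.S v (e1 • w) 0 : C.L) : G) * ((C.S.τ w * q C.S v (e2 • w) 0 : C.L) : G) *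
        ((q C.S v ((1 : ZMod 2) • w) 0 : C.L) : G)
    rw [← i1, ← i2, ← hs1]
    have : k⁻¹ * (k * ((q C.S v ((1 : ZMod 2) • w) 0 : C.L) : G) * k⁻¹) * k =
      ((q C.S v ((1 : ZMod 2) • w) 0 : C.L) : G) := by group
    rw [hs1] at this
    rw [hs1]
    calc k * (C.b v * C.b w * (q C.S v ((1 : ZMod 2) • w) 0 : C.L)) * k⁻¹ =
        k * C.b v * k⁻¹ * (k * C.b w * k⁻¹) * (k * (q C.S v ((1 : ZMod 2) • w) 0 : C.L) * k⁻¹) := by group
      _ = _ := by rw [hs1]
  -- equivariance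
  have heq : ∀ b ∈ pl v w, b ∉ ln v → ∀ f : ZMod 2,
      k * C.b b * k⁻¹ = ((C.S.τ b * q C.S v (f • w) 0 : C.L) : G) → f = e1 := by
    intro b hb hbl f hf
    obtain ⟨n, hn, hnv, hnb⟩ := exists_swap C.S h.hv hbl (h.ti (left_mem_pl v w) b hb)
    rw [h.pl_eq_of_mem (left_mem_pl v w) hb h.hv hbl] at hn
    obtain ⟨n', hn', hnn⟩ := H1.exists_PU hn
    have h1 := conj_lift C hnn (C.S.τ v * q C.S v (e1 • w) 0)
    rw [← i1] at h1
    have h2 : k * (n : G) * k⁻¹ * (k * C.b v * k⁻¹) * (k * (n : G) * k⁻¹)⁻¹ = k * C.b b * k⁻¹ := by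
      have h3 : (n : G) * C.b v * (n : G)⁻¹ = C.b b := by rw [C.b_conj, hnv]
      rw [← h3]; group
    rw [h2, hf] at h1
    have h3 : C.S.τ b * q C.S v (f • w) 0 = n' * (C.S.τ v * q C.S v (e1 • w) 0) * n'⁻¹ := Subtype.ext h1
    have h4 : n' * (C.S.τ v * q C.S v (e1 • w) 0) * n'⁻¹ = C.S.τ (C.S.ρ n' v) * q C.S v (e1 • w) 0 := by
      have h5 : n' * q C.S v (e1 • w) 0 = q C.S v (e1 • w) 0 * n' := by
        rcases z2 e1 with h6 | h6
        · rw [h6, zero_smul, q_zero, mul_one, one_mul]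
        · rw [h6, one_smul]; exact (H.cz n').2 hn'
      rw [← C.S.conj_τ]
      calc n' * (C.S.τ v * q C.S v (e1 • w) 0) * n'⁻¹ =
          n' * C.S.τ v * n'⁻¹ * (n' * q C.S v (e1 • w) 0) * n'⁻¹ := by group
        _ = _ := by rw [h5]; group
    rw [h4] at h3
    have hnv0 : C.S.ρ n' v ≠ 0 := by
      intro h5
      rw [← map_zero (C.S.ρ n')] at h5
      exact h.hv (C.S.ρ_inj n' h5)
    exact (h.τ_sp_inj hb ((hn' v).2 (left_mem_pl v w)) (ne_zero_of_notMem hbl) hnv0 h3).2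
  have f1 := heq w (right_mem_pl v w) h.hw e2 i2
  have f2 := heq (v + w) (add_mem (left_mem_pl v w) (right_mem_pl v w)) h.add_notMem (e1 + e2) i3
  have f3 : e1 = 0 := by
    rw [f1, z2_add] at f2; exact f2.symm
  rw [f1, f3] at i2
  rw [f3] at i1
  rw [zero_smul, q_zero, mul_one] at i1 i2
  exact ⟨k, h, H1, i1, i2⟩

end Cfsg.Agent.OddHalf.SpTwo

end

-- merged: Cfsg.Agent.OddHalf.SpTwo.ShortX
section

/-!
# Existence of `y_ℓ` (short roots): the action on `Q_ℓ / A_ℓ`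

If `g` centralises `A_ℓ` then `g s_{λ,x} g⁻¹ ∈ s_{λ,f x} A_ℓ` with an isometry `f` of `ℓ^⊥/ℓ`.
-/

set_option autoImplicit false
set_option linter.unusedSimpArgs false
set_option linter.unusedSectionVars false

open scoped commutatorElement

namespace Cfsg.Agent.OddHalf.SpTwo

open Cfsg.Agent.StandardComponent.SpTwo
open Cfsg.Agent.OddHalf.SpTwoN

theorem q_act {X V : Type*} [Group X] [AddCommGroup V] [Module (ZMod 2) V] (D : SpData X V) {v x z : V}
    (hx : D.B x v = 0) (hz : D.B z v = 0) (e : ZMod 2) : D.ρ (q D v x e) z = z + D.B z x • v := by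
  rw [q_apply D hx, hz]; simp

variable {G V : Type*} [Group G] [AddCommGroup V] [Module (ZMod 2) V] {C : Ctx G V}
variable {v w : V} {g : G}

namespace NrmA

theorem comm_AU (hN : NrmA C v w g) {a : C.L} (ha : a ∈ AU C.S (pl v w)) : g * (a : G) * g⁻¹ = a := by
  have hfinV := C.finV
  obtain ⟨α, b, c, rfl⟩ := hN.ln.mem_AU_pl ha
  have h1 : C.S.B (b • w) v = 0 := by rw [map_smul, LinearMap.smul_apply, hN.ln.hwv, smul_zero]
  have h2 : q C.S v (b • w) α = q C.S v 0 α * q C.S v (b • w) 0 := by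
    rw [q_mul C.S (B_zero C.S v) h1, B_zero]; simp
  have e1 : g * (q C.S v 0 α : C.L) * g⁻¹ = (q C.S v 0 α : C.L) := by
    rcases z2 α with rfl | rfl
    · rw [q_zero]
      change g * (1 : G) * g⁻¹ = 1
      group
    · rw [q_zero_one]; exact hN.cv
  have e2 : g * (q C.S w 0 c : C.L) * g⁻¹ = (q C.S w 0 c : C.L) := by
    rcases z2 c with rfl | rfl
    · rw [q_zero]
      change g * (1 : G) * g⁻¹ = 1
      group
    · rw [q_zero_one]; exact hN.cw
  have e3 := sp_conj hN.ln hN.nrm b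
  rw [h2]
  change g * (((q C.S v 0 α : C.L) : G) * (q C.S v (b • w) 0 : C.L) * (q C.S w 0 c : C.L)) * g⁻¹ =
    ((q C.S v 0 α : C.L) : G) * (q C.S v (b • w) 0 : C.L) * (q C.S w 0 c : C.L)
  calc g * (((q C.S v 0 α : C.L) : G) * (q C.S v (b • w) 0 : C.L) * (q C.S w 0 c : C.L)) * g⁻¹ =
      (g * (q C.S v 0 α : C.L) * g⁻¹) * (g * (q C.S v (b • w) 0 : C.L) * g⁻¹) *
        (g * (q C.S w 0 c : C.L) * g⁻¹) := by group
    _ = _ := by rw [e1, e2, e3]

theorem comm_b (hN : NrmA C v w g) {a : V} (ha : a ∈ pl v w) : g * C.b a * g⁻¹ = C.b a :=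
  hN.comm_AU (τ_mem_AU C.S ha)

theorem symm (hN : NrmA C v w g) : NrmA C w v g :=
  ⟨hN.ln.symm, hN.nrm.symm_pl hN.ln, hN.cw, hN.cv⟩

theorem of_mem (hN : NrmA C v w g) {a b : V} (ha : a ∈ pl v w) (hb : b ∈ pl v w) (ha0 : a ≠ 0)
    (hab : b ∉ SpTwo.ln a) : NrmA C a b g :=
  ⟨hN.ln.of_mem ha hb ha0 hab, hN.nrm.of_mem_pl hN.ln ha hb ha0 hab, hN.comm_b ha, hN.comm_b hb⟩

theorem inv (hN : NrmA C v w g) : NrmA C v w g⁻¹ := by
  refine ⟨hN.ln, hN.nrm.inv, ?_, ?_⟩
  · rw [inv_inv]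
    calc g⁻¹ * C.b v * g = g⁻¹ * (g * C.b v * g⁻¹) * g := by rw [hN.cv]
      _ = _ := by group
  · rw [inv_inv]
    calc g⁻¹ * C.b w * g = g⁻¹ * (g * C.b w * g⁻¹) * g := by rw [hN.cw]
      _ = _ := by group

/-- the image of an element of the stabilizer acts on the line in the same way -/
theorem exists_PU (hN : NrmA C v w g) {m : C.L} (hm : m ∈ PU C.S (pl v w)) :
    ∃ k ∈ PU C.S (pl v w), (g * (m : G) * g⁻¹ = (k : G) ∨ g * (m : G) * g⁻¹ = C.t * (k : G)) ∧
      ∀ u ∈ pl v w, C.S.ρ k u = C.S.ρ m u := by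
  obtain ⟨k, hk, hk'⟩ := hN.nrm.exists_PU hm
  refine ⟨k, hk, hk', fun u hu => ?_⟩
  have h1 := conj_lift C hk' (C.S.τ u)
  have h2 : g * (m : G) * g⁻¹ * ((C.S.τ u : C.L) : G) * (g * (m : G) * g⁻¹)⁻¹ = (C.S.τ (C.S.ρ m u) : C.L) := by
    have e1 := hN.inv.comm_b hu
    rw [inv_inv] at e1
    have e2 := hN.comm_b ((hm u).2 hu)
    have e3 := C.b_conj m u
    calc g * (m : G) * g⁻¹ * C.b u * (g * (m : G) * g⁻¹)⁻¹ = g * (m * (g⁻¹ * C.b u * g) * (m : G)⁻¹) * g⁻¹ := by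
          group
      _ = _ := by rw [e1, e3, e2]; rfl
  rw [h2, C.S.conj_τ] at h1
  exact (C.S.τ_injective (Subtype.ext h1)).symm

/-- `g` normalises `X_v = {q v x e} A_ℓ` -/
theorem exists_X (hN : NrmA C v w g) {x : V} (hx : x ∈ perp C.S (pl v w)) :
    ∃ x' ∈ perp C.S (pl v w), ∃ a ∈ AU C.S (pl v w),
      g * (q C.S v x 0 : C.L) * g⁻¹ = ((q C.S v x' 0 * a : C.L) : G) := by
  have hfinV := C.finV
  have h := hN.ln
  have hx' := (mem_perp_pl C.S).1 hx
  obtain ⟨p, hp, hp'⟩ := exists_QF h hN.nrm (h.qv_mem hx 0)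
  by_cases hX : ∀ z ∈ perp C.S (pl v w), C.S.ρ p z + z ∈ SpTwo.ln v
  · obtain ⟨x', hx', a, ha, rfl⟩ := h.XU_struct hp hX
    exact ⟨x', hx', a, ha, hp'⟩
  exfalso
  have hX' := hX
  push Not at hX'
  obtain ⟨z0, hz0, hz0'⟩ := hX'
  have hxl : x ∉ pl v w := by
    intro hxl
    have h1 := hN.comm_AU (h.q_mem_AU hxl 0)
    have h2 : p = q C.S v x 0 := Subtype.ext (hp'.symm.trans h1)
    rw [h2, h.q_mem_AU hxl 0 z0 hz0, aa] at hz0'
    exact hz0' (zero_mem _)
  -- the element `m`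
  obtain ⟨u, hu, huw⟩ := sep C.S h.hw
  rw [mem_perp_ln] at hu
  have hvu : C.S.B v u = 0 := by rw [C.S.symm]; exact hu
  set m : C.L := q C.S v u 0 with hmdef
  have hmv : C.S.ρ m v = v := by rw [hmdef, q_apply C.S hu, hvu, C.S.alt]; simp
  have hmw : C.S.ρ m w = w + v := by rw [hmdef, q_apply C.S hu, h.hwv, C.S.symm w u, huw]; simp
  have hmm : m * m = 1 := q_sq C.S hu 0
  have hminv : m⁻¹ = m := q_inv C.S hu 0
  have hmP : m ∈ PU C.S (pl v w) := mem_PU_pl C.S (by rw [hmv]; exact left_mem_pl v w)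
    (by rw [hmw]; exact add_mem (right_mem_pl v w) (left_mem_pl v w))
  have hmz : ∀ z ∈ perp C.S (pl v w), C.S.ρ m z + z ∈ SpTwo.ln v := by
    intro z hz
    rw [hmdef, q_act C.S hu ((mem_perp_pl C.S).1 hz).1]
    have : z + C.S.B z u • v + z = C.S.B z u • v + (z + z) := by abel
    rw [this, aa, add_zero]
    exact Submodule.smul_mem _ _ (self_mem_ln v)
  obtain ⟨m0, hm0, hm0', hm0u⟩ := hN.inv.exists_PU hmP
  rw [inv_inv] at hm0'
  have hm0v : C.S.ρ m0 v = v := by rw [hm0u v (left_mem_pl v w), hmv]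
  set p1 := p * (m * p⁻¹ * m⁻¹) with hp1def
  have hp1 : p1 ∈ QU C.S (pl v w) := mul_mem hp (QU_conj C.S hmP (inv_mem hp))
  set x1 := x + C.S.ρ m0 x with hx1def
  have hm0x : C.S.ρ m0 x ∈ perp C.S (pl v w) := PU_perp C.S hm0 hx
  have hx1 : x1 ∈ perp C.S (pl v w) := add_mem hx hm0x
  have hx1' := (mem_perp_pl C.S).1 hx1
  set e1 := C.S.B x (C.S.ρ m0 x) with he1
  have hr : q C.S v x 0 * (m0 * (q C.S v x 0)⁻¹ * m0⁻¹) = q C.S v x1 e1 := by
    rw [q_inv C.S hx'.1, q_conj, hm0v, q_mul C.S hx'.1 ((mem_perp_pl C.S).1 hm0x).1]; simp [hx1def, he1]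
  have hΦr : g * (q C.S v x1 e1 : C.L) * g⁻¹ = (p1 : G) := by
    rw [← hr]
    have h1 := conj_lift C hm0' (q C.S v x 0)⁻¹
    change g * (((q C.S v x 0 : C.L) : G) * ((m0 * (q C.S v x 0)⁻¹ * m0⁻¹ : C.L) : G)) * g⁻¹ =
      (p : G) * ((m : G) * (p : G)⁻¹ * (m : G)⁻¹)
    rw [← h1, ← hp']
    change g * (((q C.S v x 0 : C.L) : G) * (g⁻¹ * (m : G) * g * ((q C.S v x 0 : C.L) : G)⁻¹ *
      (g⁻¹ * (m : G) * g)⁻¹)) * g⁻¹ = _
    group
  have hact : ∀ z ∈ perp C.S (pl v w), C.S.ρ p1 z + z = (C.S.ρ p z + z) + C.S.ρ m (C.S.ρ p z + z) := by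
    intro z hz
    set l := C.S.ρ p z + z with hl
    have hll : l ∈ pl v w := hp.2 z hz
    have hpz : C.S.ρ p z = z + l := by rw [hl, add_comm (C.S.ρ p z), aac]
    have hpiz : C.S.ρ p⁻¹ z = z + l := by
      have h1 : C.S.ρ p (z + l) = z := by
        rw [map_add, hpz, hp.1 l hll, aab]
      have h2 := congrArg (C.S.ρ p⁻¹) h1
      rw [C.S.ρ_inv_apply] at h2
      exact h2.symm
    set μ := C.S.ρ m z + z with hμ
    have hμl : μ ∈ pl v w := by rw [pl_eq]; exact Submodule.mem_sup_left (hmz z hz)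
    have hmz' : C.S.ρ m z = z + μ := by rw [hμ, add_comm (C.S.ρ m z), aac]
    have hmμ : C.S.ρ m μ = μ := by
      rcases mem_ln.1 (hmz z hz) with h1 | h1 <;> rw [← hμ] at h1
      · rw [h1]; exact map_zero _
      · rw [h1, hmv]
    have hpi := inv_mem hp
    have hpim : C.S.ρ p⁻¹ μ = μ := hpi.1 μ hμl
    have hml : C.S.ρ m l ∈ pl v w := (hmP l).2 hll
    have s1 : C.S.ρ p⁻¹ (C.S.ρ m z) = z + l + μ := by rw [hmz', map_add, hpiz, hpim]
    have s2 : C.S.ρ m (z + l + μ) = z + C.S.ρ m l := by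
      rw [map_add, map_add, hmz', hmμ]
      have : z + μ + C.S.ρ m l + μ = z + C.S.ρ m l + (μ + μ) := by abel
      rw [this, aa, add_zero]
    have s3 : C.S.ρ p (z + C.S.ρ m l) = z + l + C.S.ρ m l := by rw [map_add, hpz, hp.1 _ hml]
    rw [hp1def, hminv, C.S.ρ_mul, C.S.ρ_mul, C.S.ρ_mul, s1, s2, s3]
    have e0 : z + l + C.S.ρ m l + z = l + C.S.ρ m l + (z + z) := by abel
    rw [e0, aa, add_zero]
  have hlm : ∀ l ∈ pl v w, l + C.S.ρ m l ∈ SpTwo.ln v ∧ (l ∉ SpTwo.ln v → l + C.S.ρ m l = v) := by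
    intro l hl
    rcases mem_pl.1 hl with rfl | rfl | rfl | rfl
    · rw [map_zero, add_zero]
      exact ⟨zero_mem _, fun h1 => absurd (zero_mem _) h1⟩
    · rw [hmv, aa]
      exact ⟨zero_mem _, fun h1 => absurd (self_mem_ln _) h1⟩
    · rw [hmw, aac]
      exact ⟨self_mem_ln v, fun _ => rfl⟩
    · rw [map_add, hmv, hmw]
      have : v + w + (v + (w + v)) = v + (v + v) + (w + w) := by abel
      rw [this, aa, aa, add_zero, add_zero]
      exact ⟨self_mem_ln v, fun _ => rfl⟩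
  have hp1z0 : C.S.ρ p1 z0 + z0 = v := by
    rw [hact z0 hz0]
    exact (hlm _ (hp.2 z0 hz0)).2 hz0'
  have hx1l : x1 ∉ pl v w := by
    intro hx1l
    have h1 := hN.comm_AU (h.q_mem_AU hx1l e1)
    have h2 : p1 = q C.S v x1 e1 := Subtype.ext (hΦr.symm.trans h1)
    rw [h2, h.q_mem_AU hx1l e1 z0 hz0, aa] at hp1z0
    exact h.hv hp1z0.symm
  obtain ⟨k, hk, hkx⟩ := trans_perp C.S hx1l hxl hx1 hx
  have hkP : k ∈ PU C.S (pl v w) := TG_le_PU C.S hk
  have hkv : C.S.ρ k v = v := TG_fix C.S hk (left_mem_pl v w)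
  obtain ⟨k0, hk0, hk0', hk0u⟩ := hN.exists_PU hkP
  have hk0v : C.S.ρ k0 v = v := by rw [hk0u v (left_mem_pl v w), hkv]
  have h0 : g * (q C.S v 0 e1 : C.L) * g⁻¹ = (q C.S v 0 e1 : C.L) :=
    hN.comm_AU (h.q_mem_AU (zero_mem _) e1)
  have hqx : k * (q C.S v x1 e1 * q C.S v 0 e1) * k⁻¹ = q C.S v x 0 := by
    have e0 : q C.S v x1 e1 * q C.S v 0 e1 = q C.S v x1 0 := by
      rw [q_mul C.S hx1'.1 (B_zero C.S v), map_zero, add_zero, z2_add]; simp
    rw [e0, q_conj, hkv, hkx]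
  have hpk : p = k0 * (p1 * q C.S v 0 e1) * k0⁻¹ := by
    apply Subtype.ext
    rw [← hp', ← hqx]
    have h1 := conj_lift C hk0' (p1 * q C.S v 0 e1)
    rw [← h1]
    change g * ((k : G) * (((q C.S v x1 e1 : C.L) : G) * (q C.S v 0 e1 : C.L)) * (k : G)⁻¹) * g⁻¹ =
      g * (k : G) * g⁻¹ * ((p1 : G) * (q C.S v 0 e1 : C.L)) * (g * (k : G) * g⁻¹)⁻¹
    rw [← hΦr]
    calc g * ((k : G) * (((q C.S v x1 e1 : C.L) : G) * (q C.S v 0 e1 : C.L)) * (k : G)⁻¹) * g⁻¹ =
        g * (k : G) * g⁻¹ * ((g * (q C.S v x1 e1 : C.L) * g⁻¹) * (g * (q C.S v 0 e1 : C.L) * g⁻¹)) *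
          (g * (k : G) * g⁻¹)⁻¹ := by group
      _ = _ := by rw [h0]
  apply hX
  intro z hz
  have hk0i : k0⁻¹ ∈ PU C.S (pl v w) := inv_mem hk0
  set z' := C.S.ρ k0⁻¹ z with hz'
  have hz'P : z' ∈ perp C.S (pl v w) := PU_perp C.S hk0i hz
  have h1 : C.S.ρ p1 z' + z' ∈ SpTwo.ln v := by
    rw [hact z' hz'P]
    exact (hlm _ (hp.2 z' hz'P)).1
  have h2 : C.S.ρ p1 z' = z' + (C.S.ρ p1 z' + z') := by rw [add_comm (C.S.ρ p1 z'), aac]
  have h3 : C.S.ρ k0 (C.S.ρ p1 z' + z') = C.S.ρ p1 z' + z' := by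
    rcases mem_ln.1 h1 with h4 | h4
    · rw [h4]; exact map_zero _
    · rw [h4, hk0v]
  have h4 : C.S.ρ k0 z' = z := C.S.ρ_apply_inv k0 z
  have hq0 : C.S.ρ (q C.S v 0 e1) z' = z' := by
    rw [q_act C.S (B_zero C.S v) ((mem_perp_pl C.S).1 hz'P).1, map_zero, zero_smul, add_zero]
  rw [hpk, C.S.ρ_mul, C.S.ρ_mul, C.S.ρ_mul, ← hz', hq0, h2, map_add, h4, h3]
  have e0 : z + (C.S.ρ p1 z' + z') + z = (C.S.ρ p1 z' + z') + (z + z) := by abel
  rw [e0, aa, add_zero]
  exact h1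

/-- the common isometry -/
theorem exists_fx (hN : NrmA C v w g) {x : V} (hx : x ∈ perp C.S (pl v w)) :
    ∃ x' ∈ perp C.S (pl v w), (∃ a ∈ AU C.S (pl v w),
      g * (q C.S v x 0 : C.L) * g⁻¹ = ((q C.S v x' 0 * a : C.L) : G)) ∧
      ∃ a ∈ AU C.S (pl v w), g * (q C.S w x 0 : C.L) * g⁻¹ = ((q C.S w x' 0 * a : C.L) : G) := by
  have hfinV := C.finV
  have h := hN.ln
  obtain ⟨x1, hx1, a1, ha1, he1⟩ := hN.exists_X hx
  have hxs : x ∈ perp C.S (pl w v) := by rw [h.pl_symm]; exact hx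
  obtain ⟨x2, hx2, a2, ha2, he2⟩ := hN.symm.exists_X hxs
  rw [h.pl_symm] at hx2 ha2
  have hvwm : v + w ∈ pl v w := add_mem (left_mem_pl v w) (right_mem_pl v w)
  have hw3 : w ∉ SpTwo.ln (v + w) := by
    intro h1
    rcases mem_ln.1 h1 with h1 | h1
    · exact h.hw0 h1
    · exact h.hv (add_eq_right.1 h1.symm)
  have hpl3 := h.pl_eq_of_mem hvwm (right_mem_pl v w) h.add_ne hw3
  obtain ⟨x3, hx3, a3, ha3, he3⟩ := (hN.of_mem hvwm (right_mem_pl v w) h.add_ne hw3).exists_X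
    (x := x) (by rw [hpl3]; exact hx)
  rw [hpl3] at hx3 ha3
  rw [h.q_add hx] at he3
  have he : q C.S v x1 0 * a1 * (q C.S w x2 0 * a2) = q C.S v x3 0 * q C.S w x3 0 * a3 := by
    rw [← h.q_add hx3]
    apply Subtype.ext
    rw [← he3]
    change ((q C.S v x1 0 * a1 : C.L) : G) * ((q C.S w x2 0 * a2 : C.L) : G) =
      g * (((q C.S v x 0 : C.L) : G) * (q C.S w x 0 : C.L)) * g⁻¹
    rw [← he1, ← he2]; group
  have hx1' := (mem_perp_pl C.S).1 hx1
  have hx2' := (mem_perp_pl C.S).1 hx2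
  have hx3' := (mem_perp_pl C.S).1 hx3
  have hwx1 : C.S.B w x1 = 0 := by rw [C.S.symm]; exact hx1'.2
  have hwx3 : C.S.B w x3 = 0 := by rw [C.S.symm]; exact hx3'.2
  have key : ∀ z ∈ perp C.S (pl v w), C.S.B z x1 • v + C.S.B z x2 • w = C.S.B z x3 • v + C.S.B z x3 • w := by
    intro z hz
    have hz' := (mem_perp_pl C.S).1 hz
    have h1 := (ρ_eq C.S).1 he z
    have e1 : C.S.ρ a1 (z + C.S.B z x2 • w) = z + C.S.B z x2 • w :=
      ha1 _ (add_mem hz (Submodule.smul_mem _ _ (h.ti (right_mem_pl v w))))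
    rw [C.S.ρ_mul, C.S.ρ_mul, C.S.ρ_mul, C.S.ρ_mul, C.S.ρ_mul, ha2 z hz, ha3 z hz, q_act C.S hx2'.2 hz'.2,
      q_act C.S hx3'.2 hz'.2, e1, q_act C.S hx1'.1 (by rw [B_add, hz'.1, map_smul, LinearMap.smul_apply,
        h.hwv, smul_zero, add_zero]), q_act C.S hx3'.1 (by rw [B_add, hz'.1, map_smul, LinearMap.smul_apply,
        h.hwv, smul_zero, add_zero])] at h1
    simp only [B_add, map_smul, LinearMap.smul_apply, hwx1, hwx3, smul_zero, add_zero] at h1
    rw [add_assoc, add_assoc] at h1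
    have h2 := add_left_cancel h1
    rw [add_comm, h2, add_comm]
  have hind : ∀ a b c d : ZMod 2, a • v + b • w = c • v + d • w → a = c ∧ b = d := by
    intro a b c d h1
    obtain ⟨v', w', d1, d2, d3, d4⟩ := h.exists_dual
    have k1 := congrArg (fun z => C.S.B v' z) h1
    have k2 := congrArg (fun z => C.S.B w' z) h1
    simp only [map_add, map_smul, d1, d2, d3, d4, smul_eq_mul, mul_one, mul_zero, add_zero, zero_add] at k1 k2
    exact ⟨k1, k2⟩
  have h12 : x2 + x1 ∈ pl v w := by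
    apply mem_of_perp C.S
    intro z hz
    obtain ⟨h1, h2⟩ := hind _ _ _ _ (key z hz)
    rw [map_add, h1, h2, z2_add]
  have h12' : x2 + x1 ∈ pl w v := by rw [h.pl_symm]; exact h12
  obtain ⟨a, ha, hax⟩ := h.symm.q_mod (x := x1) (x' := x2) (by rw [h.pl_symm]; exact hx1)
    (by rw [add_comm]; exact h12') 0
  rw [h.pl_symm] at ha
  refine ⟨x1, hx1, ⟨a1, ha1, he1⟩, a * a2, mul_mem ha ha2, ?_⟩
  rw [he2, hax, mul_assoc]

theorem exists_p (hN : NrmA C v w g) : ∃ p ∈ TG C.S (perp C.S (pl v w) : Set V),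
    ∀ x ∈ perp C.S (pl v w), (∃ a ∈ AU C.S (pl v w),
      ((p : G)⁻¹ * g) * (q C.S v x 0 : C.L) * ((p : G)⁻¹ * g)⁻¹ = ((q C.S v x 0 * a : C.L) : G)) ∧
      ∃ a ∈ AU C.S (pl v w),
        ((p : G)⁻¹ * g) * (q C.S w x 0 : C.L) * ((p : G)⁻¹ * g)⁻¹ = ((q C.S w x 0 * a : C.L) : G) := by
  have hfinV := C.finV
  have h := hN.ln
  have h0 : ∀ x, x ∈ perp C.S (pl v w) → ∃ x', x' ∈ perp C.S (pl v w) ∧ (∃ a ∈ AU C.S (pl v w),
      g * (q C.S v x 0 : C.L) * g⁻¹ = ((q C.S v x' 0 * a : C.L) : G)) ∧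
      ∃ a ∈ AU C.S (pl v w), g * (q C.S w x 0 : C.L) * g⁻¹ = ((q C.S w x' 0 * a : C.L) : G) := by
    intro x hx
    obtain ⟨x', hx', h1⟩ := hN.exists_fx hx
    exact ⟨x', hx', h1⟩
  choose! f hfP hfv hfw using h0
  have hAF : ∀ a ∈ AU C.S (pl v w), ∀ y ∈ QU C.S (pl v w), a * y = y * a :=
    fun a ha y hy => AU_comm C.S ha (QU_le_FU C.S hy)
  -- additivity
  have hadd : ∀ x ∈ perp C.S (pl v w), ∀ y ∈ perp C.S (pl v w), f (x + y) + (f x + f y) ∈ pl v w := by
    intro x hx y hy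
    obtain ⟨a1, ha1, h1⟩ := hfv x hx
    obtain ⟨a2, ha2, h2⟩ := hfv y hy
    obtain ⟨a3, ha3, h3⟩ := hfv (x + y) (add_mem hx hy)
    have hx' := (mem_perp_pl C.S).1 hx
    have hy' := (mem_perp_pl C.S).1 hy
    have hfx := (mem_perp_pl C.S).1 (hfP x hx)
    have hfy := (mem_perp_pl C.S).1 (hfP y hy)
    have e1 : q C.S v (x + y) 0 = q C.S v x 0 * q C.S v y 0 * q C.S v 0 (C.S.B x y) := by
      rw [q_mul C.S hx'.1 hy'.1, q_mul C.S (by rw [B_add, hx'.1, hy'.1, add_zero]) (B_zero C.S v), map_zero]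
      simp [z2_add]
    have h0 : g * (q C.S v 0 (C.S.B x y) : C.L) * g⁻¹ = (q C.S v 0 (C.S.B x y) : C.L) :=
      hN.comm_AU (h.q_mem_AU (zero_mem _) _)
    have e2 : q C.S v (f (x + y)) 0 * a3 =
        (q C.S v (f x) 0 * a1) * (q C.S v (f y) 0 * a2) * q C.S v 0 (C.S.B x y) := by
      apply Subtype.ext
      rw [← h3, e1]
      change g * (((q C.S v x 0 : C.L) : G) * (q C.S v y 0 : C.L) * (q C.S v 0 (C.S.B x y) : C.L)) * g⁻¹ =
        ((q C.S v (f x) 0 * a1 : C.L) : G) * ((q C.S v (f y) 0 * a2 : C.L) : G) *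
          ((q C.S v 0 (C.S.B x y) : C.L) : G)
      rw [← h1, ← h2]
      calc g * (((q C.S v x 0 : C.L) : G) * (q C.S v y 0 : C.L) * (q C.S v 0 (C.S.B x y) : C.L)) * g⁻¹ =
          g * (q C.S v x 0 : C.L) * g⁻¹ * (g * (q C.S v y 0 : C.L) * g⁻¹) *
            (g * (q C.S v 0 (C.S.B x y) : C.L) * g⁻¹) := by group
        _ = _ := by rw [h0]
    have e3 : (q C.S v (f x) 0 * a1) * (q C.S v (f y) 0 * a2) * q C.S v 0 (C.S.B x y) =
        q C.S v (f x + f y) (C.S.B (f x) (f y)) * (a1 * a2 * q C.S v 0 (C.S.B x y)) := by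
      have : a1 * q C.S v (f y) 0 = q C.S v (f y) 0 * a1 := hAF a1 ha1 _ (h.qv_mem (hfP y hy) 0)
      calc (q C.S v (f x) 0 * a1) * (q C.S v (f y) 0 * a2) * q C.S v 0 (C.S.B x y) =
          q C.S v (f x) 0 * (a1 * q C.S v (f y) 0) * a2 * q C.S v 0 (C.S.B x y) := by simp only [mul_assoc]
        _ = q C.S v (f x) 0 * q C.S v (f y) 0 * (a1 * a2 * q C.S v 0 (C.S.B x y)) := by
            rw [this]; simp only [mul_assoc]
        _ = _ := by rw [q_mul C.S hfx.1 hfy.1]; simp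
    rw [e3] at e2
    exact h.mem_of_q_eq (hfP _ (add_mem hx hy)) (add_mem (hfP x hx) (hfP y hy)) ha3
      (mul_mem (mul_mem ha1 ha2) (h.q_mem_AU (zero_mem _) _)) e2
  have hln : ∀ x ∈ pl v w, f x ∈ pl v w := by
    intro x hx
    obtain ⟨a1, ha1, h1⟩ := hfv x (h.ti hx)
    rw [hN.comm_AU (h.q_mem_AU hx 0)] at h1
    have h2 : q C.S v x 0 * 1 = q C.S v (f x) 0 * a1 := by rw [mul_one]; exact Subtype.ext h1
    have h3 := h.mem_of_q_eq (h.ti hx) (hfP x (h.ti hx)) (one_mem _) ha1 h2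
    have := add_mem hx h3
    rwa [aac] at this
  have hiso : ∀ x ∈ perp C.S (pl v w), ∀ y ∈ perp C.S (pl v w), C.S.B (f x) (f y) = C.S.B x y := by
    intro x hx y hy
    obtain ⟨a1, ha1, h1⟩ := hfv x hx
    obtain ⟨a2, ha2, h2⟩ := hfw y hy
    have c1 := h.conj_qv hx hy 0 0
    have c2 := h.conj_qv (hfP x hx) (hfP y hy) 0 0
    have h0 := sp_conj h hN.nrm (C.S.B x y)
    -- conjugate the first relation
    have e1 : (q C.S w (f y) 0 * a2) * (q C.S v (f x) 0 * a1) * (q C.S w (f y) 0 * a2)⁻¹ =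
        (q C.S v (f x) 0 * a1) * q C.S v (C.S.B x y • w) 0 := by
      apply Subtype.ext
      change ((q C.S w (f y) 0 * a2 : C.L) : G) * ((q C.S v (f x) 0 * a1 : C.L) : G) *
        ((q C.S w (f y) 0 * a2 : C.L) : G)⁻¹ = ((q C.S v (f x) 0 * a1 : C.L) : G) *
          ((q C.S v (C.S.B x y • w) 0 : C.L) : G)
      rw [← h1, ← h2]
      have c1' : ((q C.S w y 0 : C.L) : G) * (q C.S v x 0 : C.L) * ((q C.S w y 0 : C.L) : G)⁻¹ =
        ((q C.S v x 0 : C.L) : G) * (q C.S v (C.S.B x y • w) 0 : C.L) := congrArg Subtype.val c1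
      calc g * (q C.S w y 0 : C.L) * g⁻¹ * (g * (q C.S v x 0 : C.L) * g⁻¹) * (g * (q C.S w y 0 : C.L) * g⁻¹)⁻¹ =
          g * (((q C.S w y 0 : C.L) : G) * (q C.S v x 0 : C.L) * ((q C.S w y 0 : C.L) : G)⁻¹) * g⁻¹ := by group
        _ = g * (q C.S v x 0 : C.L) * g⁻¹ * (g * (q C.S v (C.S.B x y • w) 0 : C.L) * g⁻¹) := by
            rw [c1']; group
        _ = _ := by rw [h0]
    have ha2c : ∀ r ∈ QU C.S (pl v w), a2 * r = r * a2 := fun r hr => hAF a2 ha2 r hr
    have e2 : (q C.S w (f y) 0 * a2) * (q C.S v (f x) 0 * a1) * (q C.S w (f y) 0 * a2)⁻¹ =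
        q C.S w (f y) 0 * q C.S v (f x) 0 * (q C.S w (f y) 0)⁻¹ * a1 := by
      have k1 : a2 * (q C.S v (f x) 0 * a1) * a2⁻¹ = q C.S v (f x) 0 * a1 := by
        rw [ha2c _ (mul_mem (h.qv_mem (hfP x hx) 0) (AU_le_QU C.S h.ti ha1)), mul_inv_cancel_right]
      have k2 : a1 * (q C.S w (f y) 0)⁻¹ = (q C.S w (f y) 0)⁻¹ * a1 :=
        hAF a1 ha1 _ (inv_mem (h.qw_mem (hfP y hy) 0))
      calc (q C.S w (f y) 0 * a2) * (q C.S v (f x) 0 * a1) * (q C.S w (f y) 0 * a2)⁻¹ =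
          q C.S w (f y) 0 * (a2 * (q C.S v (f x) 0 * a1) * a2⁻¹) * (q C.S w (f y) 0)⁻¹ := by group
        _ = q C.S w (f y) 0 * q C.S v (f x) 0 * (a1 * (q C.S w (f y) 0)⁻¹) := by
            rw [k1]; simp only [mul_assoc]
        _ = _ := by rw [k2]; simp only [mul_assoc]
    rw [e2, c2] at e1
    have k3 : a1 * q C.S v (C.S.B x y • w) 0 = q C.S v (C.S.B x y • w) 0 * a1 :=
      hAF a1 ha1 _ (AU_le_QU C.S h.ti (h.sp_mem _))
    rw [mul_assoc, mul_assoc, mul_left_cancel_iff, k3] at e1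
    exact h.sp_inj (mul_right_cancel e1)
  obtain ⟨p, hp, hpf⟩ := gen C.S h.ti f hfP hln hadd hiso
  refine ⟨p, hp, fun x hx => ?_⟩
  have hpi : p⁻¹ ∈ TG C.S (perp C.S (pl v w) : Set V) := inv_mem hp
  have hpP := TG_le_PU C.S hpi
  have hpv : C.S.ρ p⁻¹ v = v := TG_fix C.S hpi (left_mem_pl v w)
  have hpw : C.S.ρ p⁻¹ w = w := TG_fix C.S hpi (right_mem_pl v w)
  have h3 : x + C.S.ρ p⁻¹ (f x) ∈ pl v w := by
    have h5 := (hpP _).2 (hpf x hx)
    rwa [map_add, C.S.ρ_inv_apply] at h5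
  constructor
  · obtain ⟨a, ha, h1⟩ := hfv x hx
    obtain ⟨a', ha', h2⟩ := h.q_mod hx h3 0
    refine ⟨a' * (p⁻¹ * a * p⁻¹⁻¹), mul_mem ha' (AU_conj C.S hpP ha), ?_⟩
    have e1 : ((p : G)⁻¹ * g) * (q C.S v x 0 : C.L) * ((p : G)⁻¹ * g)⁻¹ =
        (p : G)⁻¹ * (g * (q C.S v x 0 : C.L) * g⁻¹) * p := by group
    rw [e1, h1]
    have e2 : p⁻¹ * (q C.S v (f x) 0 * a) * p = q C.S v x 0 * (a' * (p⁻¹ * a * p⁻¹⁻¹)) := by
      rw [← mul_assoc (q C.S v x 0), ← h2]
      have := q_conj C.S p⁻¹ (v := v) (u := f x) 0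
      rw [hpv] at this
      rw [← this]; group
    exact congrArg Subtype.val e2
  · obtain ⟨a, ha, h1⟩ := hfw x hx
    obtain ⟨a', ha', h2⟩ := h.symm.q_mod (x := x) (by rw [h.pl_symm]; exact hx)
      (by rw [h.pl_symm]; exact h3) 0
    rw [h.pl_symm] at ha'
    refine ⟨a' * (p⁻¹ * a * p⁻¹⁻¹), mul_mem ha' (AU_conj C.S hpP ha), ?_⟩
    have e1 : ((p : G)⁻¹ * g) * (q C.S w x 0 : C.L) * ((p : G)⁻¹ * g)⁻¹ =
        (p : G)⁻¹ * (g * (q C.S w x 0 : C.L) * g⁻¹) * p := by group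
    rw [e1, h1]
    have e2 : p⁻¹ * (q C.S w (f x) 0 * a) * p = q C.S w x 0 * (a' * (p⁻¹ * a * p⁻¹⁻¹)) := by
      rw [← mul_assoc (q C.S w x 0), ← h2]
      have := q_conj C.S p⁻¹ (v := w) (u := f x) 0
      rw [hpw] at this
      rw [← this]; group
    exact congrArg Subtype.val e2

end NrmA

end Cfsg.Agent.OddHalf.SpTwo

end

-- merged: Cfsg.Agent.OddHalf.SpTwo.ShortB
section

/-!
# Existence of `y_ℓ` (short roots): an element `g` centralising `Q_ℓ`
-/

set_option autoImplicit false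
set_option linter.unusedSimpArgs false
set_option linter.unusedSectionVars false

open scoped commutatorElement

namespace Cfsg.Agent.OddHalf.SpTwo

open Cfsg.Agent.StandardComponent.SpTwo
open Cfsg.Agent.OddHalf.SpTwoN

variable {G V : Type*} [Group G] [AddCommGroup V] [Module (ZMod 2) V] {C : Ctx G V}
variable {v w : V} {g : G}

/-- `g` is trivial on `A_ℓ` and on `Q_ℓ / A_ℓ` -/
structure NrmB (C : Ctx G V) (v w : V) (g : G) : Prop where
  a : NrmA C v w g
  bv : ∀ x ∈ perp C.S (pl v w), ∃ a ∈ AU C.S (pl v w),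
    g * (q C.S v x 0 : C.L) * g⁻¹ = ((q C.S v x 0 * a : C.L) : G)
  bw : ∀ x ∈ perp C.S (pl v w), ∃ a ∈ AU C.S (pl v w),
    g * (q C.S w x 0 : C.L) * g⁻¹ = ((q C.S w x 0 * a : C.L) : G)

theorem NrmA.exists_NrmB (hN : NrmA C v w g) : ∃ g', NrmB C v w g' := by
  obtain ⟨p, hp, hpx⟩ := hN.exists_p
  have hpi : p⁻¹ ∈ TG C.S (perp C.S (pl v w) : Set V) := inv_mem hp
  have hcb : ∀ a ∈ pl v w, ((p : G)⁻¹ * g) * C.b a * ((p : G)⁻¹ * g)⁻¹ = C.b a := by
    intro a ha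
    have h1 : (p : G)⁻¹ * C.b a * p = C.b a := by
      have h2 := C.b_conj p⁻¹ a
      rw [TG_fix C.S hpi ha] at h2
      change (p : G)⁻¹ * C.b a * ((p : G)⁻¹)⁻¹ = _ at h2
      rwa [inv_inv] at h2
    calc ((p : G)⁻¹ * g) * C.b a * ((p : G)⁻¹ * g)⁻¹ = (p : G)⁻¹ * (g * C.b a * g⁻¹) * p := by group
      _ = _ := by rw [hN.comm_b ha, h1]
  refine ⟨(p : G)⁻¹ * g, ⟨hN.ln, hN.nrm.mul_left (TG_le_PU C.S hpi), hcb v (left_mem_pl v w),
    hcb w (right_mem_pl v w)⟩, fun x hx => (hpx x hx).1, fun x hx => (hpx x hx).2⟩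

namespace NrmB

theorem symm (hB : NrmB C v w g) : NrmB C w v g := by
  refine ⟨hB.a.symm, ?_, ?_⟩
  · rw [hB.a.ln.pl_symm]; exact hB.bw
  · rw [hB.a.ln.pl_symm]; exact hB.bv

/-- the image of an element of the pointwise stabilizer of the line -/
theorem exists_r (hB : NrmB C v w g) {m : C.L} (hm : m ∈ FU C.S (pl v w)) :
    ∃ r ∈ QU C.S (pl v w), g * (m : G) * g⁻¹ = ((r * m : C.L) : G) ∨
      g * (m : G) * g⁻¹ = C.t * ((r * m : C.L) : G) := by
  have hfinV := C.finV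
  have h := hB.a.ln
  obtain ⟨k, hk, hk', hku⟩ := hB.a.exists_PU (FU_le_PU C.S hm)
  have hkF : ∀ u ∈ pl v w, C.S.ρ k u = u := fun u hu => by rw [hku u hu, hm u hu]
  have hmi : m⁻¹ ∈ FU C.S (pl v w) := inv_mem hm
  refine ⟨k * m⁻¹, ⟨fun u hu => ?_, fun z hz => ?_⟩, by rw [inv_mul_cancel_right]; exact hk'⟩
  · rw [C.S.ρ_mul, hmi u hu, hkF u hu]
  · set z' := C.S.ρ m⁻¹ z with hz'
    have hz'P : z' ∈ perp C.S (pl v w) := PU_perp C.S (FU_le_PU C.S hmi) hz
    have hmz : C.S.ρ m z' = z := C.S.ρ_apply_inv m z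
    obtain ⟨a, ha, hav⟩ := hB.bv z' hz'P
    obtain ⟨a', ha', hav'⟩ := hB.bv z hz
    have haa : a * a = 1 := AU_sq C.S h.ti ha
    have hga := hB.a.comm_AU ha
    -- `g⁻¹ q g = q a`
    have h1 : g⁻¹ * (q C.S v z' 0 : C.L) * g = ((q C.S v z' 0 * a : C.L) : G) := by
      have h2 : g * ((q C.S v z' 0 * a : C.L) : G) * g⁻¹ = (q C.S v z' 0 : C.L) := by
        change g * (((q C.S v z' 0 : C.L) : G) * (a : G)) * g⁻¹ = _
        have haaG : (a : G) * a = 1 := congrArg Subtype.val haa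
        calc g * (((q C.S v z' 0 : C.L) : G) * (a : G)) * g⁻¹ =
            g * (q C.S v z' 0 : C.L) * g⁻¹ * (g * (a : G) * g⁻¹) := by group
          _ = ((q C.S v z' 0 : C.L) : G) * (a * a) := by
              rw [hga, hav]
              change ((q C.S v z' 0 : C.L) : G) * (a : G) * (a : G) = _
              group
          _ = _ := by rw [haaG, mul_one]
      rw [← h2]; group
    have h2 := conj_lift C hk' (q C.S v z' 0)
    have hkv : C.S.ρ k v = v := hkF v (left_mem_pl v w)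
    have hmv : C.S.ρ m v = v := hm v (left_mem_pl v w)
    have h3 : k * q C.S v z' 0 * k⁻¹ = q C.S v (C.S.ρ k z') 0 := by rw [q_conj, hkv]
    rw [h3] at h2
    have h4 : m * (q C.S v z' 0 * a) * m⁻¹ = q C.S v z 0 * a := by
      have h5 : m * q C.S v z' 0 * m⁻¹ = q C.S v z 0 := by rw [q_conj, hmv, hmz]
      have h6 : m * a * m⁻¹ = a := by rw [← AU_comm C.S ha hm, mul_inv_cancel_right]
      calc m * (q C.S v z' 0 * a) * m⁻¹ = (m * q C.S v z' 0 * m⁻¹) * (m * a * m⁻¹) := by group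
        _ = _ := by rw [h5, h6]
    have h4' : (m : G) * ((q C.S v z' 0 * a : C.L) : G) * (m : G)⁻¹ = ((q C.S v z 0 * a : C.L) : G) :=
      congrArg Subtype.val h4
    have h5 : g * (m : G) * g⁻¹ * ((q C.S v z' 0 : C.L) : G) * (g * (m : G) * g⁻¹)⁻¹ =
        ((q C.S v z 0 * (a' * a) : C.L) : G) := by
      calc g * (m : G) * g⁻¹ * ((q C.S v z' 0 : C.L) : G) * (g * (m : G) * g⁻¹)⁻¹ =
          g * ((m : G) * (g⁻¹ * (q C.S v z' 0 : C.L) * g) * (m : G)⁻¹) * g⁻¹ := by group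
        _ = g * (((q C.S v z 0 : C.L) : G) * (a : G)) * g⁻¹ := by rw [h1, h4']; rfl
        _ = g * (q C.S v z 0 : C.L) * g⁻¹ * (g * (a : G) * g⁻¹) := by group
        _ = ((q C.S v z 0 * a' : C.L) : G) * (a : G) := by rw [hav', hga]
        _ = _ := by rw [← mul_assoc]; rfl
    rw [h5] at h2
    have h6 : q C.S v z 0 * (a' * a) = q C.S v (C.S.ρ k z') 0 * 1 := by
      rw [mul_one]; exact Subtype.ext h2
    have h7 := h.mem_of_q_eq hz (PU_perp C.S hk hz'P) (mul_mem ha' ha) (one_mem _) h6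
    rw [C.S.ρ_mul, add_comm]
    exact h7

/-- the elements `a` are powers of `s` -/
theorem exists_e (hB : NrmB C v w g) {x : V} (hx : x ∈ perp C.S (pl v w)) :
    ∃ e : ZMod 2, g * (q C.S v x 0 : C.L) * g⁻¹ = ((q C.S v x 0 * q C.S v (e • w) 0 : C.L) : G) := by
  have hfinV := C.finV
  have h := hB.a.ln
  by_cases hxl : x ∈ pl v w
  · refine ⟨0, ?_⟩
    rw [zero_smul, q_zero, mul_one]
    exact hB.a.comm_AU (h.q_mem_AU hxl 0)
  obtain ⟨u, hu, hux⟩ := sep C.S hxl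
  have hx' := (mem_perp_pl C.S).1 hx
  have hu' := (mem_perp_pl C.S).1 hu
  have hτF : C.S.τ x ∈ FU C.S (pl v w) := by
    intro y hy
    rw [C.S.hτ, C.S.symm, hx y hy, zero_smul, add_zero]
  obtain ⟨r, hr, hr'⟩ := hB.exists_r hτF
  obtain ⟨a, ha, hau⟩ := hB.bv u hu
  have haa : a * a = 1 := AU_sq C.S h.ti ha
  have hq1 : q C.S v x 1 = q C.S v u 0 * (C.S.τ x * q C.S v u 0 * (C.S.τ x)⁻¹) := by
    have := q_comm_τ C.S hx'.1 hu'.1 (0 : ZMod 2)
    rw [hux, one_smul] at this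
    rw [← this, C.S.τ_inv]; simp only [mul_assoc]
  have h1 := conj_lift C hr' (q C.S v u 0 * a)
  -- compute in `L`
  set μ := C.S.ρ r (u + x) + (u + x) with hμ
  have hμl : μ ∈ pl v w := hr.2 _ (add_mem hu hx)
  have hrux : C.S.ρ r (u + x) = u + x + μ := by rw [hμ, add_comm (C.S.ρ r (u + x)), aac]
  have hrv : C.S.ρ r v = v := hr.1 v (left_mem_pl v w)
  have haF : ∀ m ∈ FU C.S (pl v w), m * a * m⁻¹ = a := by
    intro m hm
    rw [← AU_comm C.S ha hm, mul_inv_cancel_right]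
  have h2 : r * C.S.τ x * (q C.S v u 0 * a) * (r * C.S.τ x)⁻¹ = q C.S v (u + x + μ) 0 * a := by
    have e1 : C.S.τ x * q C.S v u 0 * (C.S.τ x)⁻¹ = q C.S v (u + x) 0 := by
      rw [C.S.τ_inv, τ_conj_q C.S hx'.1, hux, one_smul]
    have e2 : r * q C.S v (u + x) 0 * r⁻¹ = q C.S v (u + x + μ) 0 := by
      rw [q_conj, hrv, hrux]
    have e3 := haF (r * C.S.τ x) (mul_mem (QU_le_FU C.S hr) hτF)
    calc r * C.S.τ x * (q C.S v u 0 * a) * (r * C.S.τ x)⁻¹ =
        r * (C.S.τ x * q C.S v u 0 * (C.S.τ x)⁻¹) * r⁻¹ * (r * C.S.τ x * a * (r * C.S.τ x)⁻¹) := by group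
      _ = _ := by rw [e3, e1, e2]
  rw [h2] at h1
  have hΦ1 : g * (q C.S v x 1 : C.L) * g⁻¹ =
      ((q C.S v u 0 * a * (q C.S v (u + x + μ) 0 * a) : C.L) : G) := by
    rw [hq1]
    change g * (((q C.S v u 0 : C.L) : G) * (((C.S.τ x : C.L) : G) * (q C.S v u 0 : C.L) *
      ((C.S.τ x : C.L) : G)⁻¹)) * g⁻¹ = ((q C.S v u 0 * a : C.L) : G) *
        ((q C.S v (u + x + μ) 0 * a : C.L) : G)
    rw [← h1, ← hau]; group
  have huμ : C.S.B u μ = 0 := hu μ hμl
  have hvμ : C.S.B μ v = 0 := h.ti hμl v (left_mem_pl v w)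
  have hsum : C.S.B (u + x + μ) v = 0 := by rw [B_add, B_add, hu'.1, hx'.1, hvμ, add_zero, add_zero]
  have h3 : q C.S v u 0 * a * (q C.S v (u + x + μ) 0 * a) = q C.S v x 1 * q C.S v μ 0 := by
    have e1 : a * q C.S v (u + x + μ) 0 = q C.S v (u + x + μ) 0 * a :=
      AU_comm C.S ha (QU_le_FU C.S (h.qv_mem (add_mem (add_mem hu hx) (h.ti hμl)) 0))
    have e2 : q C.S v u 0 * q C.S v (u + x + μ) 0 = q C.S v (x + μ) 1 := by
      rw [q_mul C.S hu'.1 hsum]
      have e3 : u + (u + x + μ) = x + μ := by rw [add_assoc, aac]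
      have e4 : C.S.B u (u + x + μ) = 1 := by
        rw [map_add, map_add, C.S.alt, hux, huμ, zero_add, add_zero]
      rw [e3, e4]; simp
    have e5 : q C.S v x 1 * q C.S v μ 0 = q C.S v (x + μ) 1 := by
      rw [q_mul C.S hx'.1 hvμ, hx μ hμl]; simp
    rw [e5, ← e2]
    calc q C.S v u 0 * a * (q C.S v (u + x + μ) 0 * a) = q C.S v u 0 * (a * q C.S v (u + x + μ) 0) * a := by
          simp only [mul_assoc]
      _ = q C.S v u 0 * q C.S v (u + x + μ) 0 * (a * a) := by rw [e1]; simp only [mul_assoc]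
      _ = _ := by rw [haa, mul_one]
  have h4 : ∃ e : ZMod 2, q C.S v μ 0 = q C.S v (e • w) 0 := by
    rcases mem_pl.1 hμl with h5 | h5 | h5 | h5
    · exact ⟨0, by rw [h5, zero_smul]⟩
    · exact ⟨0, by rw [h5, zero_smul, q_self]⟩
    · exact ⟨1, by rw [h5, one_smul]⟩
    · exact ⟨1, by rw [h5, one_smul, add_comm v w, q_add_self C.S h.hwv]⟩
  obtain ⟨e, he⟩ := h4
  refine ⟨e, ?_⟩
  have h5 : q C.S v x 0 = q C.S v x 1 * q C.S v 0 1 := by
    rw [q_mul C.S hx'.1 (B_zero C.S v), map_zero, z2_add]; simp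
  have h6 : g * (q C.S v 0 1 : C.L) * g⁻¹ = (q C.S v 0 1 : C.L) :=
    hB.a.comm_AU (h.q_mem_AU (zero_mem _) 1)
  have h7 : q C.S v x 0 * q C.S v (e • w) 0 = q C.S v x 1 * q C.S v μ 0 * q C.S v 0 1 := by
    have e1 : q C.S v 0 1 * q C.S v (e • w) 0 = q C.S v (e • w) 0 * q C.S v 0 1 :=
      q_comm C.S (B_zero C.S v) (by rw [map_smul, LinearMap.smul_apply, h.hwv, smul_zero]) _ _
    rw [h5, he, mul_assoc, e1]; simp only [mul_assoc]
  rw [h7, ← h3]
  nth_rewrite 1 [h5]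
  calc g * (((q C.S v x 1 : C.L) : G) * (q C.S v 0 1 : C.L)) * g⁻¹ =
      g * (q C.S v x 1 : C.L) * g⁻¹ * (g * (q C.S v 0 1 : C.L) * g⁻¹) := by group
    _ = _ := by rw [hΦ1, h6]; rfl

theorem exists_z (hB : NrmB C v w g) : ∃ z ∈ perp C.S (pl v w), ∀ x ∈ perp C.S (pl v w),
    g * (q C.S v x 0 : C.L) * g⁻¹ = ((q C.S v x 0 * q C.S v (C.S.B x z • w) 0 : C.L) : G) := by
  have hfinV := C.finV
  have h := hB.a.ln
  have h0 : ∀ x, x ∈ perp C.S (pl v w) → ∃ e : ZMod 2,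
      g * (q C.S v x 0 : C.L) * g⁻¹ = ((q C.S v x 0 * q C.S v (e • w) 0 : C.L) : G) :=
    fun x hx => hB.exists_e hx
  choose! e he using h0
  have huniq : ∀ x ∈ perp C.S (pl v w), ∀ c : ZMod 2,
      g * (q C.S v x 0 : C.L) * g⁻¹ = ((q C.S v x 0 * q C.S v (c • w) 0 : C.L) : G) → e x = c := by
    intro x hx c hc
    have h1 : q C.S v x 0 * q C.S v (e x • w) 0 = q C.S v x 0 * q C.S v (c • w) 0 :=
      Subtype.ext ((he x hx).symm.trans hc)
    exact h.sp_inj (mul_left_cancel h1)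
  have hadd : ∀ x ∈ perp C.S (pl v w), ∀ y ∈ perp C.S (pl v w), e (x + y) = e x + e y := by
    intro x hx y hy
    apply huniq _ (add_mem hx hy)
    have hx' := (mem_perp_pl C.S).1 hx
    have hy' := (mem_perp_pl C.S).1 hy
    have e1 : q C.S v (x + y) 0 = q C.S v x 0 * q C.S v y 0 * q C.S v 0 (C.S.B x y) := by
      rw [q_mul C.S hx'.1 hy'.1, q_mul C.S (by rw [B_add, hx'.1, hy'.1, add_zero]) (B_zero C.S v), map_zero]
      simp [z2_add]
    have h0 : g * (q C.S v 0 (C.S.B x y) : C.L) * g⁻¹ = (q C.S v 0 (C.S.B x y) : C.L) :=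
      hB.a.comm_AU (h.q_mem_AU (zero_mem _) _)
    have hsm : ∀ c : ZMod 2, C.S.B (c • w) v = 0 := fun c => by
      rw [map_smul, LinearMap.smul_apply, h.hwv, smul_zero]
    have e2 : q C.S v x 0 * q C.S v (e x • w) 0 * (q C.S v y 0 * q C.S v (e y • w) 0) *
        q C.S v 0 (C.S.B x y) = q C.S v x 0 * q C.S v y 0 * q C.S v 0 (C.S.B x y) *
          q C.S v ((e x + e y) • w) 0 := by
      rw [← h.sp_add]
      have c1 : q C.S v (e x • w) 0 * q C.S v y 0 = q C.S v y 0 * q C.S v (e x • w) 0 :=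
        q_comm C.S (hsm _) hy'.1 _ _
      have c2 : q C.S v (e x • w) 0 * q C.S v (e y • w) 0 * q C.S v 0 (C.S.B x y) =
          q C.S v 0 (C.S.B x y) * (q C.S v (e x • w) 0 * q C.S v (e y • w) 0) := by
        rw [h.sp_add, q_comm C.S (hsm _) (B_zero C.S v)]
      calc q C.S v x 0 * q C.S v (e x • w) 0 * (q C.S v y 0 * q C.S v (e y • w) 0) *
          q C.S v 0 (C.S.B x y) = q C.S v x 0 * (q C.S v (e x • w) 0 * q C.S v y 0) *
            (q C.S v (e y • w) 0 * q C.S v 0 (C.S.B x y)) := by simp only [mul_assoc]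
        _ = q C.S v x 0 * q C.S v y 0 * (q C.S v (e x • w) 0 * q C.S v (e y • w) 0 *
            q C.S v 0 (C.S.B x y)) := by rw [c1]; simp only [mul_assoc]
        _ = _ := by rw [c2]; simp only [mul_assoc]
    rw [e1, ← e2]
    change g * (((q C.S v x 0 : C.L) : G) * (q C.S v y 0 : C.L) * (q C.S v 0 (C.S.B x y) : C.L)) * g⁻¹ =
      ((q C.S v x 0 * q C.S v (e x • w) 0 : C.L) : G) * ((q C.S v y 0 * q C.S v (e y • w) 0 : C.L) : G) *
        ((q C.S v 0 (C.S.B x y) : C.L) : G)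
    rw [← he x hx, ← he y hy]
    calc g * (((q C.S v x 0 : C.L) : G) * (q C.S v y 0 : C.L) * (q C.S v 0 (C.S.B x y) : C.L)) * g⁻¹ =
        g * (q C.S v x 0 : C.L) * g⁻¹ * (g * (q C.S v y 0 : C.L) * g⁻¹) *
          (g * (q C.S v 0 (C.S.B x y) : C.L) * g⁻¹) := by group
      _ = _ := by rw [h0]
  have hln : ∀ x ∈ pl v w, e x = 0 := by
    intro x hx
    apply huniq _ (h.ti hx)
    rw [zero_smul, q_zero, mul_one]
    exact hB.a.comm_AU (h.q_mem_AU hx 0)
  let f : perp C.S (pl v w) →ₗ[ZMod 2] ZMod 2 :=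
    { toFun := fun x => e x
      map_add' := fun x y => hadd x x.2 y y.2
      map_smul' := by
        intro c x
        rcases z2 c with rfl | rfl
        · simp [hln 0 (zero_mem _)]
        · simp }
  obtain ⟨z, hz⟩ := B_surj_on C.S (perp C.S (pl v w)) f
  have hzP : z ∈ perp C.S (pl v w) := by
    intro u hu
    have := hz ⟨u, h.ti hu⟩
    change C.S.B z u = e u at this
    rw [this, hln u hu]
  refine ⟨z, hzP, fun x hx => ?_⟩
  have := hz ⟨x, hx⟩
  change C.S.B z x = e x at this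
  rw [C.S.symm, this]
  exact he x hx

end NrmB

/-- `g` centralises `Q_ℓ` -/
structure NrmC (C : Ctx G V) (v w : V) (g : G) : Prop where
  a : NrmA C v w g
  c : ∀ x ∈ QU C.S (pl v w), g * (x : G) * g⁻¹ = (x : G)

theorem NrmB.exists_NrmC (hB : NrmB C v w g) : ∃ g', NrmC C v w g' := by
  have hfinV := C.finV
  have h := hB.a.ln
  obtain ⟨zv, hzv, hgv⟩ := hB.exists_z
  obtain ⟨zw, hzw, hgw⟩ := hB.symm.exists_z
  rw [h.pl_symm] at hzw hgw
  set c : C.L := q C.S w zv 0 * q C.S v zw 0 with hc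
  have hcQ : c ∈ QU C.S (pl v w) := mul_mem (h.qw_mem hzv 0) (h.qv_mem hzw 0)
  have hcA : ∀ a ∈ AU C.S (pl v w), c * a * c⁻¹ = a := by
    intro a ha
    rw [← AU_comm C.S ha (QU_le_FU C.S hcQ), mul_inv_cancel_right]
  have hsp2 : ∀ e : ZMod 2, q C.S v (e • w) 0 * q C.S v (e • w) 0 = 1 := by
    intro e
    rw [h.sp_add, z2_add, zero_smul, q_zero]
  have hspw : ∀ e : ZMod 2, q C.S w (e • v) 0 = q C.S v (e • w) 0 := by
    intro e
    rcases z2 e with rfl | rfl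
    · rw [zero_smul, zero_smul, q_zero, q_zero]
    · rw [one_smul, one_smul, h.q_symm]
  -- conjugation by `c`
  have hcv : ∀ x ∈ perp C.S (pl v w), c * q C.S v x 0 * c⁻¹ = q C.S v x 0 * q C.S v (C.S.B x zv • w) 0 := by
    intro x hx
    have hx' := (mem_perp_pl C.S).1 hx
    have e1 : q C.S v zw 0 * q C.S v x 0 * (q C.S v zw 0)⁻¹ = q C.S v x 0 := by
      rw [q_comm C.S ((mem_perp_pl C.S).1 hzw).1 hx'.1, mul_inv_cancel_right]
    have e2 := h.conj_qv hx hzv 0 0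
    calc c * q C.S v x 0 * c⁻¹ = q C.S w zv 0 * (q C.S v zw 0 * q C.S v x 0 * (q C.S v zw 0)⁻¹) *
        (q C.S w zv 0)⁻¹ := by rw [hc]; group
      _ = _ := by rw [e1, e2]
  have hcw : ∀ x ∈ perp C.S (pl v w), c * q C.S w x 0 * c⁻¹ = q C.S w x 0 * q C.S w (C.S.B x zw • v) 0 := by
    intro x hx
    have hx' := (mem_perp_pl C.S).1 hx
    have e2 := h.symm.conj_qv (x := x) (y := zw) (by rw [h.pl_symm]; exact hx) (by rw [h.pl_symm]; exact hzw) 0 0
    have e3 : q C.S w zv 0 * (q C.S w x 0 * q C.S w (C.S.B x zw • v) 0) * (q C.S w zv 0)⁻¹ =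
        q C.S w x 0 * q C.S w (C.S.B x zw • v) 0 := by
      have c1 : q C.S w zv 0 * q C.S w x 0 = q C.S w x 0 * q C.S w zv 0 :=
        q_comm C.S ((mem_perp_pl C.S).1 hzv).2 hx'.2 _ _
      have c2 : q C.S w zv 0 * q C.S w (C.S.B x zw • v) 0 = q C.S w (C.S.B x zw • v) 0 * q C.S w zv 0 :=
        q_comm C.S ((mem_perp_pl C.S).1 hzv).2 (by
          rw [map_smul, LinearMap.smul_apply, h.hvw, smul_zero]) _ _
      rw [← mul_assoc (q C.S w zv 0), c1, mul_assoc (q C.S w x 0), c2, ← mul_assoc, mul_inv_cancel_right]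
    calc c * q C.S w x 0 * c⁻¹ = q C.S w zv 0 * (q C.S v zw 0 * q C.S w x 0 * (q C.S v zw 0)⁻¹) *
        (q C.S w zv 0)⁻¹ := by rw [hc]; group
      _ = _ := by rw [e2, e3]
  have hgA : ∀ a ∈ AU C.S (pl v w), ((c : G) * g) * (a : G) * ((c : G) * g)⁻¹ = (a : G) := by
    intro a ha
    have h1 := hB.a.comm_AU ha
    have h2 : (c : G) * (a : G) * (c : G)⁻¹ = (a : G) := congrArg Subtype.val (hcA a ha)
    calc ((c : G) * g) * (a : G) * ((c : G) * g)⁻¹ = (c : G) * (g * (a : G) * g⁻¹) * (c : G)⁻¹ := by group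
      _ = _ := by rw [h1, h2]
  have hkv : ∀ x ∈ perp C.S (pl v w),
      ((c : G) * g) * (q C.S v x 0 : C.L) * ((c : G) * g)⁻¹ = (q C.S v x 0 : C.L) := by
    intro x hx
    have h2 : c * (q C.S v x 0 * q C.S v (C.S.B x zv • w) 0) * c⁻¹ = q C.S v x 0 := by
      have h3 := hcA _ (h.sp_mem (C.S.B x zv))
      calc c * (q C.S v x 0 * q C.S v (C.S.B x zv • w) 0) * c⁻¹ =
          (c * q C.S v x 0 * c⁻¹) * (c * q C.S v (C.S.B x zv • w) 0 * c⁻¹) := by group
        _ = _ := by rw [h3, hcv x hx, mul_assoc, hsp2, mul_one]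
    have h2' : (c : G) * ((q C.S v x 0 * q C.S v (C.S.B x zv • w) 0 : C.L) : G) * (c : G)⁻¹ =
      (q C.S v x 0 : C.L) := congrArg Subtype.val h2
    calc ((c : G) * g) * (q C.S v x 0 : C.L) * ((c : G) * g)⁻¹ =
        (c : G) * (g * (q C.S v x 0 : C.L) * g⁻¹) * (c : G)⁻¹ := by group
      _ = _ := by rw [hgv x hx, h2']
  have hkw : ∀ x ∈ perp C.S (pl v w),
      ((c : G) * g) * (q C.S w x 0 : C.L) * ((c : G) * g)⁻¹ = (q C.S w x 0 : C.L) := by
    intro x hx
    have h2 : c * (q C.S w x 0 * q C.S w (C.S.B x zw • v) 0) * c⁻¹ = q C.S w x 0 := by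
      have h3 := hcA _ (h.sp_mem (C.S.B x zw))
      rw [← hspw] at h3
      calc c * (q C.S w x 0 * q C.S w (C.S.B x zw • v) 0) * c⁻¹ =
          (c * q C.S w x 0 * c⁻¹) * (c * q C.S w (C.S.B x zw • v) 0 * c⁻¹) := by group
        _ = _ := by rw [h3, hcw x hx, mul_assoc, hspw, hsp2, mul_one]
    have h2' : (c : G) * ((q C.S w x 0 * q C.S w (C.S.B x zw • v) 0 : C.L) : G) * (c : G)⁻¹ =
      (q C.S w x 0 : C.L) := congrArg Subtype.val h2
    calc ((c : G) * g) * (q C.S w x 0 : C.L) * ((c : G) * g)⁻¹ =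
        (c : G) * (g * (q C.S w x 0 : C.L) * g⁻¹) * (c : G)⁻¹ := by group
      _ = _ := by rw [hgw x hx, h2']
  refine ⟨(c : G) * g, ⟨h, hB.a.nrm.mul_left (QU_le_PU C.S hcQ), hgA _ (τ_mem_AU C.S (left_mem_pl v w)),
    hgA _ (τ_mem_AU C.S (right_mem_pl v w))⟩, ?_⟩
  intro x hx
  obtain ⟨a, b, ha, hb, k, hk, rfl⟩ := h.mem_QU_pl hx
  change ((c : G) * g) * (((q C.S v a 0 : C.L) : G) * (q C.S w b 0 : C.L) * (k : G)) * ((c : G) * g)⁻¹ =
    ((q C.S v a 0 : C.L) : G) * (q C.S w b 0 : C.L) * (k : G)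
  have e1 := hkv a ha
  have e2 := hkw b hb
  have e3 := hgA k hk
  generalize (c : G) * g = y at e1 e2 e3
  calc y * (((q C.S v a 0 : C.L) : G) * (q C.S w b 0 : C.L) * (k : G)) * y⁻¹ =
      (y * (q C.S v a 0 : C.L) * y⁻¹) * (y * (q C.S w b 0 : C.L) * y⁻¹) * (y * (k : G) * y⁻¹) := by group
    _ = _ := by rw [e1, e2, e3]

end Cfsg.Agent.OddHalf.SpTwo

end

-- merged: Cfsg.Agent.OddHalf.SpTwo.ShortD
section

/-!
# Existence of `y_ℓ` (short roots): an involution commuting with an element `d` of order 3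
-/

set_option autoImplicit false
set_option linter.unusedSimpArgs false
set_option linter.unusedSectionVars false

open scoped commutatorElement

namespace Cfsg.Agent.OddHalf.SpTwo

open Cfsg.Agent.StandardComponent.SpTwo
open Cfsg.Agent.OddHalf.SpTwoN

section Sp

variable {X V : Type*} [Group X] [AddCommGroup V] [Module (ZMod 2) V] {D : SpData X V}

/-- `a, b` with `(a,v) = 0`, `(a,w) = 1`, `(b,v) = 1`, `(b,w) = 0`, `(a,b) = 1`: then
`d = τ a τ b τ (v+a) τ (w+b)` has order 3 and permutes `v, w, v+w` cyclically. -/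
structure Dual (D : SpData X V) (v w a b : V) : Prop where
  av : D.B a v = 0
  aw : D.B a w = 1
  bv : D.B b v = 1
  bw : D.B b w = 0
  ab : D.B a b = 1

/-- the element of order 3 -/
def dd (D : SpData X V) (v w a b : V) : X := (D.τ a * D.τ b) * (D.τ (v + a) * D.τ (w + b))

theorem IsLn.exists_Dual [Finite V] {v w : V} (h : IsLn D v w) : ∃ a b, Dual D v w a b := by
  obtain ⟨v', w', h1, h2, h3, h4⟩ := h.exists_dual
  rcases z2 (D.B w' v') with h5 | h5
  · refine ⟨w' + v, v', ?_, ?_, h1, h2, ?_⟩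
    · rw [B_add, h3, D.alt, add_zero]
    · rw [B_add, h4, h.hvw, add_zero]
    · rw [B_add, h5, D.symm v v', h1, zero_add]
  · exact ⟨w', v', h3, h4, h1, h2, h5⟩

namespace Dual

variable {v w a b : V} (h : IsLn D v w) (hd : Dual D v w a b)

include h hd

theorem B1 : D.B (v + a) (w + b) = 1 := by
  have h1 : D.B v b = 1 := by rw [D.symm]; exact hd.bv
  rw [B_add, map_add, map_add, h.hvw, h1, hd.aw, hd.ab]; decide

theorem B2 : D.B a (v + a) = 0 := by rw [map_add, hd.av, D.alt, add_zero]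

theorem B3 : D.B a (w + b) = 0 := by rw [map_add, hd.aw, hd.ab]; decide

theorem B4 : D.B b (v + a) = 0 := by rw [map_add, hd.bv, D.symm, hd.ab]; decide

theorem B5 : D.B b (w + b) = 0 := by rw [map_add, hd.bw, D.alt, add_zero]

theorem comm : (D.τ a * D.τ b) * (D.τ (v + a) * D.τ (w + b)) =
    (D.τ (v + a) * D.τ (w + b)) * (D.τ a * D.τ b) := by
  have c1 : Commute (D.τ a) (D.τ (v + a)) := D.τ_commute (hd.B2 h)
  have c2 : Commute (D.τ a) (D.τ (w + b)) := D.τ_commute (hd.B3 h)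
  have c3 : Commute (D.τ b) (D.τ (v + a)) := D.τ_commute (hd.B4 h)
  have c4 : Commute (D.τ b) (D.τ (w + b)) := D.τ_commute (hd.B5 h)
  exact (((c1.mul_right c2).mul_left (c3.mul_right c4)) : Commute _ _)

theorem dd_three : dd D v w a b * dd D v w a b * dd D v w a b = 1 := by
  have h1 := ττ_three D hd.ab
  have h2 := ττ_three D (hd.B1 h)
  have hc := hd.comm h
  rw [dd]
  generalize D.τ a * D.τ b = x at *
  generalize D.τ (v + a) * D.τ (w + b) = y at *
  calc x * y * (x * y) * (x * y) = x * (y * x) * (y * x) * y := by simp only [mul_assoc]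
    _ = x * (x * y) * (x * y) * y := by rw [← hc]
    _ = x * x * (y * x) * (y * y) := by simp only [mul_assoc]
    _ = x * x * (x * y) * (y * y) := by rw [← hc]
    _ = (x * x * x) * (y * y * y) := by simp only [mul_assoc]
    _ = 1 := by rw [h1, h2, one_mul]

theorem dd_apply (x : V) : D.ρ (dd D v w a b) x =
    x + D.B x b • b + (D.B x a + D.B x b) • a + D.B x (w + b) • (w + b) +
      (D.B x (v + a) + D.B x (w + b)) • (v + a) := by
  have h1 := hd.B1 h
  have h2 := hd.B2 h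
  have h3 := hd.B3 h
  have h4 := hd.B4 h
  have h5 := hd.B5 h
  have h1' : D.B (w + b) (v + a) = 1 := by rw [D.symm]; exact h1
  have h3' : D.B (w + b) a = 0 := by rw [D.symm]; exact h3
  have h2' : D.B (v + a) a = 0 := by rw [D.symm]; exact h2
  have h4' : D.B (v + a) b = 0 := by rw [D.symm]; exact h4
  have h5' : D.B (w + b) b = 0 := by rw [D.symm]; exact h5
  have hba : D.B b a = 1 := by rw [D.symm]; exact hd.ab
  generalize hA : v + a = A at *
  generalize hB : w + b = B' at *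
  rw [dd, hA, hB, D.ρ_mul, D.ρ_mul, D.ρ_mul, D.hτ B' x, D.hτ A, D.hτ b, D.hτ a]
  apply ext_B D
  intro z
  simp only [map_add, LinearMap.add_apply, map_smul, LinearMap.smul_apply, smul_eq_mul, D.alt, h1', h3', h2', h4',
    h5', hba]
  generalize D.B x a = x1
  generalize D.B x b = x2
  generalize D.B x A = x3
  generalize D.B x B' = x4
  generalize D.B a z = z1
  generalize D.B b z = z2
  generalize D.B A z = z3
  generalize D.B B' z = z4
  generalize D.B x z = k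
  clear h1 h2 h3 h4 h5 h1' h3' h2' h4' h5' hba
  have key : ∀ x1 x2 x3 x4 : ZMod 2, ∀ z1 z2 z3 z4 k : ZMod 2, k + x4 * z4 + (x3 + x4 * 1) * z3 +
      (x2 + x4 * 0 + (x3 + x4 * 1) * 0) * z2 + (x1 + x4 * 0 + (x3 + x4 * 1) * 0 +
        (x2 + x4 * 0 + (x3 + x4 * 1) * 0) * 1) * z1 =
      k + x2 * z2 + (x1 + x2) * z1 + x4 * z4 + (x3 + x4) * z3 := by
    intro x1 x2 x3 x4 z1 z2 z3 z4 k
    ring
  exact key x1 x2 x3 x4 z1 z2 z3 z4 k

theorem dd_v : D.ρ (dd D v w a b) v = w := by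
  have h1 : D.B v b = 1 := by rw [D.symm]; exact hd.bv
  have h2 : D.B v a = 0 := by rw [D.symm]; exact hd.av
  rw [hd.dd_apply h, map_add, map_add, h.hvw, h1, h2, D.alt]
  simp only [zero_add, add_zero, one_smul]
  have : v + b + a + (w + b) + (v + a) = w + (v + v) + (b + b) + (a + a) := by abel
  rw [this, aa, aa, aa, add_zero, add_zero, add_zero]

theorem dd_w : D.ρ (dd D v w a b) w = v + w := by
  have h1 : D.B w b = 0 := by rw [D.symm]; exact hd.bw
  have h2 : D.B w a = 1 := by rw [D.symm]; exact hd.aw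
  rw [hd.dd_apply h, map_add, map_add, h.hwv, h1, h2, D.alt]
  simp only [zero_add, add_zero, one_smul, zero_smul]
  have : w + a + (v + a) = v + w + (a + a) := by abel
  rw [this, aa, add_zero]

theorem dd_vw : D.ρ (dd D v w a b) (v + w) = v := by
  rw [map_add, hd.dd_v h, hd.dd_w h, add_comm v w, aac]

theorem dd_mem [Finite V] : dd D v w a b ∈ PU D (pl v w) := by
  apply mem_PU_pl
  · rw [hd.dd_v h]; exact right_mem_pl v w
  · rw [hd.dd_w h]; exact add_mem (left_mem_pl v w) (right_mem_pl v w)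

theorem dd_ne {u : V} (hu : u ∈ pl v w) (hu0 : u ≠ 0) : D.ρ (dd D v w a b) u ≠ u := by
  intro h1
  rcases mem_pl.1 hu with rfl | rfl | rfl | rfl
  · exact hu0 rfl
  · rw [hd.dd_v h] at h1
    exact h.hw (by rw [h1]; exact self_mem_ln _)
  · rw [hd.dd_w h] at h1
    exact h.hv (add_eq_right.1 h1)
  · rw [hd.dd_vw h] at h1
    exact h.hw0 (add_eq_left.1 h1.symm)

end Dual

/-- elements of `A_ℓ` commuting with an element without fixed vectors on `ℓ` -/
theorem IsLn.sp_of_commute [Finite V] {v w : V} (h : IsLn D v w) {m a : X} (hm : m ∈ PU D (pl v w))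
    (hm0 : ∀ u ∈ pl v w, u ≠ 0 → D.ρ m u ≠ u) (ha : a ∈ AU D (pl v w)) (hc : m * a = a * m) :
    ∃ e : ZMod 2, a = q D v (e • w) 0 := by
  rcases h.AU_cases ha with h1 | ⟨u, hu, hu0, e, rfl⟩
  · exact h1
  · exfalso
    have hms : m * q D v (e • w) 0 * m⁻¹ = q D v (e • w) 0 := by
      rcases z2 e with rfl | rfl
      · rw [zero_smul, q_zero]; group
      · rw [one_smul, (commute_s_iff D h.hv h.hw h.hvw).2 hm, mul_inv_cancel_right]
    have h2 : m * (D.τ u * q D v (e • w) 0) * m⁻¹ = D.τ u * q D v (e • w) 0 := by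
      rw [hc, mul_inv_cancel_right]
    have h3 : m * (D.τ u * q D v (e • w) 0) * m⁻¹ = D.τ (D.ρ m u) * q D v (e • w) 0 := by
      calc m * (D.τ u * q D v (e • w) 0) * m⁻¹ = (m * D.τ u * m⁻¹) * (m * q D v (e • w) 0 * m⁻¹) := by group
        _ = _ := by rw [hms, D.conj_τ]
    rw [h2] at h3
    exact hm0 u hu hu0 (D.τ_injective (mul_right_cancel h3)).symm

end Sp

variable {G V : Type*} [Group G] [AddCommGroup V] [Module (ZMod 2) V] {C : Ctx G V}
variable {v w : V} {g : G}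

/-- first version of `y_ℓ` -/
structure IsPre (C : Ctx G V) (v w : V) (y : G) : Prop where
  ln : IsLn C.S v w
  sq : y * y = 1
  conj_t : y * C.t * y = C.t * (q C.S v w 0 : C.L)
  comm : ∀ x ∈ QU C.S (pl v w), y * (x : G) = (x : G) * y

namespace NrmC

theorem comm (hC : NrmC C v w g) {x : C.L} (hx : x ∈ QU C.S (pl v w)) : g * (x : G) = (x : G) * g :=
  mul_inv_eq_iff_eq_mul.1 (hC.c x hx)

/-- image of an element of the stabilizer of the line -/
theorem exists_a (hC : NrmC C v w g) {m : C.L} (hm : m ∈ PU C.S (pl v w)) :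
    ∃ a ∈ AU C.S (pl v w), g * (m : G) * g⁻¹ = ((a * m : C.L) : G) ∨
      g * (m : G) * g⁻¹ = C.t * ((a * m : C.L) : G) := by
  have hfinV := C.finV
  have h := hC.a.ln
  obtain ⟨k, hk, hk'⟩ := hC.a.nrm.exists_PU hm
  have key : ∀ x ∈ QU C.S (pl v w), (k * m⁻¹) * x = x * (k * m⁻¹) := by
    intro x hx
    have hmi : m⁻¹ ∈ PU C.S (pl v w) := inv_mem hm
    set x' := m⁻¹ * x * m with hx'
    have hx'Q : x' ∈ QU C.S (pl v w) := by
      have := QU_conj C.S hmi hx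
      rwa [inv_inv] at this
    have h1 := conj_lift C hk' x'
    have h2 := hC.c x' hx'Q
    have h2' : g⁻¹ * (x' : G) * g = (x' : G) := by
      calc g⁻¹ * (x' : G) * g = g⁻¹ * (g * (x' : G) * g⁻¹) * g := by rw [h2]
        _ = _ := by group
    have h3 : (m : G) * (x' : G) * (m : G)⁻¹ = (x : G) := by
      rw [hx']
      change (m : G) * ((m : G)⁻¹ * x * m) * (m : G)⁻¹ = x
      group
    have h4 : g * (m : G) * g⁻¹ * (x' : G) * (g * (m : G) * g⁻¹)⁻¹ = (x : G) := by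
      calc g * (m : G) * g⁻¹ * (x' : G) * (g * (m : G) * g⁻¹)⁻¹ =
          g * ((m : G) * (g⁻¹ * (x' : G) * g) * (m : G)⁻¹) * g⁻¹ := by group
        _ = _ := by rw [h2', h3, hC.c x hx]
    rw [h4] at h1
    have h5 : x = k * x' * k⁻¹ := Subtype.ext h1
    have h6 : (k * m⁻¹) * x * (k * m⁻¹)⁻¹ = x := by
      calc (k * m⁻¹) * x * (k * m⁻¹)⁻¹ = k * (m⁻¹ * x * m) * k⁻¹ := by group
        _ = _ := by rw [← hx', ← h5]
    exact mul_inv_eq_iff_eq_mul.1 h6
  refine ⟨k * m⁻¹, ?_, by rw [inv_mul_cancel_right]; exact hk'⟩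
  apply h.mem_AU_of_commute
  · exact key _ (AU_le_QU C.S h.ti (τ_mem_AU C.S (left_mem_pl v w)))
  · exact key _ (AU_le_QU C.S h.ti (τ_mem_AU C.S (right_mem_pl v w)))
  · intro x hx; exact key _ (h.qv_mem hx 0)
  · intro x hx; exact key _ (h.qw_mem hx 0)

theorem mul_AU (hC : NrmC C v w g) {a : C.L} (ha : a ∈ AU C.S (pl v w)) : NrmC C v w ((a : G) * g) := by
  have hfinV := C.finV
  have h := hC.a.ln
  have key : ∀ x ∈ QU C.S (pl v w), ((a : G) * g) * (x : G) * ((a : G) * g)⁻¹ = (x : G) := by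
    intro x hx
    have h1 : a * x * a⁻¹ = x := by rw [AU_comm C.S ha (QU_le_FU C.S hx), mul_inv_cancel_right]
    have h1' : (a : G) * (x : G) * (a : G)⁻¹ = (x : G) := congrArg Subtype.val h1
    calc ((a : G) * g) * (x : G) * ((a : G) * g)⁻¹ = (a : G) * (g * (x : G) * g⁻¹) * (a : G)⁻¹ := by group
      _ = _ := by rw [hC.c x hx, h1']
  refine ⟨⟨h, hC.a.nrm.mul_left (QU_le_PU C.S (AU_le_QU C.S h.ti ha)), ?_, ?_⟩, key⟩
  · exact key _ (AU_le_QU C.S h.ti (τ_mem_AU C.S (left_mem_pl v w)))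
  · exact key _ (AU_le_QU C.S h.ti (τ_mem_AU C.S (right_mem_pl v w)))

end NrmC

theorem cube_t (C : Ctx G V) (x : C.L) : C.t * (x : G) * (C.t * (x : G)) * (C.t * (x : G)) =
    C.t * ((x * x * x : C.L) : G) := by
  have hX := t_comm C x
  calc C.t * (x : G) * (C.t * (x : G)) * (C.t * (x : G)) =
      C.t * ((x : G) * C.t) * ((x : G) * C.t) * x := by simp only [mul_assoc]
    _ = C.t * (C.t * (x : G)) * (C.t * (x : G)) * x := by rw [hX]
    _ = (C.t * C.t) * ((x : G) * C.t) * ((x : G) * x) := by simp only [mul_assoc]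
    _ = C.t * (x : G) * ((x : G) * x) := by rw [C.tt, one_mul, hX]
    _ = C.t * ((x : G) * x * x) := by simp only [mul_assoc]

/-- **existence of the first version of `y_ℓ`**, commuting with an element of order 3 -/
theorem exists_pre (hC : NrmC C v w g) {a b : V} (hd : Dual C.S v w a b) :
    ∃ y, IsPre C v w y ∧ y * (dd C.S v w a b : C.L) = (dd C.S v w a b : C.L) * y := by
  have hfinV := C.finV
  have h := hC.a.ln
  set d := dd C.S v w a b with hddef
  have hdP : d ∈ PU C.S (pl v w) := hd.dd_mem h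
  have hd3 : d * d * d = 1 := hd.dd_three h
  obtain ⟨k, hk, hk'⟩ := hC.exists_a hdP
  have hd3' : (d : G) * d * d = 1 := congrArg Subtype.val hd3
  have hkd : g * (d : G) * g⁻¹ = ((k * d : C.L) : G) := by
    rcases hk' with hk' | hk'
    · exact hk'
    · exfalso
      have h1 : g * (d : G) * g⁻¹ * (g * (d : G) * g⁻¹) * (g * (d : G) * g⁻¹) = 1 := by
        calc g * (d : G) * g⁻¹ * (g * (d : G) * g⁻¹) * (g * (d : G) * g⁻¹) = g * ((d : G) * d * d) * g⁻¹ := by
              group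
          _ = 1 := by rw [hd3']; group
      rw [hk'] at h1
      have h2 : C.t * ((k * d : C.L) : G) * (C.t * ((k * d : C.L) : G)) * (C.t * ((k * d : C.L) : G)) =
          C.t * (((k * d) * (k * d) * (k * d) : C.L) : G) := cube_t C (k * d)
      rw [h2] at h1
      exact ne_t_mul C 1 _ h1.symm
  -- the norm condition
  have hnorm : k * (d * k * d⁻¹) * (d * d * k * (d * d)⁻¹) = 1 := by
    have h1 : (k * d) * (k * d) * (k * d) = 1 := by
      apply Subtype.ext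
      change ((k * d : C.L) : G) * ((k * d : C.L) : G) * ((k * d : C.L) : G) = 1
      rw [← hkd]
      calc g * (d : G) * g⁻¹ * (g * (d : G) * g⁻¹) * (g * (d : G) * g⁻¹) = g * ((d : G) * d * d) * g⁻¹ := by
            group
        _ = 1 := by rw [hd3']; group
    calc k * (d * k * d⁻¹) * (d * d * k * (d * d)⁻¹) = (k * d) * (k * d) * (k * d) * (d * d * d)⁻¹ := by group
      _ = 1 := by rw [h1, hd3]; group
  set c := d * k * d⁻¹ with hcdef
  have hcA : c ∈ AU C.S (pl v w) := AU_conj C.S hdP hk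
  have hkk : k * k = 1 := AU_sq C.S h.ti hk
  have hcc : c * c = 1 := AU_sq C.S h.ti hcA
  have hcd : c * (k * d) * c⁻¹ = d := by
    -- `d c⁻¹ d⁻¹ = (k c)⁻¹ ...`
    have h1 : d * c * d⁻¹ = d * d * k * (d * d)⁻¹ := by rw [hcdef]; group
    rw [← h1] at hnorm
    have h2 : d * c * d⁻¹ = (k * c)⁻¹ := (inv_eq_of_mul_eq_one_right hnorm).symm
    have hck : c * k = k * c := AU_comm C.S hcA (QU_le_FU C.S (AU_le_QU C.S h.ti hk))
    calc c * (k * d) * c⁻¹ = c * k * (d * c * d⁻¹)⁻¹ * d := by group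
      _ = c * k * (k * c) * d := by rw [h2, inv_inv]
      _ = d := by
          rw [hck, mul_assoc k c, ← mul_assoc c k, hck, mul_assoc k c, hcc, mul_one, hkk, one_mul]
  have hC1 := hC.mul_AU hcA
  set y := (c : G) * g with hydef
  have hyd : y * (d : G) * y⁻¹ = (d : G) := by
    have h1 : (c : G) * ((k * d : C.L) : G) * (c : G)⁻¹ = (d : G) := congrArg Subtype.val hcd
    calc y * (d : G) * y⁻¹ = (c : G) * (g * (d : G) * g⁻¹) * (c : G)⁻¹ := by rw [hydef]; group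
      _ = _ := by rw [hkd, h1]
  have hydc : y * (d : G) = (d : G) * y := mul_inv_eq_iff_eq_mul.1 hyd
  -- `y²`
  have hs : ((q C.S v w 0 : C.L) : G) * (q C.S v w 0 : C.L) = 1 := congrArg Subtype.val (q_sq C.S h.hwv 0)
  have hyt := hC1.a.nrm.ht
  have hys := hC1.a.nrm.hz
  have h1 : y * y * C.t = C.t * (y * y) := by
    have : y * y * C.t * (y * y)⁻¹ = C.t := by
      calc y * y * C.t * (y * y)⁻¹ = y * (y * C.t * y⁻¹) * y⁻¹ := by group
        _ = y * (C.t * (q C.S v w 0 : C.L)) * y⁻¹ := by rw [hyt]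
        _ = (y * C.t * y⁻¹) * (y * (q C.S v w 0 : C.L) * y⁻¹) := by group
        _ = _ := by rw [hyt, hys, mul_assoc, hs, mul_one]
    exact mul_inv_eq_iff_eq_mul.1 this
  obtain ⟨r, hr⟩ := exists_lift C h1
  have hrA : r ∈ AU C.S (pl v w) := by
    have hcom : ∀ x ∈ QU C.S (pl v w), r * x = x * r := by
      intro x hx
      apply Subtype.ext
      change (r : G) * x = x * r
      have h2 : y * y * (x : G) = x * (y * y) := by
        rw [mul_assoc, hC1.comm hx, ← mul_assoc, hC1.comm hx, mul_assoc]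
      rcases hr with hr | hr
      · rwa [hr] at h2
      · rw [hr] at h2
        have h3 : C.t * ((r : G) * x) = C.t * (x * r) := by
          rw [← mul_assoc, h2, ← mul_assoc, t_comm, mul_assoc]
        exact mul_left_cancel h3
    apply h.mem_AU_of_commute
    · exact hcom _ (AU_le_QU C.S h.ti (τ_mem_AU C.S (left_mem_pl v w)))
    · exact hcom _ (AU_le_QU C.S h.ti (τ_mem_AU C.S (right_mem_pl v w)))
    · intro x hx; exact hcom _ (h.qv_mem hx 0)
    · intro x hx; exact hcom _ (h.qw_mem hx 0)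
  have hyr : y * (r : G) * y⁻¹ = r := hC1.c r (AU_le_QU C.S h.ti hrA)
  have hyy : y * y = r := by
    rcases hr with hr | hr
    · exact hr
    · exfalso
      have h2 : y * (C.t * (r : G)) * y⁻¹ = C.t * r := by rw [← hr]; group
      have h3 : y * (C.t * (r : G)) * y⁻¹ = C.t * (q C.S v w 0 : C.L) * r := by
        calc y * (C.t * (r : G)) * y⁻¹ = (y * C.t * y⁻¹) * (y * (r : G) * y⁻¹) := by group
          _ = _ := by rw [hyt, hyr]
      rw [h3] at h2
      have h4 := mul_left_cancel ((mul_right_cancel h2).trans (mul_one C.t).symm)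
      exact h.s_ne_one (Subtype.ext h4)
  have hrd : d * r = r * d := by
    apply Subtype.ext
    change (d : G) * r = r * d
    have h2 : (d : G) * (y * y) = y * y * d := by
      clear_value y
      rw [← mul_assoc, ← hydc, mul_assoc, ← hydc, mul_assoc]
    rw [hyy] at h2
    exact h2
  obtain ⟨e, he⟩ := h.sp_of_commute hdP (fun u hu hu0 => hd.dd_ne h hu hu0) hrA hrd
  have htx : ∀ x : C.L, C.t * (x : G) = x * C.t := fun x => (t_comm C x).symm
  rcases z2 e with he0 | he0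
  · rw [he, he0, zero_smul, q_zero] at hyy
    have hsq : y * y = 1 := hyy
    have hinv : y⁻¹ = y := inv_eq_of_mul_eq_one_right hsq
    rw [hinv] at hyt
    exact ⟨y, ⟨h, hsq, hyt, fun x hx => hC1.comm hx⟩, hydc⟩
  · rw [he, he0, one_smul] at hyy
    have h2 : y * C.t = C.t * (q C.S v w 0 : C.L) * y := mul_inv_eq_iff_eq_mul.1 hyt
    refine ⟨C.t * y, ⟨h, ?_, ?_, ?_⟩, ?_⟩
    · calc C.t * y * (C.t * y) = C.t * (y * C.t) * y := by group
        _ = C.t * C.t * (q C.S v w 0 : C.L) * (y * y) := by rw [h2]; group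
        _ = 1 := by rw [C.tt, hyy, one_mul, hs]
    · calc C.t * y * C.t * (C.t * y) = C.t * y * (C.t * C.t) * y := by group
        _ = C.t * (y * y) := by rw [C.tt]; group
        _ = _ := by rw [hyy]
    · intro x hx
      rw [mul_assoc, hC1.comm hx, ← mul_assoc, htx, mul_assoc]
    · rw [mul_assoc, hydc, ← mul_assoc, htx, mul_assoc]

end Cfsg.Agent.OddHalf.SpTwo

end

-- merged: Cfsg.Agent.OddHalf.SpTwo.ShortE
section

/-!
# `y_ℓ` (short roots) commutes with the transvections `b_x`, `x ∈ ℓ^⊥`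
-/

set_option autoImplicit false
set_option linter.unusedSimpArgs false
set_option linter.unusedSectionVars false

open scoped commutatorElement

namespace Cfsg.Agent.OddHalf.SpTwo

open Cfsg.Agent.StandardComponent.SpTwo
open Cfsg.Agent.OddHalf.SpTwoN

theorem ττ_mem_QU {X V : Type*} [Group X] [AddCommGroup V] [Module (ZMod 2) V] (D : SpData X V)
    {U : Submodule (ZMod 2) V} (hU : U ≤ perp D U) {x μ : V} (hx : x ∈ perp D U) (hμ : μ ∈ U) :
    D.τ (x + μ) * D.τ x ∈ QU D U := by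
  have hx0 : x + μ ∈ perp D U := add_mem hx (hU hμ)
  constructor
  · intro u hu
    have e1 : ∀ z ∈ perp D U, D.ρ (D.τ z) u = u := by
      intro z hz
      rw [D.hτ, D.symm, hz u hu, zero_smul, add_zero]
    rw [D.ρ_mul, e1 x hx, e1 _ hx0]
  · intro z hz
    have e2 : D.B (z + D.B z x • x) (x + μ) = D.B z x := by
      rw [B_add, map_smul, LinearMap.smul_apply, map_add, map_add, D.alt, hz μ hμ, hx μ hμ]; simp
    rw [D.ρ_mul, D.hτ x z, D.hτ, e2]
    rcases z2 (D.B z x) with h1 | h1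
    · rw [h1, zero_smul, zero_smul, add_zero, add_zero, aa]; exact zero_mem _
    · rw [h1, one_smul, one_smul]
      have : z + x + (x + μ) + z = μ + (z + z) + (x + x) := by abel
      rw [this, aa, aa, add_zero, add_zero]; exact hμ

variable {G V : Type*} [Group G] [AddCommGroup V] [Module (ZMod 2) V] {C : Ctx G V}
variable {v w : V} {g : G}

namespace IsPre

theorem comm_s {y : G} (hy : IsPre C v w y) : y * (q C.S v w 0 : C.L) = (q C.S v w 0 : C.L) * y := by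
  have := hy.comm _ (hy.ln.qv_mem (hy.ln.ti (right_mem_pl v w)) 0)
  exact this

theorem comm_sp {y : G} (hy : IsPre C v w y) (e : ZMod 2) :
    y * (q C.S v (e • w) 0 : C.L) = (q C.S v (e • w) 0 : C.L) * y :=
  hy.comm _ (AU_le_QU C.S hy.ln.ti (hy.ln.sp_mem e))

theorem inv_eq {y : G} (hy : IsPre C v w y) : y⁻¹ = y := inv_eq_of_mul_eq_one_right hy.sq

/-- two versions of `y_ℓ` differ by an element of `A_ℓ` -/
theorem unique {y y' : G} (hy : IsPre C v w y) (hy' : IsPre C v w y') :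
    ∃ a ∈ AU C.S (pl v w), y' = y * (a : G) := by
  have hfinV := C.finV
  have h := hy.ln
  have hs : ((q C.S v w 0 : C.L) : G) * (q C.S v w 0 : C.L) = 1 := congrArg Subtype.val (q_sq C.S h.hwv 0)
  have h1 : y * C.t = C.t * (q C.S v w 0 : C.L) * y := by
    calc y * C.t = y * C.t * (y * y) := by rw [hy.sq, mul_one]
      _ = (y * C.t * y) * y := by group
      _ = _ := by rw [hy.conj_t]
  have h1' : y' * C.t = C.t * (q C.S v w 0 : C.L) * y' := by
    calc y' * C.t = y' * C.t * (y' * y') := by rw [hy'.sq, mul_one]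
      _ = (y' * C.t * y') * y' := by group
      _ = _ := by rw [hy'.conj_t]
  have h2 : y * y' * C.t = C.t * (y * y') := by
    calc y * y' * C.t = y * (y' * C.t) := by group
      _ = (y * C.t) * (q C.S v w 0 : C.L) * y' := by rw [h1']; group
      _ = C.t * (q C.S v w 0 : C.L) * (y * (q C.S v w 0 : C.L)) * y' := by rw [h1]; group
      _ = C.t * ((q C.S v w 0 : C.L) * (q C.S v w 0 : C.L)) * (y * y') := by rw [hy.comm_s]; group
      _ = _ := by rw [hs, mul_one]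
  obtain ⟨r, hr⟩ := exists_lift C h2
  have hcomm : ∀ x ∈ QU C.S (pl v w), r * x = x * r := by
    intro x hx
    apply Subtype.ext
    change (r : G) * x = x * r
    have h3 : y * y' * (x : G) = x * (y * y') := by
      rw [mul_assoc, hy'.comm x hx, ← mul_assoc, hy.comm x hx, mul_assoc]
    rcases hr with hr | hr
    · rwa [hr] at h3
    · rw [hr] at h3
      have h4 : C.t * ((r : G) * x) = C.t * (x * r) := by
        rw [← mul_assoc, h3, ← mul_assoc, t_comm, mul_assoc]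
      exact mul_left_cancel h4
  have hrA : r ∈ AU C.S (pl v w) := by
    apply h.mem_AU_of_commute
    · exact hcomm _ (AU_le_QU C.S h.ti (τ_mem_AU C.S (left_mem_pl v w)))
    · exact hcomm _ (AU_le_QU C.S h.ti (τ_mem_AU C.S (right_mem_pl v w)))
    · intro x hx; exact hcomm _ (h.qv_mem hx 0)
    · intro x hx; exact hcomm _ (h.qw_mem hx 0)
  have hyy : y' = y * (y * y') := by rw [← mul_assoc, hy.sq, one_mul]
  rcases hr with hr | hr
  · exact ⟨r, hrA, by rw [← hr]; exact hyy⟩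
  · exfalso
    have hrr : (r : G) * r = 1 := congrArg Subtype.val (AU_sq C.S h.ti hrA)
    have hyr : y * (r : G) = r * y := hy.comm r (AU_le_QU C.S h.ti hrA)
    have h5 : y' = y * C.t * r := by rw [hyy, hr, mul_assoc]
    have h6 : y' * y' = (q C.S v w 0 : C.L) := by
      calc y' * y' = y * C.t * r * (y * C.t * r) := by rw [← h5]
        _ = y * C.t * ((r : G) * y) * C.t * r := by group
        _ = y * C.t * y * ((r : G) * C.t) * r := by rw [← hyr]; group
        _ = (y * C.t * y) * (C.t * r) * r := by rw [t_comm]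
        _ = C.t * ((q C.S v w 0 : C.L) * C.t) * (r * r) := by rw [hy.conj_t]; group
        _ = (C.t * C.t) * (q C.S v w 0 : C.L) * (r * r) := by rw [t_comm]; group
        _ = _ := by rw [C.tt, hrr, one_mul, mul_one]
    rw [hy'.sq] at h6
    exact h.s_ne_one (Subtype.ext h6.symm)

theorem conj_PU {y : G} (hy : IsPre C v w y) {m : C.L} (hm : m ∈ PU C.S (pl v w)) :
    IsPre C v w ((m : G) * y * (m : G)⁻¹) := by
  have hfinV := C.finV
  have h := hy.ln
  have hms : m * q C.S v w 0 * m⁻¹ = q C.S v w 0 := by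
    rw [(commute_s_iff C.S h.hv h.hw h.hvw).2 hm, mul_inv_cancel_right]
  have hms' : (m : G) * (q C.S v w 0 : C.L) * (m : G)⁻¹ = (q C.S v w 0 : C.L) := congrArg Subtype.val hms
  have hmt : (m : G)⁻¹ * C.t * m = C.t := by
    rw [mul_assoc, ← t_comm, ← mul_assoc, inv_mul_cancel, one_mul]
  refine ⟨h, ?_, ?_, ?_⟩
  · calc (m : G) * y * (m : G)⁻¹ * ((m : G) * y * (m : G)⁻¹) = m * (y * y) * (m : G)⁻¹ := by group
      _ = 1 := by rw [hy.sq]; group
  · calc (m : G) * y * (m : G)⁻¹ * C.t * ((m : G) * y * (m : G)⁻¹) =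
        m * (y * ((m : G)⁻¹ * C.t * m) * y) * (m : G)⁻¹ := by group
      _ = (m : G) * C.t * (q C.S v w 0 : C.L) * (m : G)⁻¹ := by rw [hmt, hy.conj_t]; group
      _ = C.t * ((m : G) * (q C.S v w 0 : C.L) * (m : G)⁻¹) := by rw [t_comm]; group
      _ = _ := by rw [hms']
  · intro x hx
    have hx' : m⁻¹ * x * m ∈ QU C.S (pl v w) := by
      have := QU_conj C.S (inv_mem hm) hx
      rwa [inv_inv] at this
    have h1 := hy.comm _ hx'
    have h2 : y * ((m : G)⁻¹ * x * m) = ((m : G)⁻¹ * x * m) * y := h1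
    calc (m : G) * y * (m : G)⁻¹ * x = m * (y * ((m : G)⁻¹ * x * m)) * (m : G)⁻¹ := by group
      _ = m * (((m : G)⁻¹ * x * m) * y) * (m : G)⁻¹ := by rw [h2]
      _ = _ := by group

/-- the action of the transvections `b_x`, `x ∈ ℓ^⊥` -/
theorem exists_e {y : G} (hy : IsPre C v w y) {a b : V} (hd : Dual C.S v w a b)
    (hyd : y * (dd C.S v w a b : C.L) = (dd C.S v w a b : C.L) * y) {x : V} (hx : x ∈ perp C.S (pl v w)) :
    ∃ e : ZMod 2, C.b x * y * C.b x = y * (q C.S v (e • w) 0 : C.L) := by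
  have hfinV := C.finV
  have h := hy.ln
  have hdP := hd.dd_mem h
  -- vectors orthogonal to the dual basis
  have key : ∀ x0 ∈ perp C.S (pl v w), C.S.B x0 a = 0 → C.S.B x0 b = 0 →
      ∃ e : ZMod 2, C.b x0 * y * C.b x0 = y * (q C.S v (e • w) 0 : C.L) := by
    intro x0 hx0 h1 h2
    have hx0' := (mem_perp_pl C.S).1 hx0
    have hP : C.S.τ x0 ∈ PU C.S (pl v w) := τ_mem_PU C.S hx0
    have h3 := hy.conj_PU hP
    obtain ⟨r, hr, hr'⟩ := hy.unique h3
    have e1 : ((C.S.τ x0 : C.L) : G) = C.b x0 := rfl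
    have e2 : (C.b x0)⁻¹ = C.b x0 := by
      rw [← e1, ← Subgroup.coe_inv, C.S.τ_inv]
    rw [e1, e2] at hr'
    -- `d` commutes with `b x0`
    have c1 : Commute (C.S.τ x0) (C.S.τ a) := C.S.τ_commute h1
    have c2 : Commute (C.S.τ x0) (C.S.τ b) := C.S.τ_commute h2
    have c3 : Commute (C.S.τ x0) (C.S.τ (v + a)) := C.S.τ_commute (by rw [map_add, hx0'.1, h1, add_zero])
    have c4 : Commute (C.S.τ x0) (C.S.τ (w + b)) := C.S.τ_commute (by rw [map_add, hx0'.2, h2, add_zero])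
    have c5 : Commute (C.S.τ x0) (dd C.S v w a b) := (c1.mul_right c2).mul_right (c3.mul_right c4)
    have c6 : C.b x0 * (dd C.S v w a b : C.L) = (dd C.S v w a b : C.L) * C.b x0 :=
      congrArg Subtype.val c5.eq
    have c7 : dd C.S v w a b * r = r * dd C.S v w a b := by
      apply Subtype.ext
      change ((dd C.S v w a b : C.L) : G) * r = r * (dd C.S v w a b : C.L)
      have h4 : (r : G) = y * (C.b x0 * y * C.b x0) := by
        rw [hr', ← mul_assoc, hy.sq, one_mul]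
      generalize ((dd C.S v w a b : C.L) : G) = d at *
      rw [h4]
      have k1 : Commute d y := hyd.symm
      have k2 : Commute d (C.b x0) := c6.symm
      exact (k1.mul_right ((k2.mul_right k1).mul_right k2)).eq
    obtain ⟨e, he⟩ := h.sp_of_commute hdP (fun u hu hu0 => hd.dd_ne h hu hu0) hr c7
    exact ⟨e, by rw [hr', he]⟩
  have hx' := (mem_perp_pl C.S).1 hx
  set μ := C.S.B x b • v + C.S.B x a • w with hμ
  have hμl : μ ∈ pl v w :=
    add_mem (Submodule.smul_mem _ _ (left_mem_pl v w)) (Submodule.smul_mem _ _ (right_mem_pl v w))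
  have hva : C.S.B v a = 0 := by rw [C.S.symm]; exact hd.av
  have hwa : C.S.B w a = 1 := by rw [C.S.symm]; exact hd.aw
  have hvb : C.S.B v b = 1 := by rw [C.S.symm]; exact hd.bv
  have hwb : C.S.B w b = 0 := by rw [C.S.symm]; exact hd.bw
  have hx0 : x + μ ∈ perp C.S (pl v w) := add_mem hx (h.ti hμl)
  obtain ⟨e, he⟩ := key (x + μ) hx0 (by
      rw [B_add, hμ, B_add, map_smul, map_smul, LinearMap.smul_apply, LinearMap.smul_apply, hva, hwa,
        smul_zero, zero_add, smul_eq_mul, mul_one, z2_add]) (by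
      rw [B_add, hμ, B_add, map_smul, map_smul, LinearMap.smul_apply, LinearMap.smul_apply, hvb, hwb,
        smul_zero, add_zero, smul_eq_mul, mul_one, z2_add])
  refine ⟨e, ?_⟩
  -- `τ (x + μ) τ x ∈ Q_ℓ`
  have hrQ := ττ_mem_QU C.S h.ti hx hμl
  have h1 := hy.comm _ hrQ
  have h2 : y * (C.b (x + μ) * C.b x) = (C.b (x + μ) * C.b x) * y := h1
  have hbb : ∀ u : V, C.b u * C.b u = 1 := fun u => congrArg Subtype.val (C.S.τ_sq u)
  have hpp := hbb (x + μ)
  generalize C.b (x + μ) = p at *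
  calc C.b x * y * C.b x = p * (p * C.b x * y) * C.b x := by
        rw [mul_assoc p (C.b x) y, ← mul_assoc p p, hpp, one_mul]
    _ = p * (y * (p * C.b x)) * C.b x := by rw [h2]
    _ = (p * y * p) * (C.b x * C.b x) := by group
    _ = _ := by rw [he, hbb, mul_one]

end IsPre

/-- second version of `y_ℓ` -/
structure IsPre2 (C : Ctx G V) (v w : V) (y : G) : Prop where
  pre : IsPre C v w y
  e : ∀ x ∈ perp C.S (pl v w), ∃ e : ZMod 2, C.b x * y * C.b x = y * (q C.S v (e • w) 0 : C.L)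

theorem b_sq (C : Ctx G V) (u : V) : C.b u * C.b u = 1 := congrArg Subtype.val (C.S.τ_sq u)

theorem b_inv (C : Ctx G V) (u : V) : (C.b u)⁻¹ = C.b u := inv_eq_of_mul_eq_one_right (b_sq C u)

theorem ln_le_pl {V : Type*} [AddCommGroup V] [Module (ZMod 2) V] {v w x : V} (hx : x ∈ SpTwo.ln v) :
    x ∈ pl v w := by
  rcases mem_ln.1 hx with rfl | rfl
  · exact zero_mem _
  · exact left_mem_pl _ _

/-- the product of a transvection and `s` is not a transvection -/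
theorem no_τ [Finite V] {X : Type*} [Group X] (D : SpData X V) (h : IsLn D v w) {x z : V}
    (hx : x ∈ perp D (pl v w)) (hxl : x ∉ pl v w) {e2 e3 : ZMod 2}
    (h1 : D.τ x * q D v (e2 • w) 0 * q D v (e3 • (x + w)) 0 = D.τ z) : e2 = 0 := by
  have hx' := (mem_perp_pl D).1 hx
  have hvx : D.B v x = 0 := by rw [D.symm]; exact hx'.1
  have hwx : D.B w x = 0 := by rw [D.symm]; exact hx'.2
  have hxv : x ∉ SpTwo.ln v := fun h1 => hxl (ln_le_pl h1)
  rcases z2 e2 with h2 | h2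
  · exact h2
  exfalso
  have hxwv : D.B (x + w) v = 0 := by rw [B_add, hx'.1, h.hwv, add_zero]
  rcases z2 e3 with h3 | h3
  · rw [h2, h3, one_smul, zero_smul, q_zero, mul_one] at h1
    -- `τ x s_{v,w}`
    have hwpl : w ∉ pl v x := by
      intro h4
      rcases mem_pl.1 h4 with h5 | h5 | h5 | h5
      · exact h.hw0 h5
      · exact h.hw (by rw [h5]; exact self_mem_ln _)
      · exact hxl (by rw [← h5]; exact right_mem_pl _ _)
      · refine hxl ?_
        have : x = v + w := by rw [h5, aac]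
        rw [this]; exact add_mem (left_mem_pl _ _) (right_mem_pl _ _)
    obtain ⟨y, hy, hyw⟩ := sep D hwpl
    have hy' := (mem_perp_pl D).1 hy
    have e1 := (ρ_eq D).1 h1 y
    rw [D.ρ_mul, q_act D h.hwv hy'.1, hyw, one_smul, D.hτ, B_add, hy'.2, hvx, add_zero, zero_smul,
      add_zero, D.hτ] at e1
    have e2 := add_left_cancel e1
    have hzv : z = v := by
      rcases z2 (D.B y z) with h4 | h4
      · rw [h4, zero_smul] at e2; exact absurd e2 h.hv
      · rw [h4, one_smul] at e2; exact e2.symm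
    obtain ⟨y', hy', hyx⟩ := sep D hxl
    have hy'' := (mem_perp_pl D).1 hy'
    have e3 := (ρ_eq D).1 h1 y'
    rw [D.ρ_mul, q_act D h.hwv hy''.1, hy''.2, zero_smul, add_zero, D.hτ, hyx, one_smul, hzv, D.hτ,
      hy''.1, zero_smul] at e3
    exact hxl (by rw [add_left_cancel e3]; exact zero_mem _)
  · rw [h2, h3, one_smul, one_smul, mul_assoc, q_mul D h.hwv hxwv, map_add, hwx, D.alt] at h1
    have e1 : w + (x + w) = x := by
      have : w + (x + w) = x + (w + w) := by abel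
      rw [this, aa, add_zero]
    rw [e1] at h1
    have e2 : q D v x (0 + 0 + (0 + 0)) = D.τ x * (D.τ v * D.τ (v + x)) := by
      have : D.τ v * D.τ x = D.τ x * D.τ v := D.τ_commute hvx
      rw [add_zero, add_zero, q, zero_smul, D.τ_zero, mul_one, this, mul_assoc]
    rw [e2, ← mul_assoc, D.τ_sq, one_mul] at h1
    refine ττ_ne_τ D h.hv (fun h4 => hxv ?_) (by rw [B_add, D.alt, hx'.1, add_zero]) h1
    have := add_mem (self_mem_ln v) h4
    rwa [aac] at this

/-- **`θ = 0`**: `y_ℓ` commutes with `b_x`, `x ∈ ℓ^⊥` -/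
theorem IsPre2.comm_b (hall : ∀ a b : V, IsLn C.S a b → ∃ y, IsPre2 C a b y) {y : G}
    (hy : IsPre2 C v w y) {x : V} (hx : x ∈ perp C.S (pl v w)) : y * C.b x = C.b x * y := by
  have hfinV := C.finV
  have h := hy.pre.ln
  have hx' := (mem_perp_pl C.S).1 hx
  by_cases hxl : x ∈ pl v w
  · exact hy.pre.comm _ (AU_le_QU C.S h.ti (τ_mem_AU C.S hxl))
  obtain ⟨e2, he2⟩ := hy.e x hx
  -- the three lines
  have hvx : C.S.B v x = 0 := by rw [C.S.symm]; exact hx'.1
  have hwx : C.S.B w x = 0 := by rw [C.S.symm]; exact hx'.2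
  have hxv : x ∉ SpTwo.ln v := fun h1 => hxl (ln_le_pl h1)
  have hL1 : IsLn C.S v x := ⟨h.hv, hxv, hvx⟩
  have hL3 : IsLn C.S v (x + w) := by
    refine ⟨h.hv, fun h1 => hxl ?_, by rw [map_add, hvx, h.hvw, add_zero]⟩
    have h2 := add_mem (ln_le_pl (w := w) h1) (right_mem_pl v w)
    rwa [add_assoc, aa, add_zero] at h2
  obtain ⟨y1, hy1⟩ := hall v x hL1
  obtain ⟨y3, hy3⟩ := hall v (x + w) hL3
  have hx3 : x ∈ perp C.S (pl v (x + w)) := (mem_perp_pl C.S).2 ⟨hx'.1, by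
    rw [map_add, C.S.alt, hx'.2, add_zero]⟩
  obtain ⟨e3, he3⟩ := hy3.e x hx3
  have hxwv : C.S.B (x + w) v = 0 := by rw [B_add, hx'.1, h.hwv, add_zero]
  have hxww : C.S.B (x + w) w = 0 := by rw [B_add, hx'.2, C.S.alt, add_zero]
  have hxwx : C.S.B (x + w) x = 0 := by rw [B_add, hwx, C.S.alt, add_zero]
  have hw1 : w ∈ perp C.S (pl v x) := (mem_perp_pl C.S).2 ⟨h.hwv, hwx⟩
  have hxw1 : x + w ∈ perp C.S (pl v x) := (mem_perp_pl C.S).2 ⟨hxwv, hxwx⟩
  have hxw2 : x + w ∈ perp C.S (pl v w) := (mem_perp_pl C.S).2 ⟨hxwv, hxww⟩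
  -- commutations
  have c12 : ∀ f : ZMod 2, y1 * (q C.S v (f • w) 0 : C.L) = (q C.S v (f • w) 0 : C.L) * y1 := fun f =>
    hy1.pre.comm _ (hL1.qv_mem (Submodule.smul_mem _ _ hw1) 0)
  have c13 : ∀ f : ZMod 2, y1 * (q C.S v (f • (x + w)) 0 : C.L) = (q C.S v (f • (x + w)) 0 : C.L) * y1 :=
    fun f => hy1.pre.comm _ (hL1.qv_mem (Submodule.smul_mem _ _ hxw1) 0)
  have c23 : ∀ f : ZMod 2, y * (q C.S v (f • (x + w)) 0 : C.L) = (q C.S v (f • (x + w)) 0 : C.L) * y :=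
    fun f => hy.pre.comm _ (h.qv_mem (Submodule.smul_mem _ _ hxw2) 0)
  have c22 := fun f => hy.pre.comm_sp f
  have c33 := fun f => hy3.pre.comm_sp f
  have c1b : y1 * C.b x = C.b x * y1 :=
    hy1.pre.comm _ (AU_le_QU C.S hL1.ti (τ_mem_AU C.S (right_mem_pl v x)))
  have m2 : y * C.b x = C.b x * ((q C.S v (e2 • w) 0 : C.L) * y) := by
    calc y * C.b x = C.b x * (C.b x * y * C.b x) := by
          rw [← mul_assoc, ← mul_assoc, b_sq, one_mul]
      _ = _ := by rw [he2, c22]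
  have m3 : y3 * C.b x = C.b x * ((q C.S v (e3 • (x + w)) 0 : C.L) * y3) := by
    calc y3 * C.b x = C.b x * (C.b x * y3 * C.b x) := by
          rw [← mul_assoc, ← mul_assoc, b_sq, one_mul]
      _ = _ := by rw [he3, c33]
  -- the product
  have t1 : y1 * C.t = C.t * (q C.S v x 0 : C.L) * y1 := by
    calc y1 * C.t = y1 * C.t * (y1 * y1) := by rw [hy1.pre.sq, mul_one]
      _ = (y1 * C.t * y1) * y1 := by group
      _ = _ := by rw [hy1.pre.conj_t]
  have t2 : y * C.t = C.t * (q C.S v w 0 : C.L) * y := by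
    calc y * C.t = y * C.t * (y * y) := by rw [hy.pre.sq, mul_one]
      _ = (y * C.t * y) * y := by group
      _ = _ := by rw [hy.pre.conj_t]
  have t3 : y3 * C.t = C.t * (q C.S v (x + w) 0 : C.L) * y3 := by
    calc y3 * C.t = y3 * C.t * (y3 * y3) := by rw [hy3.pre.sq, mul_one]
      _ = (y3 * C.t * y3) * y3 := by group
      _ = _ := by rw [hy3.pre.conj_t]
  have hsss : ((q C.S v x 0 : C.L) : G) * ((q C.S v w 0 : C.L) * (q C.S v (x + w) 0 : C.L)) = 1 := by
    have : q C.S v x 0 * (q C.S v w 0 * q C.S v (x + w) 0) = 1 := by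
      rw [q_mul C.S h.hwv hxwv, map_add, hwx, C.S.alt, q_mul C.S hx'.1 (by
        rw [B_add, h.hwv, hxwv, add_zero])]
      have e1 : x + (w + (x + w)) = 0 := by
        have : x + (w + (x + w)) = (x + x) + (w + w) := by abel
        rw [this, aa, aa, add_zero]
      rw [e1, map_add, map_add, hx'.2, C.S.alt]
      simp only [add_zero]
      exact q_zero C.S v
    exact congrArg Subtype.val this
  have c12' := c12 1
  have c13' := c13 1
  have c23' := c23 1
  rw [one_smul] at c12' c13' c23'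
  have hπt : y1 * y * y3 * C.t = C.t * (y1 * y * y3) := by
    have hc2 := c12 e2
    have hc3 := c13 e3
    clear m2 m3 he2 he3 hc2 hc3 c1b c12 c13 c23 c22 c33
    generalize ((q C.S v x 0 : C.L) : G) = s1 at *
    generalize ((q C.S v w 0 : C.L) : G) = s2 at *
    generalize ((q C.S v (x + w) 0 : C.L) : G) = s3 at *
    calc y1 * y * y3 * C.t = y1 * (y * (y3 * C.t)) := by group
      _ = y1 * ((y * C.t) * s3 * y3) := by rw [t3]; group
      _ = y1 * (C.t * s2 * (y * s3) * y3) := by rw [t2]; group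
      _ = (y1 * C.t) * s2 * s3 * (y * y3) := by rw [c23']; group
      _ = C.t * s1 * (y1 * s2) * s3 * (y * y3) := by rw [t1]; group
      _ = C.t * s1 * s2 * (y1 * s3) * (y * y3) := by rw [c12']; group
      _ = C.t * (s1 * (s2 * s3)) * (y1 * y * y3) := by rw [c13']; group
      _ = _ := by rw [hsss, mul_one]
  obtain ⟨r, hr⟩ := exists_lift C hπt
  have hπb : y1 * y * y3 * C.b x = (C.b x * (q C.S v (e2 • w) 0 : C.L) * (q C.S v (e3 • (x + w)) 0 : C.L)) *
      (y1 * y * y3) := by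
    have hc2 := c12 e2
    have hc3 := c13 e3
    have hc4 := c23 e3
    clear c12 c13 c23 c22 c33 he2 he3
    generalize ((q C.S v (e2 • w) 0 : C.L) : G) = s2 at *
    generalize ((q C.S v (e3 • (x + w)) 0 : C.L) : G) = s3 at *
    calc y1 * y * y3 * C.b x = y1 * (y * (y3 * C.b x)) := by group
      _ = y1 * ((y * C.b x) * (s3 * y3)) := by rw [m3]; group
      _ = (y1 * C.b x) * (s2 * (y * s3) * y3) := by rw [m2]; group
      _ = C.b x * (y1 * s2) * (s3 * y * y3) := by rw [c1b, hc4]; group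
      _ = C.b x * s2 * (y1 * s3) * (y * y3) := by rw [hc2]; group
      _ = _ := by rw [hc3]; group
  have h4 := conj_lift C hr (C.S.τ x)
  have h5 : y1 * y * y3 * C.b x * (y1 * y * y3)⁻¹ = ((r * C.S.τ x * r⁻¹ : C.L) : G) := h4
  rw [hπb, mul_inv_cancel_right] at h5
  have h6 : C.S.τ x * q C.S v (e2 • w) 0 * q C.S v (e3 • (x + w)) 0 = C.S.τ (C.S.ρ r x) := by
    rw [← C.S.conj_τ]
    exact Subtype.ext h5
  have h7 := no_τ C.S h hx hxl h6
  rw [m2, h7, zero_smul, q_zero]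
  change C.b x * (1 * y) = _
  rw [one_mul]

end Cfsg.Agent.OddHalf.SpTwo

end

-- merged: Cfsg.Agent.OddHalf.SpTwo.ShortOut
section

/-!
# Output for short roots: `y_ℓ` for every totally isotropic line
-/

set_option autoImplicit false
set_option linter.unusedSimpArgs false
set_option linter.unusedSectionVars false

open scoped commutatorElement

namespace Cfsg.Agent.OddHalf.SpTwo

open Cfsg.Agent.StandardComponent.SpTwo
open Cfsg.Agent.OddHalf.SpTwoN

section Sp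

variable {X V : Type*} [Group X] [AddCommGroup V] [Module (ZMod 2) V] {D : SpData X V}

theorem mem_FU_pl {v w : V} {m : X} (hv : D.ρ m v = v) (hw : D.ρ m w = w) : m ∈ FU D (pl v w) := by
  intro u hu
  rcases mem_pl.1 hu with rfl | rfl | rfl | rfl
  · rw [map_zero]
  · exact hv
  · exact hw
  · rw [map_add, hv, hw]

/-- the pointwise stabiliser is generated by transvections and the unipotent radical -/
theorem exists_TG_QU [Finite V] {U : Submodule (ZMod 2) V} (hU : U ≤ perp D U) {m : X} (hm : m ∈ FU D U) :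
    ∃ p ∈ TG D (perp D U : Set V), p⁻¹ * m ∈ QU D U := by
  have hmP := FU_le_PU D hm
  obtain ⟨p, hp, hpx⟩ := gen D hU (fun x => D.ρ m x) (fun x hx => PU_perp D hmP hx)
    (fun x hx => by rw [hm x hx]; exact hx)
    (fun x _ y _ => by rw [map_add, aa]; exact zero_mem _) (fun x _ y _ => D.inv m x y)
  have hpU : ∀ u ∈ U, D.ρ p⁻¹ u = u := fun u hu => TG_fix D (inv_mem hp) hu
  refine ⟨p, hp, fun u hu => by rw [D.ρ_mul, hm u hu, hpU u hu], fun x hx => ?_⟩
  have h1 := hpx x hx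
  have h2 : D.ρ (p⁻¹ * m) x + x = D.ρ p⁻¹ (D.ρ p x + D.ρ m x) := by
    rw [map_add, D.ρ_inv_apply, D.ρ_mul, add_comm]
  rw [h2, hpU _ h1]
  exact h1

theorem IsLn.map {v w : V} (h : IsLn D v w) (m : X) : IsLn D (D.ρ m v) (D.ρ m w) := by
  refine ⟨fun h1 => h.hv (D.ρ_inj m (by rw [h1, map_zero])), fun h1 => ?_, by rw [D.inv]; exact h.hvw⟩
  rcases mem_ln.1 h1 with h2 | h2
  · exact h.hw0 (D.ρ_inj m (by rw [h2, map_zero]))
  · exact h.hw (by rw [D.ρ_inj m h2]; exact self_mem_ln v)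

theorem map_pl {v w u : V} (m : X) (hu : u ∈ pl v w) : D.ρ m u ∈ pl (D.ρ m v) (D.ρ m w) := by
  rcases mem_pl.1 hu with rfl | rfl | rfl | rfl
  · rw [map_zero]; exact zero_mem _
  · exact left_mem_pl _ _
  · exact right_mem_pl _ _
  · rw [map_add]; exact add_mem (left_mem_pl _ _) (right_mem_pl _ _)

/-- a 3-cycle on a line -/
theorem three_cases {v w : V} (hv0 : v ≠ 0) (hw0 : w ≠ 0) (hvw : v + w ≠ 0) {m : X} (hm : m ∈ PU D (pl v w))
    (hm0 : ∀ u ∈ pl v w, u ≠ 0 → D.ρ m u ≠ u) :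
    (D.ρ m v = w ∧ D.ρ m w = v + w) ∨ (D.ρ m v = v + w ∧ D.ρ m w = v) := by
  have h0 : ∀ u : V, u ≠ 0 → D.ρ m u ≠ 0 := fun u hu h1 => hu (D.ρ_inj m (by rw [h1, map_zero]))
  have e1 := mem_pl.1 ((hm v).2 (left_mem_pl v w))
  have e2 := mem_pl.1 ((hm w).2 (right_mem_pl v w))
  have e3 := hm0 v (left_mem_pl v w) hv0
  have e4 := hm0 w (right_mem_pl v w) hw0
  have e5 := hm0 (v + w) (add_mem (left_mem_pl v w) (right_mem_pl v w)) hvw
  rcases e1 with e1 | e1 | e1 | e1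
  · exact absurd e1 (h0 v hv0)
  · exact absurd e1 e3
  · rcases e2 with e2 | e2 | e2 | e2
    · exact absurd e2 (h0 w hw0)
    · exfalso
      rw [map_add, e1, e2] at e5
      exact e5 (add_comm w v)
    · exact absurd e2 e4
    · exact Or.inl ⟨e1, e2⟩
  · rcases e2 with e2 | e2 | e2 | e2
    · exact absurd e2 (h0 w hw0)
    · exact Or.inr ⟨e1, e2⟩
    · exact absurd e2 e4
    · exfalso
      have : v = w := D.ρ_inj m (by rw [e1, e2])
      exact hvw (by rw [this, aa])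

end Sp

variable {G V : Type*} [Group G] [AddCommGroup V] [Module (ZMod 2) V] {C : Ctx G V}
variable {v w : V} {g : G}

/-- **the output for short roots** -/
structure IsX (C : Ctx G V) (v w : V) (y : G) : Prop where
  ln : IsLn C.S v w
  sq : y * y = 1
  conj_t : y * C.t * y = C.t * (q C.S v w 0 : C.L)
  comm : ∀ m ∈ FU C.S (pl v w), y * (m : G) = (m : G) * y
  comm3 : ∀ m ∈ PU C.S (pl v w), (∀ u ∈ pl v w, u ≠ 0 → C.S.ρ m u ≠ u) → y * (m : G) = (m : G) * y

theorem IsPre.isX {y : G} (hy : IsPre C v w y) {a b : V} (hd : Dual C.S v w a b)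
    (hyd : y * (dd C.S v w a b : C.L) = (dd C.S v w a b : C.L) * y)
    (hb : ∀ x ∈ perp C.S (pl v w), y * C.b x = C.b x * y) : IsX C v w y := by
  have hfinV := C.finV
  have h := hy.ln
  have hTG : ∀ p ∈ TG C.S (perp C.S (pl v w) : Set V), y * (p : G) = (p : G) * y := by
    intro p hp
    induction hp using Subgroup.closure_induction with
    | mem p hp =>
      obtain ⟨x, hx, rfl⟩ := hp
      exact hb x hx
    | one =>
      change y * 1 = 1 * y
      rw [mul_one, one_mul]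
    | mul p p' _ _ h1 h2 =>
      change y * ((p : G) * p') = (p * p') * y
      rw [← mul_assoc, h1, mul_assoc, h2, mul_assoc]
    | inv p _ h1 =>
      change y * (p : G)⁻¹ = (p : G)⁻¹ * y
      have : Commute y (p : G) := h1
      exact this.inv_right.eq
  have hF : ∀ m ∈ FU C.S (pl v w), y * (m : G) = (m : G) * y := by
    intro m hm
    obtain ⟨p, hp, hpm⟩ := exists_TG_QU h.ti hm
    have h1 := hTG p hp
    have h2 := hy.comm _ hpm
    have h3 : (m : G) = p * ((p : G)⁻¹ * m) := by group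
    have h4 : y * ((p : G)⁻¹ * m) = ((p : G)⁻¹ * m) * y := h2
    calc y * (m : G) = y * p * ((p : G)⁻¹ * m) := by group
      _ = p * (y * ((p : G)⁻¹ * m)) := by rw [h1]; group
      _ = _ := by rw [h4]; group
  refine ⟨h, hy.sq, hy.conj_t, hF, ?_⟩
  intro m hm hm0
  have hdv := hd.dd_v h
  have hdw := hd.dd_w h
  have hdvw := hd.dd_vw h
  generalize dd C.S v w a b = d at *
  have c1 : Commute y (d : G) := hyd
  rcases three_cases h.hv h.hw0 h.add_ne hm hm0 with ⟨h1, h2⟩ | ⟨h1, h2⟩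
  · have h3 : d⁻¹ * m ∈ FU C.S (pl v w) := by
      apply mem_FU_pl
      · rw [C.S.ρ_mul, h1]
        apply C.S.ρ_inj d
        rw [C.S.ρ_apply_inv, hdv]
      · rw [C.S.ρ_mul, h2]
        apply C.S.ρ_inj d
        rw [C.S.ρ_apply_inv, hdw]
    have c2 : Commute y ((d⁻¹ * m : C.L) : G) := hF _ h3
    have c3 := c1.mul_right c2
    have e : (d : G) * ((d⁻¹ * m : C.L) : G) = m := by
      change (d : G) * ((d : G)⁻¹ * m) = m
      group
    rw [e] at c3
    exact c3.eq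
  · have h3 : d * m ∈ FU C.S (pl v w) := by
      apply mem_FU_pl
      · rw [C.S.ρ_mul, h1, hdvw]
      · rw [C.S.ρ_mul, h2, hdv]
    have c2 : Commute y ((d * m : C.L) : G) := hF _ h3
    have c3 := c1.inv_right.mul_right c2
    have e : (d : G)⁻¹ * ((d * m : C.L) : G) = m := by
      change (d : G)⁻¹ * ((d : G) * m) = m
      group
    rw [e] at c3
    exact c3.eq

/-- **existence of `y_ℓ`** for every totally isotropic line -/
theorem exists_x [Finite G] (C : Ctx G V)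
    (hs : ∃ g v w, IsLn C.S v w ∧ g * C.t * g⁻¹ = C.t * (q C.S v w 0 : C.L)) (h : IsLn C.S v w) :
    ∃ y, IsX C v w y := by
  have hfinV := C.finV
  obtain ⟨g, v', w', h', hg⟩ := hs
  have hpre : ∀ a b : V, IsLn C.S a b → ∃ y c d, IsPre2 C a b y ∧ Dual C.S a b c d ∧
      y * (dd C.S a b c d : C.L) = (dd C.S a b c d : C.L) * y := by
    intro a b hab
    obtain ⟨n, hn, hn'⟩ := start_short C h'.hv h'.hvw h'.hw ⟨g, hg⟩ hab.hv hab.hvw hab.hw
    obtain ⟨n1, hn1⟩ := exists_NrmA hab (nrm_pl hab hn hn')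
    obtain ⟨n2, hn2⟩ := hn1.exists_NrmB
    obtain ⟨n3, hn3⟩ := hn2.exists_NrmC
    obtain ⟨c, d, hd⟩ := hab.exists_Dual
    obtain ⟨y, hy, hyd⟩ := exists_pre hn3 hd
    exact ⟨y, c, d, ⟨hy, fun x hx => hy.exists_e hd hyd hx⟩, hd, hyd⟩
  obtain ⟨y, c, d, hy, hd, hyd⟩ := hpre v w h
  exact ⟨y, hy.pre.isX hd hyd fun x hx => hy.comm_b (fun a b hab => by
    obtain ⟨y', _, _, hy', _, _⟩ := hpre a b hab
    exact ⟨y', hy'⟩) hx⟩

namespace IsX

theorem pre {y : G} (hy : IsX C v w y) : IsPre C v w y :=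
  ⟨hy.ln, hy.sq, hy.conj_t, fun x hx => hy.comm x (QU_le_FU C.S hx)⟩

theorem comm_b {y : G} (hy : IsX C v w y) {x : V} (hx : x ∈ perp C.S (pl v w)) : y * C.b x = C.b x * y :=
  hy.comm _ fun u hu => by rw [C.S.hτ, C.S.symm, hx u hu, zero_smul, add_zero]

theorem unique {y y' : G} (hy : IsX C v w y) (hy' : IsX C v w y') :
    ∃ e : ZMod 2, y' = y * (q C.S v (e • w) 0 : C.L) := by
  have hfinV := C.finV
  have h := hy.ln
  obtain ⟨a, ha, haa⟩ := hy.pre.unique hy'.pre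
  obtain ⟨c, d, hd⟩ := h.exists_Dual
  have hdP := hd.dd_mem h
  have hd0 : ∀ u ∈ pl v w, u ≠ 0 → C.S.ρ (dd C.S v w c d) u ≠ u := fun u hu hu0 => hd.dd_ne h hu hu0
  have k1 : Commute y ((dd C.S v w c d : C.L) : G) := hy.comm3 _ hdP hd0
  have k2 : Commute y' ((dd C.S v w c d : C.L) : G) := hy'.comm3 _ hdP hd0
  have h4 : (a : G) = y * y' := by rw [haa, ← mul_assoc, hy.sq, one_mul]
  have c7 : dd C.S v w c d * a = a * dd C.S v w c d := by
    apply Subtype.ext
    change ((dd C.S v w c d : C.L) : G) * a = a * (dd C.S v w c d : C.L)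
    rw [h4]
    exact (k1.symm.mul_right k2.symm).eq
  obtain ⟨e, he⟩ := h.sp_of_commute hdP hd0 ha c7
  exact ⟨e, by rw [haa, he]⟩

theorem of_mem {y : G} (hy : IsX C v w y) {a b : V} (ha : a ∈ pl v w) (hb : b ∈ pl v w) (ha0 : a ≠ 0)
    (hab : b ∉ SpTwo.ln a) : IsX C a b y := by
  have h1 := hy.ln.pl_eq_of_mem ha hb ha0 hab
  have h2 := hy.ln.q_of_mem ha hb ha0 hab
  refine ⟨hy.ln.of_mem ha hb ha0 hab, hy.sq, by rw [h2]; exact hy.conj_t, ?_, ?_⟩
  · rw [h1]; exact hy.comm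
  · rw [h1]; exact hy.comm3

theorem mul_sp {y : G} (hy : IsX C v w y) (e : ZMod 2) : IsX C v w (y * (q C.S v (e • w) 0 : C.L)) := by
  have hfinV := C.finV
  have h := hy.ln
  rcases z2 e with rfl | rfl
  · rw [zero_smul, q_zero]
    change IsX C v w (y * 1)
    rwa [mul_one]
  rw [one_smul]
  have hs : ((q C.S v w 0 : C.L) : G) * (q C.S v w 0 : C.L) = 1 := congrArg Subtype.val (q_sq C.S h.hwv 0)
  have hys := hy.pre.comm_s
  have hst := t_comm C (q C.S v w 0)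
  have hmem : q C.S v w 0 ∈ AU C.S (pl v w) := by
    have := h.sp_mem 1
    rwa [one_smul] at this
  refine ⟨h, ?_, ?_, ?_, ?_⟩
  · calc y * (q C.S v w 0 : C.L) * (y * (q C.S v w 0 : C.L)) = y * ((q C.S v w 0 : C.L) * y) * (q C.S v w 0 : C.L) := by
          group
      _ = (y * y) * ((q C.S v w 0 : C.L) * (q C.S v w 0 : C.L)) := by rw [← hys]; group
      _ = 1 := by rw [hy.sq, hs, one_mul]
  · calc y * (q C.S v w 0 : C.L) * C.t * (y * (q C.S v w 0 : C.L)) =
          y * ((q C.S v w 0 : C.L) * C.t) * (y * (q C.S v w 0 : C.L)) := by group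
      _ = (y * C.t) * ((q C.S v w 0 : C.L) * y) * (q C.S v w 0 : C.L) := by rw [hst]; group
      _ = (y * C.t * y) * ((q C.S v w 0 : C.L) * (q C.S v w 0 : C.L)) := by rw [← hys]; group
      _ = _ := by rw [hy.conj_t, hs, mul_one]
  · intro m hm
    have h1 : ((q C.S v w 0 : C.L) : G) * m = m * (q C.S v w 0 : C.L) := congrArg Subtype.val (AU_comm C.S hmem hm)
    rw [mul_assoc, h1, ← mul_assoc, hy.comm m hm, mul_assoc]
  · intro m hm hm0
    have h1 : (m : G) * (q C.S v w 0 : C.L) = (q C.S v w 0 : C.L) * m :=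
      congrArg Subtype.val ((commute_s_iff C.S h.hv h.hw h.hvw).2 hm)
    rw [mul_assoc, ← h1, ← mul_assoc, hy.comm3 m hm hm0, mul_assoc]

theorem conj_L {y : G} (hy : IsX C v w y) (m : C.L) :
    IsX C (C.S.ρ m v) (C.S.ρ m w) ((m : G) * y * (m : G)⁻¹) := by
  have hfinV := C.finV
  have h := hy.ln
  have hms' : (m : G) * (q C.S v w 0 : C.L) * (m : G)⁻¹ = (q C.S (C.S.ρ m v) (C.S.ρ m w) 0 : C.L) :=
    congrArg Subtype.val (q_conj C.S m 0)
  have hmt : (m : G)⁻¹ * C.t * m = C.t := by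
    rw [mul_assoc, ← t_comm, ← mul_assoc, inv_mul_cancel, one_mul]
  have hcomm : ∀ x : C.L, y * ((m⁻¹ * x * m : C.L) : G) = ((m⁻¹ * x * m : C.L) : G) * y →
      (m : G) * y * (m : G)⁻¹ * (x : G) = (x : G) * ((m : G) * y * (m : G)⁻¹) := by
    intro x h2
    have h2' : y * ((m : G)⁻¹ * x * m) = ((m : G)⁻¹ * x * m) * y := h2
    calc (m : G) * y * (m : G)⁻¹ * x = m * (y * ((m : G)⁻¹ * x * m)) * (m : G)⁻¹ := by group
      _ = m * (((m : G)⁻¹ * x * m) * y) * (m : G)⁻¹ := by rw [h2']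
      _ = _ := by group
  have hmul : ∀ (x : C.L) (u : V), C.S.ρ (m⁻¹ * x * m) u = C.S.ρ m⁻¹ (C.S.ρ x (C.S.ρ m u)) := by
    intro x u
    rw [C.S.ρ_mul, C.S.ρ_mul]
  refine ⟨h.map m, ?_, ?_, ?_, ?_⟩
  · calc (m : G) * y * (m : G)⁻¹ * ((m : G) * y * (m : G)⁻¹) = m * (y * y) * (m : G)⁻¹ := by group
      _ = 1 := by rw [hy.sq]; group
  · calc (m : G) * y * (m : G)⁻¹ * C.t * ((m : G) * y * (m : G)⁻¹) =
        m * (y * ((m : G)⁻¹ * C.t * m) * y) * (m : G)⁻¹ := by group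
      _ = (m : G) * C.t * (q C.S v w 0 : C.L) * (m : G)⁻¹ := by rw [hmt, hy.conj_t]; group
      _ = C.t * ((m : G) * (q C.S v w 0 : C.L) * (m : G)⁻¹) := by rw [t_comm]; group
      _ = _ := by rw [hms']
  · intro x hx
    apply hcomm
    apply hy.comm
    apply mem_FU_pl
    · rw [hmul, hx _ (left_mem_pl _ _), C.S.ρ_inv_apply]
    · rw [hmul, hx _ (right_mem_pl _ _), C.S.ρ_inv_apply]
  · intro x hx hx0
    apply hcomm
    have hback : ∀ u ∈ pl (C.S.ρ m v) (C.S.ρ m w), C.S.ρ m⁻¹ u ∈ pl v w := by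
      intro u hu
      have := map_pl (D := C.S) m⁻¹ hu
      rwa [C.S.ρ_inv_apply, C.S.ρ_inv_apply] at this
    apply hy.comm3
    · apply mem_PU_pl
      · rw [hmul]; exact hback _ ((hx _).2 (left_mem_pl _ _))
      · rw [hmul]; exact hback _ ((hx _).2 (right_mem_pl _ _))
    · intro u hu hu0 h1
      refine hx0 _ (map_pl m hu) (fun h2 => hu0 (C.S.ρ_inj m (by rw [h2, map_zero]))) ?_
      apply C.S.ρ_inj m⁻¹
      rw [C.S.ρ_inv_apply, ← hmul, h1]

end IsX

/-- **one `δ`**: the elements inducing a transposition on `ℓ` map `y_ℓ` to `y_ℓ s_ℓ^δ` -/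
theorem exists_delta (C : Ctx G V) : ∃ δ : ZMod 2, ∀ a b y, IsX C a b y → ∀ m : C.L, C.S.ρ m a = a →
    C.S.ρ m b = a + b → (m : G) * y * (m : G)⁻¹ = y * (q C.S a (δ • b) 0 : C.L) := by
  have hfinV := C.finV
  by_cases hex : ∃ a b y, IsX C a b y
  swap
  · exact ⟨0, fun a b y hy => absurd ⟨a, b, y, hy⟩ hex⟩
  obtain ⟨a0, b0, y0, hy0⟩ := hex
  have h0 := hy0.ln
  obtain ⟨m0, hm0, hm0'⟩ := trans_pl C.S h0.hv h0.hw h0.hvw h0.right_add.hv h0.right_add.hw h0.right_add.hvw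
  have h1 := hy0.conj_L m0
  rw [hm0, hm0'] at h1
  have h2 : IsX C a0 b0 ((m0 : G) * y0 * (m0 : G)⁻¹) :=
    h1.of_mem (left_mem_pl _ _) (by
      have := add_mem (left_mem_pl a0 (a0 + b0)) (right_mem_pl a0 (a0 + b0))
      rwa [aac] at this) h0.hv h0.hw
  obtain ⟨δ, hδ⟩ := hy0.unique h2
  refine ⟨δ, fun a b y hy m hma hmb => ?_⟩
  have h := hy.ln
  obtain ⟨g, hga, hgb⟩ := trans_pl C.S h0.hv h0.hw h0.hvw h.hv h.hw h.hvw
  have h3 := hy0.conj_L g
  rw [hga, hgb] at h3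
  obtain ⟨e, he⟩ := h3.unique hy
  set m' := g * m0 * g⁻¹ with hm'
  have hm'a : C.S.ρ m' a = a := by
    rw [hm', C.S.ρ_mul, C.S.ρ_mul, ← hga, C.S.ρ_inv_apply, hm0]
  have hm'b : C.S.ρ m' b = a + b := by
    rw [hm', C.S.ρ_mul, C.S.ρ_mul, ← hgb, C.S.ρ_inv_apply, hm0', map_add, hga, hgb]
  have hm'P : m' ∈ PU C.S (pl a b) := by
    apply mem_PU_pl
    · rw [hm'a]; exact left_mem_pl _ _
    · rw [hm'b]; exact add_mem (left_mem_pl _ _) (right_mem_pl _ _)
  have hk : m * m'⁻¹ ∈ FU C.S (pl a b) := by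
    have e1 : C.S.ρ m'⁻¹ a = a := by
      apply C.S.ρ_inj m'
      rw [C.S.ρ_apply_inv, hm'a]
    have e2 : C.S.ρ m'⁻¹ b = a + b := by
      apply C.S.ρ_inj m'
      rw [C.S.ρ_apply_inv, map_add, hm'a, hm'b, aac]
    apply mem_FU_pl
    · rw [C.S.ρ_mul, e1, hma]
    · rw [C.S.ρ_mul, e2, map_add, hma, hmb, aac]
  -- the conjugate by `m'`
  have hsp : ∀ f : ZMod 2, (m' : G) * (q C.S a (f • b) 0 : C.L) * (m' : G)⁻¹ = (q C.S a (f • b) 0 : C.L) := by
    intro f
    rcases z2 f with rfl | rfl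
    · rw [zero_smul, q_zero]
      change (m' : G) * 1 * (m' : G)⁻¹ = 1
      group
    · rw [one_smul]
      have : m' * q C.S a b 0 * m'⁻¹ = q C.S a b 0 := by
        rw [(commute_s_iff C.S h.hv h.hw h.hvw).2 hm'P, mul_inv_cancel_right]
      exact congrArg Subtype.val this
  have hgs : (g : G) * (q C.S a0 (δ • b0) 0 : C.L) * (g : G)⁻¹ = (q C.S a (δ • b) 0 : C.L) := by
    have : g * q C.S a0 (δ • b0) 0 * g⁻¹ = q C.S a (δ • b) 0 := by
      rw [q_conj, hga, map_smul, hgb]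
    exact congrArg Subtype.val this
  have h4 : (m' : G) * y * (m' : G)⁻¹ = y * (q C.S a (δ • b) 0 : C.L) := by
    have e1 : (m' : G) = g * m0 * (g : G)⁻¹ := rfl
    calc (m' : G) * y * (m' : G)⁻¹ = (m' : G) * ((g : G) * y0 * (g : G)⁻¹) * (m' : G)⁻¹ *
          ((m' : G) * (q C.S a (e • b) 0 : C.L) * (m' : G)⁻¹) := by rw [he]; group
      _ = (g : G) * ((m0 : G) * y0 * (m0 : G)⁻¹) * (g : G)⁻¹ * (q C.S a (e • b) 0 : C.L) := by
          rw [hsp, e1]; group
      _ = (g : G) * y0 * (g : G)⁻¹ * ((g : G) * (q C.S a0 (δ • b0) 0 : C.L) * (g : G)⁻¹) *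
          (q C.S a (e • b) 0 : C.L) := by rw [hδ]; group
      _ = (g : G) * y0 * (g : G)⁻¹ * ((q C.S a (δ • b) 0 : C.L) * (q C.S a (e • b) 0 : C.L)) := by
          rw [hgs]; group
      _ = (g : G) * y0 * (g : G)⁻¹ * ((q C.S a (e • b) 0 : C.L) * (q C.S a (δ • b) 0 : C.L)) := by
          have : q C.S a (δ • b) 0 * q C.S a (e • b) 0 = q C.S a (e • b) 0 * q C.S a (δ • b) 0 := by
            rw [h.sp_add, h.sp_add, add_comm]
          have this' : ((q C.S a (δ • b) 0 : C.L) : G) * (q C.S a (e • b) 0 : C.L) =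
            (q C.S a (e • b) 0 : C.L) * (q C.S a (δ • b) 0 : C.L) := congrArg Subtype.val this
          rw [this']
      _ = _ := by rw [he]; group
  have h5 : Commute ((m * m'⁻¹ : C.L) : G) y := (hy.comm _ hk).symm
  have h6 : Commute ((m * m'⁻¹ : C.L) : G) ((q C.S a (δ • b) 0 : C.L) : G) := by
    have := AU_comm C.S (h.sp_mem δ) hk
    exact (congrArg Subtype.val this.symm)
  have h7 := (h5.mul_right h6).eq
  have e1 : ((m * m'⁻¹ : C.L) : G) = m * (m' : G)⁻¹ := rfl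
  rw [e1] at h7
  calc (m : G) * y * (m : G)⁻¹ = (m * (m' : G)⁻¹) * ((m' : G) * y * (m' : G)⁻¹) * (m * (m' : G)⁻¹)⁻¹ := by group
    _ = (m * (m' : G)⁻¹) * (y * (q C.S a (δ • b) 0 : C.L)) * (m * (m' : G)⁻¹)⁻¹ := by rw [h4]
    _ = _ := by rw [h7]; group

end Cfsg.Agent.OddHalf.SpTwo

end

-- merged: Cfsg.Agent.OddHalf.SpTwo.AsmShort
section

/-!
# The input `short` of the assembly (`SpTwoN.Asm.Inputs`)
-/

set_option autoImplicit false

namespace Cfsg.Agent.OddHalf.SpTwo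

open Cfsg.Agent.StandardComponent.SpTwo
open Cfsg.Agent.OddHalf.SpTwoN Cfsg.Agent.OddHalf.SpTwoN.LBStart

theorem sg_eq_q {X V : Type*} [Group X] [AddCommGroup V] [Module (ZMod 2) V] (D : SpData X V) (u v : V) :
    Words.sg D u v = q D u v 0 := by
  rw [Words.sg, q, zero_smul, D.τ_zero, mul_one]

theorem short_of_PQ {G V : Type*} [Group G] [Finite G] [AddCommGroup V] [Module (ZMod 2) V] (C : Ctx G V)
    (h0 : PQ C 0) {u w : V} (huw : C.S.B u w = 0) (hu : u ≠ 0) (hw : w ≠ 0) (hne : u ≠ w) :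
    ∃ y : G, y * y = 1 ∧ y * C.t * y = C.t * ((Words.sg C.S u w : C.L) : G) ∧
      ∀ e, C.S.B u e = 0 → C.S.B w e = 0 → y * C.b e = C.b e * y := by
  have hln : IsLn C.S u w := by
    refine ⟨hu, fun h1 => ?_, huw⟩
    rcases mem_ln.1 h1 with h2 | h2
    · exact hw h2
    · exact hne h2.symm
  obtain ⟨g, hg⟩ := h0 u w hu huw hln.hw
  obtain ⟨y, hy⟩ := exists_x C ⟨g, u, w, hln, hg.symm⟩ hln
  refine ⟨y, hy.sq, ?_, fun e h1 h2 => ?_⟩
  · rw [sg_eq_q]; exact hy.conj_t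
  · exact hy.comm_b ((mem_perp_pl C.S).2 ⟨by rw [C.S.symm]; exact h1, by rw [C.S.symm]; exact h2⟩)

end Cfsg.Agent.OddHalf.SpTwo

end

-- merged: Cfsg.Agent.OddHalf.SpTwo.EndCOCtx
section

/-!
# `Sp₂ₙ(2)`, pattern `(C, O)` on `SpTwoN.Ctx`

The input `co` of `SpTwoN.Asm.Inputs`.
-/

set_option autoImplicit false

namespace Cfsg.Agent.OddHalf.SpTwo.EndCOCtx

open Cfsg.Agent.StandardComponent.SpTwo
open Cfsg.Agent.OddHalf.SpTwoN
open Cfsg.Agent.OddHalf.SpTwo.EndCC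

variable {G V : Type*} [Group G] [AddCommGroup V] [Module (ZMod 2) V]

/-- the context without the conditions on `V` -/
def loc (C : Ctx G V) : EndCC.Loc G V where
  t := C.t
  tt := C.tt
  L := C.L
  S := C.S
  cent := C.cent
  tL := C.tL

theorem eqv {C : Ctx G V} {y : V → G} (Y : YBase C y) (h : Asm.CO C y) : EndCO.Loc.Eqv (loc C) y where
  Y u _ := by
    refine ⟨Y.sq u, ?_, ?_⟩
    · change y u * C.t * y u = C.t * C.b u
      have h1 := Y.conj_t u
      calc y u * C.t * y u = (C.t * C.t) * y u * C.t * y u := by rw [C.tt, one_mul]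
        _ = C.t * (C.t * y u * C.t) * y u := by group
        _ = C.t * C.b u * (y u * y u) := by rw [h1]; group
        _ = _ := by rw [Y.sq, mul_one]
    · intro x hx hxb
      exact Y.comm_L (((loc C).commute_iff ⟨x, hx⟩ u).1 hxb)
  eqv x u _ := Y.equiv x u
  br u v huv := by
    obtain ⟨hu, hv, hne, hB⟩ := huv
    have h1 := h u v hu hv hne hB
    change y u * y v = C.b (u + v) * (y v * y u)
    rw [← h1]
    calc y u * y v = y u * y v * (y u * (y v * y v) * y u) := by rw [Y.sq, mul_one, Y.sq, mul_one]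
      _ = _ := by group

/-- the pattern `(C, O)` -/
theorem exists_hom [Finite G] {C : Ctx G V} {y : V → G} (Y : YBase C y) (h : Asm.CO C y) :
    ∃ m : G →* ℤˣ, m C.t = -1 := by
  have := C.finV
  exact EndCO.Loc.exists_hom (eqv Y h) C.cardV

end Cfsg.Agent.OddHalf.SpTwo.EndCOCtx

end

-- merged: Cfsg.Agent.OddHalf.SpTwoN.RowTwo
section

/-!
# The row `K = Sp_2n(2)`, `n ≥ 4`

`inputs`: the inputs of the assembly; `false_of_psp`: no standard `K ≃* PSp m F`, `|F| = 2`, `m ≥ 4`.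
-/

set_option autoImplicit false

namespace Cfsg.Agent.OddHalf.SpTwoN.RowTwo

open Cfsg Cfsg.Agent.OddHalf

universe u

theorem inputs : Asm.Inputs.{u} where
  short _ _ _ _ _ _ C h0 _ _ huw hu hw hne := SpTwo.short_of_PQ C h0 huw hu hw hne
  kappa _ _ _ _ _ _ C hL h0 _ :=
    KappaKill.kappa C (fun _ _ huw hu hw hne => SpTwo.short_of_PQ C h0 huw hu hw hne) hL
  co _ _ _ _ _ _ _ _ Y h := SpTwo.EndCOCtx.exists_hom Y h

/-- **The row.** -/
theorem false_of_psp {G : Type u} [Group G] (C₀ : Iface.Ctx G) {K : Subgroup G} (S : Iface.Std G K)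
    (hcyc : Iface.Cyc K) {m : ℕ} (hm : 4 ≤ m) {F : Type*} [Field F] [Fintype F] (hF : Fintype.card F = 2)
    (e : K ≃* PSp m F) : False :=
  Asm.false_of_inputs inputs C₀ S hcyc hm hF e

end Cfsg.Agent.OddHalf.SpTwoN.RowTwo

end
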